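import Mathlib

/-!
# ODD half, D8, K = Ru: the facts on `K` used for the existence of the family (helper936)

Throughout `z` is a 2-central involution of `K` (class 2A), `P₀ = C_K(z)^∞` (of index 2 in `C_K(z)`, order 122880),
`R = O₂(P₀)` (order `2¹¹`), `E = [R, R]` (order 32), `B = C_K(E)` (order 128).

* `Loc K z P₀ R B E`: packet P;
* `Plane K z P₀ R B E k u ρ g j e₀ e₁ g₂ eb j₂ x₂ h f`: packet PI, explicit elements of `C_K(Π)`, `Π = ⟨z, u, u^ρ⟩`;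
* `Twist K z P₀ k₂ k₃ v f₂`: packet TW.

Everything is stated for a subgroup `K` of a group `G`. The typists of the K-facts prove them for `G = X`, `K = ⊤`;
`Loc.map`, `Plane.map`, `Twist.map` (file `Map.lean`) transport them along an injective homomorphism.

**The words** (letters of `RuD.Letters`: 0 T, 1 S, 2 W, 3 F, 4 D, 5 Y, 6 S⁻¹, 7 F⁻¹, 8 D⁻¹; `G [i, ..]` = products of the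
generators of `XR.R` in `D9/Ru/XData.gw`, `h₀` = `XCover.hw`; all checked by machine in this convention):
`z = [1,1]`, `P₀ = XDef.P1`, `R = XR.R`, `E = XR.E`, `B = E ⟨G[0,1,3], G[1,4,5]⟩`;
`a = [0,4,5]`, `n = h₀ G[2,3,4,6] [8]`, `r₁ = G[0]`;
`k = [3]`, `u = [3,1,1,7] = G[6]`, `ρ = [4]`, `g = h₀ G[1,3,4,7] [4,0]` (an involution), `j = G[0,1,3]`,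
`e₀ = F G[9] F⁻¹ = G[0,1,3,4,5,6,8]`, `e₁ = F G[8,9] F⁻¹ = G[1,3,7,10] [8,0,4]`, `g₂ = G[2]`, `eb = x₂ = G[8,9]`,
`j₂ = x₂ (ρ e₀ ρ⁻¹) (ρ ρ e₀ e₁ ρ⁻¹ ρ⁻¹)`, `h = [3,5,0,7]`, `f = G[1,2]`;
`k₂ = [3,5,7]`, `k₃ = [3,0,5,7]`, `v = h z h⁻¹ = G[0,1,3,4,5,8]`, `f₂ = h₀ G[1,4] [0,4,0]`.
-/

set_option autoImplicit false

namespace Cfsg.Agent.OddHalf.D8.RuFam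

open Subgroup

variable {G : Type*} [Group G]

/-- packet P -/
structure Loc (K : Subgroup G) (z : G) (P₀ R B E : Subgroup G) : Prop where
  zK : z ∈ K
  zz : z * z = 1
  z1 : z ≠ 1
  PK : P₀ ≤ K
  Pz : ∀ p ∈ P₀, p * z = z * p
  perf : ⁅P₀, P₀⁆ = P₀
  /-- `C_K(z)/P₀` is abelian -/
  com : ∀ p ∈ K, ∀ q ∈ K, p * z = z * p → q * z = z * q → p * q * p⁻¹ * q⁻¹ ∈ P₀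
  /-- `C_K(z)/P₀` has order at most 2 -/
  idx : ∀ p ∈ K, ∀ q ∈ K, p * z = z * p → q * z = z * q → p ∉ P₀ → q ∉ P₀ → p * q ∈ P₀
  card : ¬ 25 ∣ Nat.card P₀
  RP : R ≤ P₀
  R2 : IsPGroup 2 R
  Rn : ∀ p ∈ P₀, ∀ r ∈ R, p * r * p⁻¹ ∈ R
  /-- `R = O₂(P₀)` -/
  Rmax : ∀ Q ≤ P₀, IsPGroup 2 Q → (∀ p ∈ P₀, ∀ q ∈ Q, p * q * p⁻¹ ∈ Q) → Q ≤ R
  RR : ⁅R, R⁆ = E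
  zE : z ∈ E
  EE : ∀ e ∈ E, e * e = 1
  RE : ∀ r ∈ R, ∀ e ∈ E, r * e * r⁻¹ * e⁻¹ = 1 ∨ r * e * r⁻¹ * e⁻¹ = z
  /-- `C_E(R) = ⟨z⟩` -/
  ZR : ∀ e ∈ E, (∀ r ∈ R, e * r = r * e) → e = 1 ∨ e = z
  BR : B ≤ R
  /-- `B = C_K(E)` -/
  cenE : ∀ k ∈ K, (k ∈ B ↔ ∀ e ∈ E, k * e = e * k)
  BP : ∀ b ∈ B, ∀ p ∈ P₀, p * b * p⁻¹ * b⁻¹ ∈ E
  BB : ∀ b ∈ B, ∀ c ∈ B, b * c * b⁻¹ * c⁻¹ = 1 ∨ b * c * b⁻¹ * c⁻¹ = z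
  /-- `{b ∈ B | [b, R] ≤ ⟨z⟩} = E` -/
  BE : ∀ b ∈ B, (∀ r ∈ R, b * r * b⁻¹ * r⁻¹ = 1 ∨ b * r * b⁻¹ * r⁻¹ = z) → b ∈ E
  /-- `R = [R, P₀]` -/
  RRP : R ≤ ⁅R, P₀⁆
  /-- `Hom_{P₀}(R/B, E/⟨z⟩)` consists of the maps `r ↦ [b, r]`, `b ∈ B` -/
  hom4 : ∃ r₁ ∈ R, (∀ Q : Subgroup G, B ≤ Q → r₁ ∈ Q → (∀ p ∈ P₀, ∀ q ∈ Q, p * q * p⁻¹ ∈ Q) → R ≤ Q) ∧
    ∀ e ∈ E, (∀ p ∈ P₀, p * r₁ * p⁻¹ * r₁⁻¹ ∈ B → p * e * p⁻¹ * e⁻¹ = 1 ∨ p * e * p⁻¹ * e⁻¹ = z) →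
      ∃ b ∈ B, b * r₁ * b⁻¹ * r₁⁻¹ = e ∨ b * r₁ * b⁻¹ * r₁⁻¹ = e * z
  /-- every homomorphism `R/B → ⟨z⟩` is `r ↦ [e, r]`, `e ∈ E` -/
  dual : ∀ Q ≤ R, B ≤ Q → (∀ r ∈ R, ∀ s ∈ R, r ∉ Q → s ∉ Q → r * s ∈ Q) →
    ∃ e ∈ E, ∀ r ∈ R, (r ∈ Q ↔ e * r = r * e)
  /-- an element `a` of order 5, irreducible on `E/⟨z⟩` -/
  five : ∃ a ∈ P₀, a ^ 5 = 1 ∧ a ≠ 1 ∧ (∃ n ∈ K, n * z = z * n ∧ n * a * n⁻¹ = a ^ 2) ∧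
    ∀ Q ≤ E, z ∈ Q → (∀ q ∈ Q, a * q * a⁻¹ ∈ Q) → (∀ q ∈ Q, q = 1 ∨ q = z) ∨ Q = E

/-- packet PI: `u = k z k⁻¹ ∈ E`, `Π = ⟨z, u, ρ u ρ⁻¹⟩`; `k E k⁻¹ = Π ⟨e₀, e₁⟩` -/
structure Plane (K : Subgroup G) (z : G) (P₀ R B E : Subgroup G) (k u ρ g j e₀ e₁ g₂ eb j₂ x₂ h f : G) :
    Prop where
  kK : k ∈ K
  ku : k * z * k⁻¹ = u
  uE : u ∈ E
  zEu : k⁻¹ * z * k ∈ E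
  ρP : ρ ∈ P₀
  ρ3 : ρ * ρ * ρ = 1
  ρu : u * (ρ * u * ρ⁻¹) * (ρ * ρ * u * ρ⁻¹ * ρ⁻¹) = 1
  uEu : k⁻¹ * (ρ * u * ρ⁻¹) * k ∈ E
  /-- `C_E(ρ) = ⟨z⟩` -/
  ρE : ∀ e ∈ E, ρ * e = e * ρ → e = 1 ∨ e = z
  gK : g ∈ K
  gz : g * z = z * g
  gρ : g * ρ * g⁻¹ = ρ⁻¹
  gu : g * u = u * g
  e₀E : k⁻¹ * e₀ * k ∈ E
  e₀R : e₀ ∈ R
  e₁E : k⁻¹ * e₁ * k ∈ E
  e₁P : e₁ ∈ P₀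
  gen : ∀ x ∈ E, k * x * k⁻¹ ∈ closure ({z, u, ρ * u * ρ⁻¹, e₀, e₁} : Set G)
  /-- an element of `E` commuting with `{c ∈ R | [e₁, c] ∈ E}` lies in `Π` -/
  test : ∀ ζ ∈ E, (∀ c ∈ R, e₁ * c * e₁⁻¹ * c⁻¹ ∈ E → ζ * c = c * ζ) →
    ζ ∈ closure ({z, u, ρ * u * ρ⁻¹} : Set G)
  jB : j ∈ B
  N₀ : e₀ * (ρ * e₀ * ρ⁻¹) * (ρ * ρ * e₀ * ρ⁻¹ * ρ⁻¹) * (j * (g * j * g⁻¹))⁻¹ ∈ E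
  N₁ : e₁ * (ρ * e₁ * ρ⁻¹) * (ρ * ρ * e₁ * ρ⁻¹ * ρ⁻¹) ∈ E
  ge₁ : g * e₁ * g⁻¹ * e₁⁻¹ ∈ E
  /-- `B = E ⟨j, g j g⁻¹⟩` -/
  Bj : ∀ b ∈ B, b ∈ E ∨ j⁻¹ * b ∈ E ∨ (g * j * g⁻¹)⁻¹ * b ∈ E ∨ (j * (g * j * g⁻¹))⁻¹ * b ∈ E
  g₂R : g₂ ∈ R
  jgen : j ∈ closure ((E : Set G) ∪ {e₀, e₁, ρ * e₀ * ρ⁻¹, ρ * e₁ * ρ⁻¹, ρ * ρ * e₀ * ρ⁻¹ * ρ⁻¹,
    ρ * ρ * e₁ * ρ⁻¹ * ρ⁻¹, g₂ * (ρ * e₀ * ρ⁻¹) * g₂⁻¹, g₂ * (ρ * e₁ * ρ⁻¹) * g₂⁻¹})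
  ebE : eb ∈ E
  eb₀ : eb * e₀ * eb⁻¹ * e₀⁻¹ = 1
  eb₁ : eb * e₁ * eb⁻¹ * e₁⁻¹ = u
  j₂B : k⁻¹ * j₂ * k ∈ B
  x₂E : x₂ ∈ E
  j₂e : j₂ = x₂ * (ρ * e₀ * ρ⁻¹) * (ρ * ρ * (e₀ * e₁) * ρ⁻¹ * ρ⁻¹)
  kap : eb * j₂ * eb⁻¹ * j₂⁻¹ * (ρ * ρ * u * ρ⁻¹ * ρ⁻¹) = u * z
  h₀ : h * h * h = 1
  hK : h ∈ K
  hu : h * u = u * h
  hE : ∀ x ∈ E, k⁻¹ * (h⁻¹ * (k * x * k⁻¹) * h) * k ∈ E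
  hj : k⁻¹ * (j₂⁻¹ * (h⁻¹ * j₂ * h)) * k ∈ E
  hz : z * (h * z * h⁻¹) * (h⁻¹ * z * h) = 1
  fR : f ∈ R
  fR₁ : h⁻¹ * f * h ∈ R
  fR₂ : h * f * h⁻¹ ∈ R
  /-- `{b ∈ B^k | [b, f] ∈ ⟨z, z^h⟩} ≤ E^k` -/
  fb : ∀ b ∈ B, (∃ x : G, (x = 1 ∨ x = z ∨ x = h * z * h⁻¹ ∨ x = h⁻¹ * z * h) ∧
    k * b * k⁻¹ * f * (k * b * k⁻¹)⁻¹ * f⁻¹ = x) → b ∈ E

/-- packet TW: `z, v, z v` is a line of type 240 -/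
structure Twist (K : Subgroup G) (z : G) (P₀ : Subgroup G) (k₂ k₃ v f₂ : G) : Prop where
  k₂K : k₂ ∈ K
  k₃K : k₃ ∈ K
  kv : k₂ * z * k₂⁻¹ = v
  kzv : k₃ * z * k₃⁻¹ = z * v
  vP : v ∈ P₀
  z₂ : k₂⁻¹ * z * k₂ ∈ P₀
  z₃ : k₃⁻¹ * z * k₃ ∈ P₀
  v₃ : k₃⁻¹ * v * k₃ ∈ P₀
  fK : f₂ ∈ K
  fz : f₂ * z = z * f₂
  fv : f₂ * v = v * f₂
  n₁ : f₂ ∉ P₀
  n₂ : k₂⁻¹ * f₂ * k₂ ∉ P₀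
  n₃ : k₃⁻¹ * f₂ * k₃ ∈ P₀
  /-- `f₂` commutes with the centraliser of `P₀ ∩ P₀^{k₂} ∩ P₀^{k₃}` -/
  cen : ∀ c ∈ K, (∀ x ∈ P₀, k₂⁻¹ * x * k₂ ∈ P₀ → k₃⁻¹ * x * k₃ ∈ P₀ → c * x = x * c) → c * f₂ = f₂ * c

end Cfsg.Agent.OddHalf.D8.RuFam
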