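import Cfsg.Agent.OddHalf.D9.Ru.XR

/-!
# ODD half, D8, K = Ru: the group `B = C_K(E)` of order 128 on `RuOrder.H`

`B = E ⟨G[0,1,3], G[1,4,5]⟩`; `B_list`: its elements; `B/E` has order 4, `E` is central in `B`.
-/

set_option autoImplicit false
set_option maxRecDepth 100000

namespace Cfsg.Agent.OddHalf.D8.RuFam.BDef

open Subgroup Cfsg.Agent.SporadicB Cfsg.Agent.RuD.Letters Cfsg.Agent.SporRec.TCUpperCert
open Cfsg.Agent.OddHalf.D9.Ru Cfsg.Agent.OddHalf.D9.Ru.XDef Cfsg.Agent.OddHalf.D9.Ru.XData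
open Cfsg.Agent.OddHalf.D9.Ru.XChk

/-- representatives of the cosets of `E` in `B` -/
def cs (c : ℕ) : List ℕ := [[], [0, 1, 3], [1, 4, 5], [0, 1, 3, 1, 4, 5]].getD c []

/-- the group `B` -/
noncomputable def B : Subgroup RuOrder.H := closure (XR.gE ∪ {G [0, 1, 3], G [1, 4, 5]})

/-- the multiplication table of the representatives -/
def mt : List (List (ℕ × ℕ)) := [[(0, 0), (1, 0), (2, 0), (3, 0)], [(1, 0), (0, 26), (3, 0), (2, 26)],
  [(2, 0), (3, 26), (0, 26), (1, 0)], [(3, 0), (2, 0), (1, 26), (0, 26)]]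

theorem chk_mt : ∀ c < 4, ∀ d < 4, eqw (gg (cs c ++ cs d))
    (gg (cs ((mt.getD c []).getD d (0, 0)).1 ++ msk ((mt.getD c []).getD d (0, 0)).2)) = true := by decide +kernel

theorem rng_mt : ∀ c < 4, ∀ d < 4, ((mt.getD c []).getD d (0, 0)).1 < 4 := by decide +kernel

theorem rng_msk : ∀ c < 4, ∀ d < 4, inr 6 11 (msk ((mt.getD c []).getD d (0, 0)).2) = true := by decide +kernel

theorem chk_cen : ∀ c < 4, ∀ i < 5, eqw (gg (cs c ++ [i + 6])) (gg ([i + 6] ++ cs c)) = true := by decide +kernel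

theorem msk_mem {m : ℕ} (hm : m < 32) : G (msk m) ∈ XR.E := by
  have key : ∀ m < 32, inr 6 11 (msk m) = true := by decide +kernel
  exact XR.G_mem_E (key m hm)

/-- the representatives centralise `E` -/
theorem cs_comm {c : ℕ} (hc : c < 4) : ∀ x ∈ XR.E, G (cs c) * x = x * G (cs c) := by
  have key : XR.E ≤ centralizer ({G (cs c)} : Set RuOrder.H) := by
    rw [XR.E, closure_le]
    rintro x ⟨i, hi, rfl⟩
    rw [SetLike.mem_coe, mem_centralizer_singleton_iff]
    have h := eqw_sound (chk_cen c hc i hi)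
    change G (cs c ++ [i + 6]) = G ([i + 6] ++ cs c) at h
    rw [G_append, G_append] at h
    exact h.symm
  intro x hx
  exact (mem_centralizer_singleton_iff.1 (key hx)).symm

theorem cs_mul {c d : ℕ} (hc : c < 4) (hd : d < 4) : ∃ k < 4, ∃ e ∈ XR.E, G (cs c) * G (cs d) = G (cs k) * e := by
  have h := eqw_sound (chk_mt c hc d hd)
  refine ⟨_, rng_mt c hc d hd, _, XR.G_mem_E (rng_msk c hc d hd), ?_⟩
  rw [← G_append, ← G_append]
  exact h

theorem cs_sq {c : ℕ} (hc : c < 4) : G (cs c) * G (cs c) ∈ XR.E := by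
  have h0 : ∀ c < 4, ((mt.getD c []).getD c (0, 0)).1 = 0 := by decide +kernel
  have h := eqw_sound (chk_mt c hc c hc)
  rw [h0 c hc] at h
  have h' : G (cs c ++ cs c) = G (msk ((mt.getD c []).getD c (0, 0)).2) := h
  rw [G_append] at h'
  rw [h']
  exact XR.G_mem_E (rng_msk c hc c hc)

/-- the elements of `B` -/
theorem exists_cs : ∀ b ∈ B, ∃ c < 4, ∃ e ∈ XR.E, b = G (cs c) * e := by
  intro b hb
  have hb' : b ∈ closure (XR.gE ∪ {G [0, 1, 3], G [1, 4, 5]}) := hb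
  clear hb
  induction hb' using closure_induction with
  | mem x hx =>
    rcases hx with hx | rfl | rfl
    · exact ⟨0, by norm_num, x, subset_closure hx, (one_mul x).symm⟩
    · exact ⟨1, by norm_num, 1, one_mem _, (mul_one _).symm⟩
    · exact ⟨2, by norm_num, 1, one_mem _, (mul_one _).symm⟩
  | one => exact ⟨0, by norm_num, 1, one_mem _, (mul_one _).symm⟩
  | mul x y hx hy ihx ihy =>
    obtain ⟨c, hc, e, he, rfl⟩ := ihx
    obtain ⟨d, hd, e', he', rfl⟩ := ihy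
    obtain ⟨k, hk, s, hs, h⟩ := cs_mul hc hd
    refine ⟨k, hk, s * (e * e'), mul_mem hs (mul_mem he he'), ?_⟩
    calc G (cs c) * e * (G (cs d) * e') = G (cs c) * (e * G (cs d)) * e' := by group
      _ = G (cs c) * (G (cs d) * e) * e' := by rw [cs_comm hd e he]
      _ = (G (cs c) * G (cs d)) * e * e' := by group
      _ = _ := by rw [h]; group
  | inv x hx ihx =>
    obtain ⟨c, hc, e, he, rfl⟩ := ihx
    refine ⟨c, hc, (G (cs c) * G (cs c))⁻¹ * e⁻¹, mul_mem (inv_mem (cs_sq hc)) (inv_mem he), ?_⟩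
    have h1 := cs_comm hc e⁻¹ (inv_mem he)
    calc (G (cs c) * e)⁻¹ = e⁻¹ * (G (cs c))⁻¹ := by group
      _ = (G (cs c))⁻¹ * (G (cs c) * e⁻¹) * (G (cs c))⁻¹ := by group
      _ = (G (cs c))⁻¹ * (e⁻¹ * G (cs c)) * (G (cs c))⁻¹ := by rw [h1]
      _ = _ := by group

theorem E_le_B : XR.E ≤ B := closure_mono Set.subset_union_left

theorem cs_mem_B {c : ℕ} (hc : c < 4) : G (cs c) ∈ B := by
  have h1 : G [0, 1, 3] ∈ B := subset_closure (Or.inr (Or.inl rfl))
  have h2 : G [1, 4, 5] ∈ B := subset_closure (Or.inr (Or.inr rfl))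
  interval_cases c
  · exact one_mem _
  · exact h1
  · exact h2
  · exact (G_append [0, 1, 3] [1, 4, 5]) ▸ mul_mem h1 h2

theorem mem_B {b : RuOrder.H} : b ∈ B ↔ ∃ c < 4, ∃ e ∈ XR.E, b = G (cs c) * e :=
  ⟨exists_cs b, by rintro ⟨c, hc, e, he, rfl⟩; exact mul_mem (cs_mem_B hc) (E_le_B he)⟩

/-- `b ∈ B` iff `b = G (cs c ++ msk m)` with `c < 4`, `m < 32` -/
theorem mem_B_msk {b : RuOrder.H} : b ∈ B ↔ ∃ c < 4, ∃ m < 32, b = G (cs c ++ msk m) := by
  rw [mem_B]
  constructor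
  · rintro ⟨c, hc, e, he, rfl⟩
    obtain ⟨m, hm, rfl⟩ := XR.exists_msk e he
    exact ⟨c, hc, m, hm, (G_append _ _).symm⟩
  · rintro ⟨c, hc, m, hm, rfl⟩
    exact ⟨c, hc, _, msk_mem hm, G_append _ _⟩

theorem B_le_R : B ≤ XR.R := by
  rintro b hb
  obtain ⟨c, hc, e, he, rfl⟩ := exists_cs b hb
  have key : ∀ c < 4, inr 0 11 (cs c) = true := by decide +kernel
  exact mul_mem (XR.G_mem_R (key c hc)) (XR.E_le_R he)

/-- `E` is central in `B` -/
theorem comm_BE : ∀ b ∈ B, ∀ e ∈ XR.E, b * e = e * b := by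
  intro b hb e he
  obtain ⟨c, hc, e', he', rfl⟩ := exists_cs b hb
  calc G (cs c) * e' * e = G (cs c) * (e' * e) := by group
    _ = G (cs c) * (e * e') := by rw [XR.E_comm e' he' e he]
    _ = (G (cs c) * e) * e' := by group
    _ = (e * G (cs c)) * e' := by rw [cs_comm hc e he]
    _ = _ := by group

/-- `b² ∈ E` -/
theorem sq_B : ∀ b ∈ B, b * b ∈ XR.E := by
  intro b hb
  obtain ⟨c, hc, e, he, rfl⟩ := exists_cs b hb
  have h : G (cs c) * e * (G (cs c) * e) = (G (cs c) * G (cs c)) * (e * e) := by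
    calc G (cs c) * e * (G (cs c) * e) = G (cs c) * (e * G (cs c)) * e := by group
      _ = G (cs c) * (G (cs c) * e) * e := by rw [cs_comm hc e he]
      _ = _ := by group
  rw [h]
  exact mul_mem (cs_sq hc) (mul_mem he he)

end Cfsg.Agent.OddHalf.D8.RuFam.BDef
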