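import Cfsg.Agent.OddHalf.D8.RuFam.WordX
import Cfsg.Agent.OddHalf.D8.RuFam.Facts

/-!
# ODD half, D8, K = Ru: packet PI (`Plane`) on `RuOrder.H`

All facts are identities between words in the letters of `RuD.Letters`, evaluated at the four base points.
-/

set_option autoImplicit false
set_option maxRecDepth 100000

namespace Cfsg.Agent.OddHalf.D8.RuFam.PlaneRu

open Subgroup Cfsg.Agent.SporadicB Cfsg.Agent.RuD.Letters Cfsg.Agent.SporRec.TCUpperCert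
open Cfsg.Agent.SporadicB.RuOrder Cfsg.Agent.SporRec.R3.Kernel
open Cfsg.Agent.OddHalf.D9.Ru Cfsg.Agent.OddHalf.D9.Ru.XDef Cfsg.Agent.OddHalf.D9.Ru.XData
open Cfsg.Agent.OddHalf.D9.Ru.XChk Cfsg.Agent.OddHalf.D8.RuFam.BDef Cfsg.Agent.OddHalf.D8.RuFam.WordX

/-! ### the words -/

def kW : List ℕ := [3]
def uW : List ℕ := [3, 1, 1, 7]
def ρW : List ℕ := [4]
def gqW : List ℕ := XCover.hw ++ (gW [1, 3, 4, 7] ++ [4, 0])
def jW : List ℕ := gW [0, 1, 3]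
def e₀W : List ℕ := 3 :: (gW [9] ++ [7])
def e₁W : List ℕ := 3 :: (gW [8, 9] ++ [7])
def g₂W : List ℕ := gW [2]
def xW : List ℕ := gW [8, 9]
def j₂W : List ℕ := xW ++ (4 :: (e₀W ++ (8 :: 4 :: 4 :: (e₀W ++ (e₁W ++ [8, 8])))))
def hW : List ℕ := [3, 5, 0, 7]
def fW : List ℕ := gW [1, 2]

/-! ### the elements -/

noncomputable def k : RuOrder.H := wprod ml kW
noncomputable def u : RuOrder.H := wprod ml uW
noncomputable def ρ : RuOrder.H := wprod ml ρW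
noncomputable def g : RuOrder.H := wprod ml gqW
noncomputable def j : RuOrder.H := G [0, 1, 3]
noncomputable def e₀ : RuOrder.H := wprod ml e₀W
noncomputable def e₁ : RuOrder.H := wprod ml e₁W
noncomputable def g₂ : RuOrder.H := G [2]
noncomputable def eb : RuOrder.H := G [8, 9]
noncomputable def j₂ : RuOrder.H := wprod ml j₂W
noncomputable def x₂ : RuOrder.H := G [8, 9]
noncomputable def h : RuOrder.H := wprod ml hW
noncomputable def f : RuOrder.H := G [1, 2]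

/-! the expressions -/
def kX : X := .w kW
def uX : X := .w uW
def ρX : X := .w ρW
def gX : X := .w gqW
def jX : X := .w jW
def e₀X : X := .w e₀W
def e₁X : X := .w e₁W
def g₂X : X := .w g₂W
def xX : X := .w xW
def j₂X : X := .w j₂W
def hX : X := .w hW
def fX : X := .w fW

/-- `a b a⁻¹` -/
def X.cj (a b : X) : X := .mul (.mul a b) (.inv a)
/-- `a⁻¹ b a` -/
def X.jc (a b : X) : X := .mul (.mul (.inv a) b) a
/-- `a b a⁻¹ b⁻¹` -/
def X.cm (a b : X) : X := .mul (.mul (.mul a b) (.inv a)) (.inv b)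
/-- `ρ ρ b ρ⁻¹ ρ⁻¹` -/
def ρρX (b : X) : X := .mul (.mul (.mul (.mul ρX ρX) b) (.inv ρX)) (.inv ρX)

/-! ### the elementary fields -/

theorem ku : k * (S * S) * k⁻¹ = u :=
  X.eq_of (x := X.cj kX .zz) (y := uX) (by decide +kernel)
theorem uE : u ∈ XR.E := X.mem_E (x := uX) 1 (by norm_num) (by decide +kernel)
theorem zEu : k⁻¹ * (S * S) * k ∈ XR.E := X.mem_E (x := X.jc kX .zz) 24 (by norm_num) (by decide +kernel)
theorem ρ3 : ρ * ρ * ρ = 1 :=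
  X.eq_of (x := .mul (.mul ρX ρX) ρX) (y := .w []) (by decide +kernel)
theorem ρu : u * (ρ * u * ρ⁻¹) * (ρ * ρ * u * ρ⁻¹ * ρ⁻¹) = 1 :=
  X.eq_of (x := .mul (.mul uX (X.cj ρX uX)) (ρρX uX)) (y := .w []) (by decide +kernel)
theorem uEu : k⁻¹ * (ρ * u * ρ⁻¹) * k ∈ XR.E :=
  X.mem_E (x := X.jc kX (X.cj ρX uX)) 1 (by norm_num) (by decide +kernel)
theorem gz : g * (S * S) = (S * S) * g :=
  X.eq_of (x := .mul gX .zz) (y := .mul .zz gX) (by decide +kernel)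
theorem gρ : g * ρ * g⁻¹ = ρ⁻¹ :=
  X.eq_of (x := X.cj gX ρX) (y := .inv ρX) (by decide +kernel)
theorem gu : g * u = u * g :=
  X.eq_of (x := .mul gX uX) (y := .mul uX gX) (by decide +kernel)
theorem e₀E : k⁻¹ * e₀ * k ∈ XR.E := X.mem_E (x := X.jc kX e₀X) 8 (by norm_num) (by decide +kernel)
theorem e₀R : e₀ ∈ XR.R := X.mem_R (x := e₀X) [0, 1, 3, 4, 5, 6, 8] (by decide) (by decide +kernel)
theorem e₁E : k⁻¹ * e₁ * k ∈ XR.E := X.mem_E (x := X.jc kX e₁X) 12 (by norm_num) (by decide +kernel)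
theorem e₁P : e₁ ∈ P1 := X.mem_P (x := e₁X) [1, 3, 7, 10] [5, 0, 2] (by decide +kernel)
theorem ρP : ρ ∈ P1 := X.mem_P (x := ρX) [] [2] (by decide +kernel)
theorem N₁ : e₁ * (ρ * e₁ * ρ⁻¹) * (ρ * ρ * e₁ * ρ⁻¹ * ρ⁻¹) ∈ XR.E :=
  X.mem_E (x := .mul (.mul e₁X (X.cj ρX e₁X)) (ρρX e₁X)) 0 (by norm_num) (by decide +kernel)
theorem N₀ : e₀ * (ρ * e₀ * ρ⁻¹) * (ρ * ρ * e₀ * ρ⁻¹ * ρ⁻¹) * (j * (g * j * g⁻¹))⁻¹ ∈ XR.E :=
  X.mem_E (x := .mul (.mul (.mul e₀X (X.cj ρX e₀X)) (ρρX e₀X)) (.inv (.mul jX (X.cj gX jX)))) 3 (by norm_num)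
    (by decide +kernel)
theorem ge₁ : g * e₁ * g⁻¹ * e₁⁻¹ ∈ XR.E :=
  X.mem_E (x := X.cm gX e₁X) 0 (by norm_num) (by decide +kernel)
theorem eb₀ : eb * e₀ * eb⁻¹ * e₀⁻¹ = 1 :=
  X.eq_of (x := X.cm xX e₀X) (y := .w []) (by decide +kernel)
theorem eb₁ : eb * e₁ * eb⁻¹ * e₁⁻¹ = u :=
  X.eq_of (x := X.cm xX e₁X) (y := uX) (by decide +kernel)
theorem j₂B : k⁻¹ * j₂ * k ∈ B := X.mem_B (x := X.jc kX j₂X) 3 9 (by norm_num) (by norm_num) (by decide +kernel)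
theorem j₂e : j₂ = x₂ * (ρ * e₀ * ρ⁻¹) * (ρ * ρ * (e₀ * e₁) * ρ⁻¹ * ρ⁻¹) :=
  X.eq_of (x := j₂X) (y := .mul (.mul xX (X.cj ρX e₀X)) (ρρX (.mul e₀X e₁X))) (by decide +kernel)
theorem kap : eb * j₂ * eb⁻¹ * j₂⁻¹ * (ρ * ρ * u * ρ⁻¹ * ρ⁻¹) = u * (S * S) :=
  X.eq_of (x := .mul (X.cm xX j₂X) (ρρX uX)) (y := .mul uX .zz) (by decide +kernel)
theorem h₀ : h * h * h = 1 := X.eq_of (x := .mul (.mul hX hX) hX) (y := .w []) (by decide +kernel)
theorem hu : h * u = u * h := X.eq_of (x := .mul hX uX) (y := .mul uX hX) (by decide +kernel)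
theorem hj : k⁻¹ * (j₂⁻¹ * (h⁻¹ * j₂ * h)) * k ∈ XR.E :=
  X.mem_E (x := X.jc kX (.mul (.inv j₂X) (X.jc hX j₂X))) 29 (by norm_num) (by decide +kernel)
theorem hz : S * S * (h * (S * S) * h⁻¹) * (h⁻¹ * (S * S) * h) = 1 :=
  X.eq_of (x := .mul (.mul .zz (X.cj hX .zz)) (X.jc hX .zz)) (y := .w []) (by decide +kernel)
theorem fR : f ∈ XR.R := XR.G_mem_R (by decide)
theorem fR₁ : h⁻¹ * f * h ∈ XR.R :=
  X.mem_R (x := X.jc hX fX) [0, 2, 3, 4, 5, 6] (by decide) (by decide +kernel)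
theorem fR₂ : h * f * h⁻¹ ∈ XR.R :=
  X.mem_R (x := X.cj hX fX) [1, 2, 7, 9, 10] (by decide) (by decide +kernel)

/-! ### `C_E(ρ) = ⟨z⟩` -/

theorem G_z : G (msk 26) = S * S := XR.z_eq

theorem chk_ρE : ∀ m < 32, m = 0 ∨ m = 26 ∨ eqv (4 :: gW (msk m)) (gW (msk m) ++ [4]) = false := by decide +kernel

theorem ρE : ∀ e ∈ XR.E, ρ * e = e * ρ → e = 1 ∨ e = S * S := by
  intro e he h1
  obtain ⟨m, hm, rfl⟩ := XR.exists_msk e he
  rcases chk_ρE m hm with rfl | rfl | h2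
  · left; rfl
  · right; exact G_z
  · exfalso
    exact X.ne_of (x := .mul ρX (.w (gW (msk m)))) (y := .mul (.w (gW (msk m))) ρX) h2 h1

/-! ### `k E k⁻¹ = ⟨z, u, u^ρ, e₀, e₁⟩` -/

/-- an inclusion of a conjugate of `E` -/
theorem conj_E_le {c : RuOrder.H} {K : Subgroup RuOrder.H} (h : ∀ i < 5, c * G [i + 6] * c⁻¹ ∈ K) :
    ∀ x ∈ XR.E, c * x * c⁻¹ ∈ K := by
  have key : XR.E ≤ K.comap (MulAut.conj c).toMonoidHom := by
    rw [XR.E, closure_le]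
    rintro x ⟨i, hi, rfl⟩
    exact h i hi
  intro x hx
  exact key hx

theorem gen0 : k * G [6] * k⁻¹ = ρ * u * ρ⁻¹ :=
  X.eq_of (x := X.cj kX (.w (gW [6]))) (y := X.cj ρX uX) (by decide +kernel)
theorem gen1 : k * G [7] * k⁻¹ = S * S * u :=
  X.eq_of (x := X.cj kX (.w (gW [7]))) (y := .mul .zz uX) (by decide +kernel)
theorem gen2 : k * G [8] * k⁻¹ = e₀ * e₁ :=
  X.eq_of (x := X.cj kX (.w (gW [8]))) (y := .mul e₀X e₁X) (by decide +kernel)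
theorem gen3 : k * G [9] * k⁻¹ = e₀ :=
  X.eq_of (x := X.cj kX (.w (gW [9]))) (y := e₀X) (by decide +kernel)
theorem gen4 : k * G [10] * k⁻¹ = S * S * e₀ :=
  X.eq_of (x := X.cj kX (.w (gW [10]))) (y := .mul .zz e₀X) (by decide +kernel)

theorem gen : ∀ x ∈ XR.E, k * x * k⁻¹ ∈ closure ({S * S, u, ρ * u * ρ⁻¹, e₀, e₁} : Set RuOrder.H) := by
  have m1 : S * S ∈ closure ({S * S, u, ρ * u * ρ⁻¹, e₀, e₁} : Set RuOrder.H) := subset_closure (by simp)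
  have m2 : u ∈ closure ({S * S, u, ρ * u * ρ⁻¹, e₀, e₁} : Set RuOrder.H) := subset_closure (by simp)
  have m3 : ρ * u * ρ⁻¹ ∈ closure ({S * S, u, ρ * u * ρ⁻¹, e₀, e₁} : Set RuOrder.H) := subset_closure (by simp)
  have m4 : e₀ ∈ closure ({S * S, u, ρ * u * ρ⁻¹, e₀, e₁} : Set RuOrder.H) := subset_closure (by simp)
  have m5 : e₁ ∈ closure ({S * S, u, ρ * u * ρ⁻¹, e₀, e₁} : Set RuOrder.H) := subset_closure (by simp)
  refine conj_E_le fun i hi => ?_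
  interval_cases i
  · exact gen0.symm ▸ m3
  · exact gen1.symm ▸ mul_mem m1 m2
  · exact gen2.symm ▸ mul_mem m4 m5
  · exact gen3.symm ▸ m4
  · exact gen4.symm ▸ mul_mem m1 m4

/-! ### `hE` -/

def cX : X := .mul (.mul (.inv kX) (.inv hX)) kX

theorem hE : ∀ x ∈ XR.E, k⁻¹ * (h⁻¹ * (k * x * k⁻¹) * h) * k ∈ XR.E := by
  have key : ∀ x ∈ XR.E, (k⁻¹ * h⁻¹ * k) * x * (k⁻¹ * h⁻¹ * k)⁻¹ ∈ XR.E := by
    refine conj_E_le fun i hi => ?_
    interval_cases i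
    · exact X.mem_E (x := X.cj cX (.w (gW [6]))) 5 (by norm_num) (by decide +kernel)
    · exact X.mem_E (x := X.cj cX (.w (gW [7]))) 16 (by norm_num) (by decide +kernel)
    · exact X.mem_E (x := X.cj cX (.w (gW [8]))) 1 (by norm_num) (by decide +kernel)
    · exact X.mem_E (x := X.cj cX (.w (gW [9]))) 2 (by norm_num) (by decide +kernel)
    · exact X.mem_E (x := X.cj cX (.w (gW [10]))) 8 (by norm_num) (by decide +kernel)
  intro x hx
  have h1 := key x hx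
  have e : (k⁻¹ * h⁻¹ * k) * x * (k⁻¹ * h⁻¹ * k)⁻¹ = k⁻¹ * (h⁻¹ * (k * x * k⁻¹) * h) * k := by group
  rwa [e] at h1

/-! ### `test` -/

/-- the words of the elements of `Π` -/
def piW (m : ℕ) : List ℕ :=
  (bif Nat.testBit m 0 then [1, 1] else []) ++ ((bif Nat.testBit m 1 then uW else []) ++
    (bif Nat.testBit m 2 then 4 :: (uW ++ [8]) else []))

theorem bif_pi {b : Bool} {w : List ℕ} {K : Subgroup RuOrder.H} (h : wprod ml w ∈ K) :
    wprod ml (bif b then w else []) ∈ K := by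
  cases b
  · exact one_mem _
  · exact h

theorem piW_mem (m : ℕ) : (wprod ml (piW m) : RuOrder.H) ∈ closure ({S * S, u, ρ * u * ρ⁻¹} : Set RuOrder.H) := by
  rw [piW, wprod_append, wprod_append]
  have h1 : (wprod ml [1, 1] : RuOrder.H) = S * S := (X.val_eq .zz).symm
  have h2 : (wprod ml (4 :: (uW ++ [8])) : RuOrder.H) = ρ * u * ρ⁻¹ :=
    X.eq_of (x := .w (4 :: (uW ++ [8]))) (y := X.cj ρX uX) (by decide +kernel)
  refine mul_mem (bif_pi ?_) (mul_mem (bif_pi ?_) (bif_pi ?_))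
  · rw [h1]; exact subset_closure (by simp)
  · exact subset_closure (by right; left; rfl)
  · rw [h2]; exact subset_closure (by simp)

theorem c0 : e₁ * G [0] * e₁⁻¹ * (G [0])⁻¹ ∈ XR.E :=
  X.mem_E (x := X.cm e₁X (.w (gW [0]))) 24 (by norm_num) (by decide +kernel)
theorem c1 : e₁ * G [1] * e₁⁻¹ * (G [1])⁻¹ ∈ XR.E :=
  X.mem_E (x := X.cm e₁X (.w (gW [1]))) 2 (by norm_num) (by decide +kernel)

/-- the element of `E` with mask `m` lies in `Π`, or does not commute with `G [0]` or `G [1]` -/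
theorem chk_test : ∀ m < 32, (∃ i < 8, eqv (gW (msk m)) (piW i) = true) ∨
    eqv (gW (msk m) ++ gW [0]) (gW [0] ++ gW (msk m)) = false ∨
      eqv (gW (msk m) ++ gW [1]) (gW [1] ++ gW (msk m)) = false := by decide +kernel

theorem test : ∀ ζ ∈ XR.E, (∀ c ∈ XR.R, e₁ * c * e₁⁻¹ * c⁻¹ ∈ XR.E → ζ * c = c * ζ) →
    ζ ∈ closure ({S * S, u, ρ * u * ρ⁻¹} : Set RuOrder.H) := by
  intro ζ hζ H
  obtain ⟨m, hm, rfl⟩ := XR.exists_msk ζ hζ
  have h0 := H _ (XR.G_mem_R (l := [0]) (by decide)) c0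
  have h1 := H _ (XR.G_mem_R (l := [1]) (by decide)) c1
  rcases chk_test m hm with ⟨i, -, h2⟩ | h2 | h2
  · have h3 : G (msk m) = wprod ml (piW i) := eqv_sound h2
    rw [h3]
    exact piW_mem i
  · exact absurd h0 (X.ne_of (x := .mul (.w (gW (msk m))) (.w (gW [0]))) (y := .mul (.w (gW [0])) (.w (gW (msk m)))) h2)
  · exact absurd h1 (X.ne_of (x := .mul (.w (gW (msk m))) (.w (gW [1]))) (y := .mul (.w (gW [1])) (.w (gW (msk m)))) h2)

/-! ### `Bj`, `jgen` -/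

theorem gj : g * j * g⁻¹ = G (cs 3 ++ msk 16) :=
  X.eq_G (x := X.cj gX jX) (by decide +kernel)
theorem jgj : j * (g * j * g⁻¹) = G (cs 2 ++ msk 10) :=
  X.eq_G (x := .mul jX (X.cj gX jX)) (by decide +kernel)

theorem Bj : ∀ b ∈ B, b ∈ XR.E ∨ j⁻¹ * b ∈ XR.E ∨ (g * j * g⁻¹)⁻¹ * b ∈ XR.E ∨ (j * (g * j * g⁻¹))⁻¹ * b ∈ XR.E := by
  intro b hb
  obtain ⟨c, hc, e, he, rfl⟩ := mem_B.1 hb
  have key : ∀ {c m : ℕ} {e : RuOrder.H}, m < 32 → e ∈ XR.E →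
      (G (cs c ++ msk m))⁻¹ * (G (cs c) * e) ∈ XR.E := by
    intro c m e hm he
    rw [G_append]
    have e1 : (G (cs c) * G (msk m))⁻¹ * (G (cs c) * e) = (G (msk m))⁻¹ * e := by group
    rw [e1]
    exact mul_mem (inv_mem (msk_mem hm)) he
  interval_cases c
  · left
    have e1 : G (cs 0) * e = e := one_mul e
    rw [e1]; exact he
  · right; left
    have h1 := key (c := 1) (m := 0) (by norm_num) he
    exact h1
  · right; right; right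
    rw [jgj]
    exact key (by norm_num) he
  · right; right; left
    rw [gj]
    exact key (by norm_num) he

theorem j_eq : j = e₀ * (ρ * e₀ * ρ⁻¹) * (ρ * e₁ * ρ⁻¹) * (g₂ * (ρ * e₁ * ρ⁻¹) * g₂⁻¹) * G (msk 23) :=
  X.eq_of (x := jX) (y := .mul (.mul (.mul (.mul e₀X (X.cj ρX e₀X)) (X.cj ρX e₁X)) (X.cj g₂X (X.cj ρX e₁X)))
    (.w (gW (msk 23)))) (by decide +kernel)

theorem jgen : j ∈ closure ((XR.E : Set RuOrder.H) ∪ {e₀, e₁, ρ * e₀ * ρ⁻¹, ρ * e₁ * ρ⁻¹, ρ * ρ * e₀ * ρ⁻¹ * ρ⁻¹,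
    ρ * ρ * e₁ * ρ⁻¹ * ρ⁻¹, g₂ * (ρ * e₀ * ρ⁻¹) * g₂⁻¹, g₂ * (ρ * e₁ * ρ⁻¹) * g₂⁻¹}) := by
  rw [j_eq]
  refine mul_mem (mul_mem (mul_mem (mul_mem ?_ ?_) ?_) ?_) ?_
  · exact subset_closure (Or.inr (by simp))
  · exact subset_closure (Or.inr (by simp))
  · exact subset_closure (Or.inr (by simp))
  · exact subset_closure (Or.inr (by simp))
  · exact subset_closure (Or.inl (msk_mem (by norm_num)))

/-! ### `fb` -/

/-- the word of `[k b k⁻¹, f]` -/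
def fbX (c m : ℕ) : X := X.cm (X.cj kX (.w (gW (cs c ++ msk m)))) fX

/-- the image of the point 0 is not the given one -/
noncomputable def fbC (c m : ℕ) : Bool :=
  forceN' (evalK (fbX c m).word 0)
where
  /-- compare with the four values -/
  forceN' (v : ℕ) : Bool := !(Nat.beq v (evalK [] 0)) && (!(Nat.beq v (evalK [1, 1] 0)) &&
    (!(Nat.beq v (evalK (X.cj hX .zz).word 0)) && !(Nat.beq v (evalK (X.jc hX .zz).word 0))))

theorem chk_fb : ∀ c < 3, ∀ m < 32, fbC (c + 1) m = true := by decide +kernel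

theorem ne_of_eval {x y : X} (h : Nat.beq (evalK x.word 0) (evalK y.word 0) = false) : x.val ≠ y.val := by
  intro e
  rw [X.val_eq, X.val_eq] at e
  have h1 : evalK x.word ((⟨0, by norm_num⟩ : Fin 4060) : ℕ) = evalK y.word ((⟨0, by norm_num⟩ : Fin 4060) : ℕ) := by
    rw [← evalK_eq, ← evalK_eq, e]
  have h2 : evalK x.word 0 = evalK y.word 0 := h1
  rw [h2, Nat.beq_refl] at h
  exact Bool.noConfusion h

theorem fb : ∀ b ∈ B, (∃ x : RuOrder.H, (x = 1 ∨ x = S * S ∨ x = h * (S * S) * h⁻¹ ∨ x = h⁻¹ * (S * S) * h) ∧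
    k * b * k⁻¹ * f * (k * b * k⁻¹)⁻¹ * f⁻¹ = x) → b ∈ XR.E := by
  rintro b hb ⟨x, hx, h1⟩
  obtain ⟨c, hc, m, hm, rfl⟩ := mem_B_msk.1 hb
  rcases Nat.eq_zero_or_pos c with rfl | hc0
  · exact msk_mem hm
  exfalso
  have h2 := chk_fb (c - 1) (by omega) m hm
  rw [Nat.sub_add_cancel hc0] at h2
  simp only [fbC, fbC.forceN', Bool.and_eq_true, Bool.not_eq_true'] at h2
  obtain ⟨n1, n2, n3, n4⟩ := h2
  rcases hx with rfl | rfl | rfl | rfl
  · exact ne_of_eval (x := fbX c m) (y := .w []) n1 h1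
  · exact ne_of_eval (x := fbX c m) (y := .zz) n2 h1
  · exact ne_of_eval (x := fbX c m) (y := X.cj hX .zz) n3 h1
  · exact ne_of_eval (x := fbX c m) (y := X.jc hX .zz) n4 h1

/-- packet PI -/
theorem plane : Plane (⊤ : Subgroup RuOrder.H) (S * S) P1 XR.R B XR.E k u ρ g j e₀ e₁ g₂ eb j₂ x₂ h f where
  kK := mem_top _
  ku := ku
  uE := uE
  zEu := zEu
  ρP := ρP
  ρ3 := ρ3
  ρu := ρu
  uEu := uEu
  ρE := ρE
  gK := mem_top _
  gz := gz
  gρ := gρ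
  gu := gu
  e₀E := e₀E
  e₀R := e₀R
  e₁E := e₁E
  e₁P := e₁P
  gen := gen
  test := test
  jB := cs_mem_B (c := 1) (by norm_num)
  N₀ := N₀
  N₁ := N₁
  ge₁ := ge₁
  Bj := Bj
  g₂R := XR.G_mem_R (by decide)
  jgen := jgen
  ebE := msk_mem (m := 12) (by norm_num)
  eb₀ := eb₀
  eb₁ := eb₁
  j₂B := j₂B
  x₂E := msk_mem (m := 12) (by norm_num)
  j₂e := j₂e
  kap := kap
  h₀ := h₀
  hK := mem_top _
  hu := hu
  hE := hE
  hj := hj
  hz := hz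
  fR := fR
  fR₁ := fR₁
  fR₂ := fR₂
  fb := fb

end Cfsg.Agent.OddHalf.D8.RuFam.PlaneRu
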