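import Cfsg.Agent.OddHalf.D8.RuFam.Tw

/-!
# K = Ru, packet TW: `Tw.twist : Twist ⊤ (S * S) P1 k₂ k₃ v f₂`
-/

set_option autoImplicit false
set_option Elab.async false
set_option maxRecDepth 100000
set_option exponentiation.threshold 5000

namespace Cfsg.Agent.OddHalf.D8.RuFam.Tw

open Subgroup Cfsg.Agent.Lib.BitNet Cfsg.Agent.Lib.BitNetSimple Cfsg.Agent.SporadicB Cfsg.Agent.SporadicB.RuData
open Cfsg.Agent.RuD.Letters Cfsg.Agent.RuD.Model Cfsg.Agent.SporRec.TCUpperCert Cfsg.Agent.SporRec.R3.Kernel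
open Cfsg.Agent.OddHalf.D9.Ru Cfsg.Agent.OddHalf.D9.Ru.XDef Cfsg.Agent.OddHalf.D9.Ru.XChk
open Cfsg.Agent.OddHalf.D9.Ru.XData Cfsg.Agent.OddHalf.D9.Ru.XR
open Cfsg.Agent.OddHalf.Table Cfsg.Agent.OddHalf.D8.RuFam.TwCut
open scoped commutatorElement

theorem eqv_of_eq {u w : List ℕ} (h : (wprod ml u : RuOrder.H) = wprod ml w) : eqv u w = true := by
  refine (allL_iff _ _).2 ?_
  intro b hb
  have key : ∀ b : Fin 4060, Nat.beq (evalK u b) (evalK w b) = true := by
    intro b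
    rw [← evalK_eq, ← evalK_eq, h]
    exact Nat.beq_refl _
  simp only [List.mem_cons, List.not_mem_nil, or_false] at hb
  rcases hb with rfl | rfl | rfl | rfl
  · exact key ⟨0, by norm_num⟩
  · exact key ⟨29, by norm_num⟩
  · exact key ⟨580, by norm_num⟩
  · exact key ⟨577, by norm_num⟩

theorem mem_of_eqv {w u : List ℕ} (h : eqv w (ew u) = true) : (wprod ml w : RuOrder.H) ∈ P1 := by
  rw [eqv_sound h]
  exact V_mem u

theorem w11 : (wprod ml [1, 1] : RuOrder.H) = S * S := by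
  rw [wprod_cons, wprod_cons]
  change S * (S * 1) = S * S
  rw [mul_one]

theorem hh : h * h = 1 := by
  have := eqv_sound chk_hh
  rwa [wprod_append] at this

theorem h_inv : h⁻¹ = h := inv_eq_of_mul_eq_one_left hh

theorem h_notMem : h ∉ P1 := by
  intro hm
  obtain ⟨r, hr, a, ha, e⟩ := XR.cover h hm
  obtain ⟨i, hi, rfl⟩ := mem_A a ha
  set a := V (aw.getD i []) with ha'
  have h1 := (allL_iff _ _).1 chk_h i (List.mem_range.2 hi)
  obtain ⟨j, hj, h2⟩ := anyB_iff h1
  have hjE : G [j] ∈ E := by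
    simp only [List.mem_cons, List.not_mem_nil, or_false] at hj
    rcases hj with rfl | rfl | rfl | rfl | rfl <;> exact G_mem_E (by decide)
  have haP : a ∈ P1 := V_mem _
  have hxE : a * G [j] * a⁻¹ ∈ E := E_nor a haP _ hjE
  have h3 : h * G [j] * h * a = a * G [j] ∨ h * G [j] * h * a = a * G [j] * (S * S) := by
    have h4 : h * G [j] * h = r * (a * G [j] * a⁻¹) * r⁻¹ := by
      conv_lhs => rw [← h_inv]
      rw [h_inv]
      calc h * G [j] * h = h * G [j] * h⁻¹ := by rw [h_inv]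
        _ = r * a * G [j] * (r * a)⁻¹ := by rw [← e]
        _ = r * (a * G [j] * a⁻¹) * r⁻¹ := by group
    rcases XR.RE r hr _ hxE with h5 | h5
    · left
      have h6 : r * (a * G [j] * a⁻¹) * r⁻¹ = a * G [j] * a⁻¹ := by
        rwa [mul_inv_eq_one] at h5
      rw [h4, h6]
      group
    · right
      have h6 : r * (a * G [j] * a⁻¹) * r⁻¹ = S * S * (a * G [j] * a⁻¹) := by
        rwa [mul_inv_eq_iff_eq_mul] at h5
      have h7 := z_comm (a * G [j] * a⁻¹) (E_le hxE)
      rw [h4, h6, ← h7, mul_assoc _ (S * S) a, ← z_comm a haP]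
      group
  have eh : (wprod ml (hw ++ ew (gg [j]) ++ hw ++ ew (aw.getD i [])) : RuOrder.H) = h * G [j] * h * a := by
    rw [wprod_append, wprod_append, wprod_append]; rfl
  have ea : (wprod ml (ew (aw.getD i []) ++ ew (gg [j])) : RuOrder.H) = a * G [j] := by
    rw [wprod_append]; rfl
  have eb : (wprod ml (ew (aw.getD i []) ++ ew (gg [j]) ++ [1, 1]) : RuOrder.H) = a * G [j] * (S * S) := by
    rw [wprod_append, wprod_append, w11]; rfl
  rcases h3 with h3 | h3
  · have h4 : eqv (hw ++ ew (gg [j]) ++ hw ++ ew (aw.getD i [])) (ew (aw.getD i []) ++ ew (gg [j])) = true :=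
      eqv_of_eq (by rw [eh, ea, h3])
    rw [h4] at h2
    exact Bool.false_ne_true h2
  · have h4 : eqv (hw ++ ew (gg [j]) ++ hw ++ ew (aw.getD i [])) (ew (aw.getD i []) ++ ew (gg [j]) ++ [1, 1]) =
      true := eqv_of_eq (by rw [eh, eb, h3])
    rw [h4] at h2
    cases h5 : eqv (hw ++ ew (gg [j]) ++ hw ++ ew (aw.getD i [])) (ew (aw.getD i []) ++ ew (gg [j]))
    · rw [h5] at h2; exact Bool.false_ne_true h2
    · rw [h5] at h2; exact Bool.false_ne_true h2

/-! ### the other fields -/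

def vw : List ℕ := k2w ++ ([1, 1] ++ k2w)

theorem chk_k2 : eqv (k2w ++ k2w) [] = true := by decide +kernel
theorem chk_k3 : eqv (k3i ++ k3w) [] = true := by decide +kernel
theorem chk_zv : eqv (k3w ++ ([1, 1] ++ k3i)) ([1, 1] ++ vw) = true := by decide +kernel
theorem chk_vP : eqv vw (ew [2, 4, 3, 4, 5, 0, 3, 1, 5, 0, 3, 1, 2]) = true := by decide +kernel
theorem chk_z3 : eqv (k3i ++ ([1, 1] ++ k3w)) (ew [2, 4, 3, 4, 5, 0, 3, 1, 5, 0, 3, 1, 2]) = true := by decide +kernel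
theorem chk_v3 : eqv (k3i ++ (vw ++ k3w)) (ew [3, 4, 2, 4, 0, 3, 1, 5, 0, 3, 2, 1]) = true := by decide +kernel
theorem chk_fz : eqv (f2w ++ [1, 1]) ([1, 1] ++ f2w) = true := by decide +kernel
theorem chk_fv : eqv (f2w ++ vw) (vw ++ f2w) = true := by decide +kernel
theorem chk_n2 : eqv (k2w ++ (f2w ++ k2w)) (hw ++ ew [3, 0, 1, 5, 4, 0, 3]) = true := by decide +kernel
theorem chk_n3 : eqv (k3i ++ (f2w ++ k3w)) (ew [4, 2, 3, 1, 1, 2, 3]) = true := by decide +kernel

theorem k2_inv : k₂⁻¹ = k₂ := by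
  have := eqv_sound chk_k2
  rw [wprod_append] at this
  exact inv_eq_of_mul_eq_one_left this

theorem k3_inv : k₃⁻¹ = wprod ml k3i := by
  have := eqv_sound chk_k3
  rw [wprod_append] at this
  exact inv_eq_of_mul_eq_one_left this

theorem vw_eq : (wprod ml vw : RuOrder.H) = v := by
  unfold vw v
  rw [wprod_append, wprod_append, w11, k2_inv, ← mul_assoc]
  rfl

theorem fx_mem {i : ℕ} (hi : i < 7) : (wprod ml (fx i) : RuOrder.H) ∈ P1 ∧
    k₂⁻¹ * wprod ml (fx i) * k₂ ∈ P1 ∧ k₃⁻¹ * wprod ml (fx i) * k₃ ∈ P1 := by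
  have hl : fw.getD i ([], [], []) ∈ fw := by
    rw [List.getD_eq_getElem _ _ (by exact hi)]
    exact List.getElem_mem _
  have h1 := (allL_iff _ _).1 chk_fw _ hl
  rw [an_iff] at h1
  have h2 := eqv_sound h1.1
  have h3 := eqv_sound h1.2
  rw [wprod_append, wprod_append] at h2 h3
  refine ⟨V_mem _, ?_, ?_⟩
  · have e : k₂⁻¹ * wprod ml (fx i) * k₂ = wprod ml (ew (fw.getD i ([], [], [])).2.1) := by
      rw [mul_assoc, inv_mul_eq_iff_eq_mul]
      exact h2
    rw [e]
    exact V_mem _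
  · have e : k₃⁻¹ * wprod ml (fx i) * k₃ = wprod ml (ew (fw.getD i ([], [], [])).2.2) := by
      rw [mul_assoc, inv_mul_eq_iff_eq_mul]
      exact h3
    rw [e]
    exact V_mem _

theorem f_eq : f₂ = h * V [5, 4, 3, 0, 1, 2, 3, 1] := by
  unfold f₂ f2w
  rw [wprod_append]
  rfl

theorem twist : Twist (⊤ : Subgroup RuOrder.H) (S * S) P1 k₂ k₃ v f₂ where
  k₂K := mem_top _
  k₃K := mem_top _
  kv := rfl
  kzv := by
    have h1 := eqv_sound chk_zv
    rw [wprod_append, wprod_append, wprod_append, w11, vw_eq, ← k3_inv, ← mul_assoc] at h1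
    exact h1
  vP := by
    rw [← vw_eq]
    exact mem_of_eqv chk_vP
  z₂ := by
    have h1 : k₂⁻¹ * (S * S) * k₂ = v := by
      unfold v
      rw [k2_inv]
    rw [h1, ← vw_eq]
    exact mem_of_eqv chk_vP
  z₃ := by
    have h1 := mem_of_eqv chk_z3
    rw [wprod_append, wprod_append, w11, ← k3_inv, ← mul_assoc] at h1
    exact h1
  v₃ := by
    have h1 := mem_of_eqv chk_v3
    rw [wprod_append, wprod_append, vw_eq, ← k3_inv, ← mul_assoc] at h1
    exact h1
  fK := mem_top _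
  fz := by
    have h1 := eqv_sound chk_fz
    rw [wprod_append, wprod_append, w11] at h1
    exact h1
  fv := by
    have h1 := eqv_sound chk_fv
    rw [wprod_append, wprod_append, vw_eq] at h1
    exact h1
  n₁ := by
    intro h1
    rw [f_eq] at h1
    exact h_notMem ((mul_mem_cancel_right (V_mem _)).1 h1)
  n₂ := by
    intro h1
    have h2 := eqv_sound chk_n2
    rw [wprod_append, wprod_append, wprod_append, ← mul_assoc] at h2
    rw [k2_inv] at h1
    have h3 : k₂ * f₂ * k₂ = h * V [3, 0, 1, 5, 4, 0, 3] := h2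
    rw [h3] at h1
    exact h_notMem ((mul_mem_cancel_right (V_mem _)).1 h1)
  n₃ := by
    have h1 := mem_of_eqv chk_n3
    rw [wprod_append, wprod_append, ← k3_inv, ← mul_assoc] at h1
    exact h1
  cen := by
    intro c _ hc
    apply cent_f
    intro i hi
    obtain ⟨h1, h2, h3⟩ := fx_mem hi
    exact hc _ h1 h2 h3

end Cfsg.Agent.OddHalf.D8.RuFam.Tw
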