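import Cfsg.Agent.OddHalf.D8.RuFam.Facts

/-!
# ODD half, D8, `K = Ru`: existence of the family, steps (5) and (6)

`t` an involution, `C_G(t) = ⟨t⟩ × K`, `z ∈ K` a `2`-central involution, `P = C_K(z)`, `P₀ = P'` perfect of index two.

`exists_a`: if `m` satisfies `tᵐ = t z`, centralises `B = C_K(E)`, maps `R` to `R` modulo `⟨z⟩` and normalises `P₀`, then
there is an involution `a` with `tᵃ = t z` centralising `C_K(z)`.
-/

set_option autoImplicit false

namespace Cfsg.Agent.OddHalf.D8.RuFam

open Subgroup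

variable {G : Type*} [Group G]

/-- a homomorphism of a perfect group into `{1, z}` is trivial: `m` centralises `P₀` -/
theorem comm_of_perfect {z m : G} {P0 : Subgroup G} (zz : z * z = 1) (zP : ∀ p ∈ P0, p * z = z * p)
    (perf : P0 ≤ ⁅P0, P0⁆) (hm : ∀ p ∈ P0, m * p * m⁻¹ = p ∨ m * p * m⁻¹ = p * z) :
    ∀ p ∈ P0, m * p = p * m := by
  have zi : z⁻¹ = z := inv_eq_of_mul_eq_one_left zz
  have h1 : ⁅P0, P0⁆ ≤ centralizer ({m} : Set G) := by
    rw [commutator_le]
    intro p hp q hq
    rw [mem_centralizer_iff]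
    rintro _ rfl
    rename_i m
    rw [commutatorElement_def]
    have h2 : m * (p * q * p⁻¹ * q⁻¹) * m⁻¹ = p * q * p⁻¹ * q⁻¹ := by
      have h3 : m * (p * q * p⁻¹ * q⁻¹) * m⁻¹ =
          (m * p * m⁻¹) * (m * q * m⁻¹) * (m * p * m⁻¹)⁻¹ * (m * q * m⁻¹)⁻¹ := by group
      have zq := zP q hq
      have zp := zP p hp
      have zp' := zP _ (inv_mem hp)
      have zq' := zP _ (inv_mem hq)
      rw [h3]
      rcases hm p hp with h | h <;> rcases hm q hq with h' | h' <;> rw [h, h']
      · rw [mul_inv_rev, zi]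
        calc p * (q * z) * p⁻¹ * (z * q⁻¹) = p * q * z * (p⁻¹ * z) * q⁻¹ := by group
          _ = p * q * (z * z) * p⁻¹ * q⁻¹ := by rw [zp']; group
          _ = p * q * p⁻¹ * q⁻¹ := by rw [zz]; group
      · rw [mul_inv_rev, zi]
        calc p * z * q * (z * p⁻¹) * q⁻¹ = p * z * (q * z) * p⁻¹ * q⁻¹ := by group
          _ = p * (z * z) * q * p⁻¹ * q⁻¹ := by rw [zq]; group
          _ = p * q * p⁻¹ * q⁻¹ := by rw [zz]; group
      · rw [mul_inv_rev, mul_inv_rev, zi]
        calc p * z * (q * z) * (z * p⁻¹) * (z * q⁻¹) = p * (z * q) * (z * z) * (p⁻¹ * z) * q⁻¹ := by group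
          _ = p * (q * z) * (z * p⁻¹) * q⁻¹ := by rw [zz, ← zq, zp']; group
          _ = p * q * (z * z) * p⁻¹ * q⁻¹ := by group
          _ = p * q * p⁻¹ * q⁻¹ := by rw [zz]; group
    calc m * (p * q * p⁻¹ * q⁻¹) = m * (p * q * p⁻¹ * q⁻¹) * m⁻¹ * m := by group
      _ = p * q * p⁻¹ * q⁻¹ * m := by rw [h2]
  intro p hp
  exact (mem_centralizer_iff.1 (h1 (perf hp))) m rfl

namespace Loc

variable {t z m : G} {K P0 R B E : Subgroup G}

theorem ER (L : Loc K z P0 R B E) : E ≤ R := by
  rw [← L.RR]
  exact commutator_le_left_of R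
where
  commutator_le_left_of (R : Subgroup G) : ⁅R, R⁆ ≤ R := by
    rw [commutator_le]
    intro a ha b hb
    rw [commutatorElement_def]
    exact mul_mem (mul_mem (mul_mem ha hb) (inv_mem ha)) (inv_mem hb)

theorem Ez (L : Loc K z P0 R B E) {e : G} (he : e ∈ E) : e * z = z * e := L.Pz _ (L.RP (L.ER he))

theorem EEc (L : Loc K z P0 R B E) {e e' : G} (he : e ∈ E) (he' : e' ∈ E) : e * e' = e' * e := by
  have h1 : (e * e')⁻¹ = e * e' := inv_eq_of_mul_eq_one_left (L.EE _ (mul_mem he he'))
  have h2 : e⁻¹ = e := inv_eq_of_mul_eq_one_left (L.EE e he)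
  have h3 : e'⁻¹ = e' := inv_eq_of_mul_eq_one_left (L.EE e' he')
  rw [← h1, mul_inv_rev, h2, h3]

/-- `E ≤ B` -/
theorem EB (L : Loc K z P0 R B E) : E ≤ B := fun e he =>
  (L.cenE e (L.PK (L.RP (L.ER he)))).2 fun _ hx => L.EEc he hx

/-- `C_K(R) = ⟨z⟩` -/
theorem CR (L : Loc K z P0 R B E) {k : G} (hk : k ∈ K) (h : ∀ r ∈ R, k * r = r * k) : k = 1 ∨ k = z := by
  have h1 : k ∈ B := (L.cenE k hk).2 fun e he => h e (L.ER he)
  have h2 : k ∈ E := L.BE k h1 fun r hr => Or.inl (by rw [h r hr]; group)
  exact L.ZR k h2 h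

end Loc

/-- **(5)** -/
theorem five {t z m : G} {K P0 R B E : Subgroup G} (L : Loc K z P0 R B E) (tt : t * t = 1)
    (comm : ∀ k ∈ K, k * t = t * k) (cen : ∀ g : G, g * t = t * g → g ∈ K ∨ t * g ∈ K)
    (mt : m * t * m⁻¹ = t * z) (mR : ∀ r ∈ R, m * r * m⁻¹ = r ∨ m * r * m⁻¹ = r * z)
    (mB : ∀ b ∈ B, m * b = b * m) (mP : ∀ p ∈ P0, m * p * m⁻¹ ∈ P0) :
    ∃ a : G, a * a = 1 ∧ a * t * a = t * z ∧ ∀ p ∈ P0, p * a = a * p := by
  have mz : m * z = z * m := mB z (L.EB L.zE)
  -- the subgroup `Q = C_R(m)`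
  let Q : Subgroup G := R ⊓ centralizer ({m} : Set G)
  have hQ : ∀ {r : G}, r ∈ Q ↔ r ∈ R ∧ m * r = r * m := by
    intro r
    simp only [Q, mem_inf, mem_centralizer_iff, Set.mem_singleton_iff, forall_eq]
  have hn : ∀ r ∈ R, r ∉ Q → m * r * m⁻¹ = r * z := by
    intro r hr hn
    rcases mR r hr with h | h
    · exfalso
      apply hn
      rw [hQ]
      refine ⟨hr, ?_⟩
      calc m * r = m * r * m⁻¹ * m := by group
        _ = r * m := by rw [h]
    · exact h
  obtain ⟨e, he, hQe⟩ := L.dual Q inf_le_left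
    (fun b hb => hQ.2 ⟨L.BR hb, mB b hb⟩) (by
      intro r hr s hs h1 h2
      rw [hQ]
      refine ⟨mul_mem hr hs, ?_⟩
      have h3 := hn r hr h1
      have h4 := hn s hs h2
      have h5 := L.Pz s (L.RP hs)
      calc m * (r * s) = (m * r * m⁻¹) * (m * s * m⁻¹) * m := by group
        _ = r * (z * s) * z * m := by rw [h3, h4]; group
        _ = r * s * (z * z) * m := by rw [← h5]; group
        _ = r * s * m := by rw [L.zz]; group)
  have eR := L.ER he
  have eP := L.RP eR
  have eK := L.PK eP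
  have ee := L.EE e he
  have ei : e⁻¹ = e := inv_eq_of_mul_eq_one_left ee
  have et := comm e eK
  have me := mB e (L.EB he)
  -- `n = m e` centralises `R`
  obtain ⟨n, hn'⟩ : ∃ n, n = m * e := ⟨_, rfl⟩
  have nR : ∀ r ∈ R, n * r = r * n := by
    intro r hr
    by_cases h : r ∈ Q
    · have h1 := (hQe r hr).1 h
      have h2 := (hQ.1 h).2
      rw [hn']
      calc m * e * r = m * r * e := by rw [mul_assoc, h1]; group
        _ = r * (m * e) := by rw [h2]; group
    · have h1 : e * r ≠ r * e := fun h' => h ((hQe r hr).2 h')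
      have h2 : r * e * r⁻¹ * e⁻¹ = z := by
        rcases L.RE r hr e he with h3 | h3
        · exfalso
          apply h1
          calc e * r = (r * e * r⁻¹ * e⁻¹) * e * r := by rw [h3]; group
            _ = r * e := by group
        · exact h3
      have h3 := hn r hr h
      have h4 : m * r = r * z * m := by rw [← h3]; group
      have rz := L.Pz r (L.RP hr)
      -- `r e = z e r`
      have h5 : r * e = z * e * r := by
        calc r * e = (r * e * r⁻¹ * e⁻¹) * e * r := by group
          _ = z * e * r := by rw [h2]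
      have ez := L.Ez he
      have h6 : e * r = z * r * e := by
        calc e * r = z * z * e * r := by rw [L.zz, one_mul]
          _ = z * (z * e * r) := by group
          _ = z * r * e := by rw [← h5]; group
      rw [hn']
      calc m * e * r = m * (e * r) := by group
        _ = (m * z) * r * e := by rw [h6]; group
        _ = z * (m * r) * e := by rw [mz]; group
        _ = (z * r) * z * m * e := by rw [h4]; group
        _ = r * (z * z) * m * e := by rw [← rz]; group
        _ = r * (m * e) := by rw [L.zz]; group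
  have nt : n * t * n⁻¹ = t * z := by
    rw [hn']
    calc m * e * t * (m * e)⁻¹ = m * (e * t) * e⁻¹ * m⁻¹ := by group
      _ = m * t * m⁻¹ := by rw [et]; group
      _ = t * z := mt
  have nz : n * z = z * n := nR z (L.ER L.zE)
  have nP : ∀ p ∈ P0, n * p * n⁻¹ ∈ P0 := by
    intro p hp
    have h1 := mP _ (mul_mem (mul_mem eP hp) (inv_mem eP))
    rw [hn']
    have h2 : m * e * p * (m * e)⁻¹ = m * (e * p * e⁻¹) * m⁻¹ := by group
    rw [h2]
    exact h1
  have n1 : ∀ p ∈ P0, n * p * n⁻¹ = p ∨ n * p * n⁻¹ = p * z := by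
    intro p hp
    have h1 : n * p * n⁻¹ * p⁻¹ ∈ P0 := mul_mem (nP p hp) (inv_mem hp)
    have h2 := L.CR (L.PK h1) (by
      intro r hr
      have h3 := nR _ (L.Rn _ (inv_mem hp) r hr)
      have h4 : n⁻¹ * (p⁻¹ * r * p⁻¹⁻¹) = (p⁻¹ * r * p⁻¹⁻¹) * n⁻¹ := by
        calc n⁻¹ * (p⁻¹ * r * p⁻¹⁻¹) = n⁻¹ * ((p⁻¹ * r * p⁻¹⁻¹) * n) * n⁻¹ := by group
          _ = (p⁻¹ * r * p⁻¹⁻¹) * n⁻¹ := by rw [← h3]; group
      calc n * p * n⁻¹ * p⁻¹ * r = n * p * (n⁻¹ * (p⁻¹ * r * p⁻¹⁻¹)) * p⁻¹ := by group
        _ = (n * r) * p * n⁻¹ * p⁻¹ := by rw [h4]; group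
        _ = r * (n * p * n⁻¹ * p⁻¹) := by rw [nR r hr]; group)
    rcases h2 with h | h
    · left
      exact mul_inv_eq_one.1 h
    · right
      rw [L.Pz p hp, ← h]
      group
  have n2 := comm_of_perfect L.zz L.Pz (le_of_eq L.perf.symm) n1
  -- `n²`
  have hnt : n * t = t * z * n := by rw [← nt]; group
  have tz := comm z L.zK
  have h3 : n * n * t = t * (n * n) := by
    calc n * n * t = n * (n * t) := by group
      _ = n * (t * z * n) := by rw [hnt]
      _ = (n * t) * z * n := by group
      _ = t * z * n * z * n := by rw [hnt]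
      _ = t * z * (n * z) * n := by group
      _ = t * (z * z) * (n * n) := by rw [nz]; group
      _ = t * (n * n) := by rw [L.zz, mul_one]
  have tR : ∀ r ∈ R, t * r = r * t := fun r hr => (comm r (L.PK (L.RP hr))).symm
  have nnR : ∀ r ∈ R, n * n * r = r * (n * n) := by
    intro r hr
    calc n * n * r = n * (n * r) := by group
      _ = n * (r * n) := by rw [nR r hr]
      _ = n * r * n := by group
      _ = r * n * n := by rw [nR r hr]
      _ = r * (n * n) := by group
  have hne : n * t ≠ t * n := by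
    intro h
    apply L.z1
    calc z = t⁻¹ * (t * z * n) * n⁻¹ := by group
      _ = 1 := by rw [← hnt, h]; group
  have h4 : n * n = 1 ∨ n * n = z := by
    rcases cen _ h3 with h | h
    · exact L.CR h nnR
    · exfalso
      have h5 := L.CR h (by
        intro r hr
        calc t * (n * n) * r = t * (n * n * r) := by group
          _ = (t * r) * (n * n) := by rw [nnR r hr]; group
          _ = r * (t * (n * n)) := by rw [tR r hr]; group)
      -- `n n = t` or `t z`
      have h6 : n * n = t ∨ n * n = t * z := by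
        rcases h5 with h5 | h5
        · left
          calc n * n = t * t * (n * n) := by rw [tt, one_mul]
            _ = t * (t * (n * n)) := by group
            _ = t := by rw [h5, mul_one]
        · right
          calc n * n = t * t * (n * n) := by rw [tt, one_mul]
            _ = t * (t * (n * n)) := by group
            _ = t * z := by rw [h5]
      apply hne
      rcases h6 with h6 | h6
      · rw [← h6]; group
      · have h7 : t = n * n * z := by rw [h6, mul_assoc, L.zz, mul_one]
        rw [h7]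
        calc n * (n * n * z) = n * n * (n * z) := by group
          _ = n * n * z * n := by rw [nz]; group
  rcases h4 with h4 | h4
  · refine ⟨n, h4, ?_, fun p hp => (n2 p hp).symm⟩
    have : n⁻¹ = n := inv_eq_of_mul_eq_one_left h4
    rw [this] at nt
    exact nt
  · refine ⟨n * t, ?_, ?_, ?_⟩
    · calc n * t * (n * t) = (n * t) * n * t := by group
        _ = t * z * (n * n) * t := by rw [hnt]; group
        _ = t * (z * z) * t := by rw [h4]; group
        _ = 1 := by rw [L.zz, mul_one, tt]
    · calc n * t * t * (n * t) = n * (t * t) * (n * t) := by group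
        _ = n * (t * z * n) := by rw [tt, mul_one, hnt]
        _ = (n * t) * z * n := by group
        _ = t * z * (n * z) * n := by rw [hnt]; group
        _ = t * (z * z) * (n * n) := by rw [nz]; group
        _ = t * z := by rw [L.zz, mul_one, h4]
    · intro p hp
      calc p * (n * t) = (p * n) * t := by group
        _ = n * (p * t) := by rw [← n2 p hp]; group
        _ = n * t * p := by rw [comm p (L.PK hp)]; group

/-- `a^p` is `a` or `a z` -/
theorem conj_cases {t z a : G} {K P0 R B E : Subgroup G} (L : Loc K z P0 R B E) (tt : t * t = 1)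
    (comm : ∀ k ∈ K, k * t = t * k)
    (cen : ∀ g : G, g * t = t * g → g ∈ K ∨ t * g ∈ K) (aa : a * a = 1) (at' : a * t * a = t * z)
    (aP : ∀ p ∈ P0, p * a = a * p) {p : G} (hp : p ∈ K) (hpz : p * z = z * p) :
    p * a * p⁻¹ = a ∨ p * a * p⁻¹ = a * z := by
  have az : z * a = a * z := aP z (L.RP (L.ER L.zE))
  have pt := comm p hp
  have ai : a⁻¹ = a := inv_eq_of_mul_eq_one_left aa
  obtain ⟨b, hb⟩ : ∃ b, b = p * a * p⁻¹ := ⟨_, rfl⟩
  have bb : b * b = 1 := by
    rw [hb]
    calc p * a * p⁻¹ * (p * a * p⁻¹) = p * (a * a) * p⁻¹ := by group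
      _ = 1 := by rw [aa]; group
  have hpz' : p⁻¹ * z = z * p⁻¹ := by
    calc p⁻¹ * z = p⁻¹ * (z * p) * p⁻¹ := by group
      _ = z * p⁻¹ := by rw [← hpz]; group
  have pt' : p⁻¹ * t = t * p⁻¹ := comm _ (inv_mem hp)
  have bz : b * z = z * b := by
    rw [hb]
    calc p * a * p⁻¹ * z = p * a * (p⁻¹ * z) := by group
      _ = p * (a * z) * p⁻¹ := by rw [hpz']; group
      _ = (p * z) * a * p⁻¹ := by rw [← az]; group
      _ = z * (p * a * p⁻¹) := by rw [hpz]; group
  have bt : b * t * b = t * z := by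
    rw [hb]
    calc p * a * p⁻¹ * t * (p * a * p⁻¹) = p * a * (p⁻¹ * t) * p * a * p⁻¹ := by group
      _ = p * (a * t * a) * p⁻¹ := by rw [pt']; group
      _ = (p * t) * z * p⁻¹ := by rw [at']; group
      _ = t * (p * z) * p⁻¹ := by rw [pt]; group
      _ = t * z := by rw [hpz]; group
  have bP : ∀ q ∈ P0, q * b = b * q := by
    intro q hq
    have h1 : p⁻¹ * q * p⁻¹⁻¹ ∈ P0 := by
      have h2 := L.com _ (inv_mem hp) q (L.PK hq) hpz' (L.Pz q hq)
      have h3 := mul_mem h2 hq
      have h4 : p⁻¹ * q * p⁻¹⁻¹ * q⁻¹ * q = p⁻¹ * q * p⁻¹⁻¹ := by group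
      rwa [h4] at h3
    have h2 := aP _ h1
    rw [hb]
    calc q * (p * a * p⁻¹) = p * ((p⁻¹ * q * p⁻¹⁻¹) * a) * p⁻¹ := by group
      _ = p * a * p⁻¹ * q := by rw [h2]; group
  -- `c = b a`
  have ta : t * a = a * t * z := by
    calc t * a = a * a * t * a := by rw [aa, one_mul]
      _ = a * (a * t * a) := by group
      _ = a * t * z := by rw [at']; group
  have tb : t * b = b * t * z := by
    calc t * b = b * b * t * b := by rw [bb, one_mul]
      _ = b * (b * t * b) := by group
      _ = b * t * z := by rw [bt]; group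
  have ct : b * a * t = t * (b * a) := by
    symm
    calc t * (b * a) = t * b * a := by group
      _ = b * t * (z * a) := by rw [tb]; group
      _ = b * (t * a) * z := by rw [az]; group
      _ = b * a * t * (z * z) := by rw [ta]; group
      _ = b * a * t := by rw [L.zz, mul_one]
  have cR : ∀ r ∈ R, b * a * r = r * (b * a) := by
    intro r hr
    calc b * a * r = b * (a * r) := by group
      _ = b * r * a := by rw [← aP r (L.RP hr)]; group
      _ = r * (b * a) := by rw [← bP r (L.RP hr)]; group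
  rw [← hb]
  have fin : b * a = 1 ∨ b * a = z → b = a ∨ b = a * z := by
    rintro (h | h)
    · left
      calc b = b * a * a⁻¹ := by group
        _ = a := by rw [h, ai, one_mul]
    · right
      calc b = b * a * a⁻¹ := by group
        _ = a * z := by rw [h, ai, az]
  rcases cen _ ct with h | h
  · exact fin (L.CR h cR)
  · exfalso
    have h1 := L.CR h (by
      intro r hr
      calc t * (b * a) * r = t * (b * a * r) := by group
        _ = (t * r) * (b * a) := by rw [cR r hr]; group
        _ = r * (t * (b * a)) := by rw [← comm r (L.PK (L.RP hr))]; group)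
    -- `b = t a` or `t z a`
    have h2 : b = t * a ∨ b = t * (z * a) := by
      rcases h1 with h1 | h1
      · left
        calc b = t * t * (b * a) * a⁻¹ := by rw [tt]; group
          _ = t * (t * (b * a)) * a⁻¹ := by group
          _ = t * a := by rw [h1, ai, mul_one]
      · right
        calc b = t * t * (b * a) * a⁻¹ := by rw [tt]; group
          _ = t * (t * (b * a)) * a⁻¹ := by group
          _ = t * (z * a) := by rw [h1, ai]; group
    apply L.z1
    rcases h2 with h2 | h2
    · rw [h2] at bb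
      calc z = t * t * z := by rw [tt, one_mul]
        _ = t * (a * t * a) := by rw [at']; group
        _ = t * a * (t * a) := by group
        _ = 1 := bb
    · rw [h2] at bb
      have zt := comm z L.zK
      calc z = t * t * z * (z * z) := by rw [tt, L.zz]; group
        _ = t * (t * z) * z * z := by group
        _ = t * (z * t) * z * z := by rw [zt]
        _ = t * z * (t * z) * z := by group
        _ = t * z * (a * t * (a * z)) := by rw [← at']; group
        _ = t * (z * a) * (t * (z * a)) := by rw [← az]; group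
        _ = 1 := bb

/-- **(6)**: `a` centralises `C_K(z)` -/
theorem twist {t z a : G} {K P0 R B E : Subgroup G} {k2 k3 v f2 : G} (L : Loc K z P0 R B E)
    (T : Twist K z P0 k2 k3 v f2) (tt : t * t = 1) (comm : ∀ k ∈ K, k * t = t * k)
    (cen : ∀ g : G, g * t = t * g → g ∈ K ∨ t * g ∈ K) (aa : a * a = 1) (at' : a * t * a = t * z)
    (aP : ∀ p ∈ P0, p * a = a * p) : ∀ p ∈ K, p * z = z * p → p * a = a * p := by
  by_contra hcon
  push Not at hcon
  obtain ⟨p, hp, hpz, hpa⟩ := hcon
  have az : z * a = a * z := aP z (L.RP (L.ER L.zE))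
  have h1 : p * a * p⁻¹ = a * z := by
    rcases conj_cases L tt comm cen aa at' aP hp hpz with h | h
    · exfalso
      apply hpa
      calc p * a = p * a * p⁻¹ * p := by group
        _ = a * p := by rw [h]
    · exact h
  have hp0 : p ∉ P0 := fun h => hpa (aP p h)
  -- every element outside `P0` is twisted
  have key : ∀ q ∈ K, q * z = z * q → q ∉ P0 → q * a * q⁻¹ = a * z := by
    intro q hq hqz hq0
    have h2 := L.idx q hq p hp hqz hpz hq0 hp0
    have h3 := aP _ h2
    have h4 := L.Pz _ h2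
    have h5 : p⁻¹ * a * p = a * z := by
      have : a * z * z = a := by rw [mul_assoc, L.zz, mul_one]
      calc p⁻¹ * a * p = p⁻¹ * (a * z * z) * p := by rw [this]
        _ = p⁻¹ * (p * a * p⁻¹) * (z * p) := by rw [h1]; group
        _ = a * p⁻¹ * (p * z) := by rw [hpz]; group
        _ = a * z := by group
    calc q * a * q⁻¹ = (q * p) * (p⁻¹ * a * p) * (q * p)⁻¹ := by group
      _ = (q * p) * a * z * (q * p)⁻¹ := by rw [h5]; group
      _ = a * ((q * p) * z) * (q * p)⁻¹ := by rw [h3]; group
      _ = a * z := by rw [h4]; group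
  obtain ⟨b, hb⟩ : ∃ b, b = k2 * a * k2⁻¹ := ⟨_, rfl⟩
  obtain ⟨c, hc⟩ : ∃ c, c = k3 * a * k3⁻¹ := ⟨_, rfl⟩
  -- commuting
  have hcb : ∀ {k x : G}, k⁻¹ * x * k ∈ P0 → x * (k * a * k⁻¹) = (k * a * k⁻¹) * x := by
    intro k x hx
    have := aP _ hx
    calc x * (k * a * k⁻¹) = k * ((k⁻¹ * x * k) * a) * k⁻¹ := by group
      _ = (k * a * k⁻¹) * x := by rw [this]; group
  have hct : ∀ {k w : G}, k ∈ K → k * z * k⁻¹ = w → t * (k * a * k⁻¹) = (k * a * k⁻¹) * t * w := by
    intro k w hk hw
    have e1 := comm k hk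
    have e2 := comm _ (inv_mem hk)
    have ta : t * a = a * t * z := by
      calc t * a = a * a * t * a := by rw [aa, one_mul]
        _ = a * (a * t * a) := by group
        _ = a * t * z := by rw [at']; group
    calc t * (k * a * k⁻¹) = (t * k) * a * k⁻¹ := by group
      _ = k * (t * a) * k⁻¹ := by rw [← e1]; group
      _ = k * a * (t * k⁻¹) * (k * z * k⁻¹) := by rw [ta]; group
      _ = (k * a * k⁻¹) * t * w := by rw [← e2, hw]; group
  have zb : z * b = b * z := by rw [hb]; exact hcb T.z₂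
  have zc : z * c = c * z := by rw [hc]; exact hcb T.z₃
  have vc : v * c = c * v := by rw [hc]; exact hcb T.v₃
  have va : v * a = a * v := aP v T.vP
  have vz : v * z = z * v := L.Pz v T.vP
  have tb : t * b = b * t * v := by rw [hb]; exact hct T.k₂K T.kv
  have tc : t * c = c * t * (z * v) := by rw [hc]; exact hct T.k₃K T.kzv
  have ta : t * a = a * t * z := by
    calc t * a = a * a * t * a := by rw [aa, one_mul]
      _ = a * (a * t * a) := by group
      _ = a * t * z := by rw [at']; group
  have vv : v * v = 1 := by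
    rw [← T.kv]
    calc k2 * z * k2⁻¹ * (k2 * z * k2⁻¹) = k2 * (z * z) * k2⁻¹ := by group
      _ = 1 := by rw [L.zz]; group
  have et : a * b * c * t = t * (a * b * c) := by
    symm
    calc t * (a * b * c) = t * a * b * c := by group
      _ = a * t * (z * b) * c := by rw [ta]; group
      _ = a * (t * b) * z * c := by rw [zb]; group
      _ = a * b * t * v * (z * c) := by rw [tb]; group
      _ = a * b * t * (v * c) * z := by rw [zc]; group
      _ = a * b * (t * c) * v * z := by rw [vc]; group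
      _ = a * b * c * t * (z * (v * v) * z) := by rw [tc]; group
      _ = a * b * c * t := by rw [vv, mul_one, L.zz, mul_one]
  -- conjugation by `f2`
  have fa : f2 * a * f2⁻¹ = a * z := key f2 T.fK T.fz T.n₁
  have fb : f2 * b * f2⁻¹ = b * v := by
    have h2 : k2⁻¹ * f2 * k2 * z = z * (k2⁻¹ * f2 * k2) := by
      calc k2⁻¹ * f2 * k2 * z = k2⁻¹ * (f2 * (k2 * z * k2⁻¹)) * k2 := by group
        _ = k2⁻¹ * (k2 * z * k2⁻¹ * f2) * k2 := by rw [T.kv, T.fv]
        _ = z * (k2⁻¹ * f2 * k2) := by group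
    have h3 := key _ (mul_mem (mul_mem (inv_mem T.k₂K) T.fK) T.k₂K) h2 T.n₂
    rw [hb]
    calc f2 * (k2 * a * k2⁻¹) * f2⁻¹ = k2 * (k2⁻¹ * f2 * k2 * a * (k2⁻¹ * f2 * k2)⁻¹) * k2⁻¹ := by group
      _ = k2 * a * k2⁻¹ * (k2 * z * k2⁻¹) := by rw [h3]; group
      _ = k2 * a * k2⁻¹ * v := by rw [T.kv]
  have fc : f2 * c * f2⁻¹ = c := by
    have h2 : f2 * c = c * f2 := by rw [hc]; exact hcb T.n₃
    calc f2 * c * f2⁻¹ = c * f2 * f2⁻¹ := by rw [h2]
      _ = c := by group
  have fe : f2 * (a * b * c) * f2⁻¹ = a * b * c * (z * v) := by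
    calc f2 * (a * b * c) * f2⁻¹ = (f2 * a * f2⁻¹) * (f2 * b * f2⁻¹) * (f2 * c * f2⁻¹) := by group
      _ = a * (z * b) * v * c := by rw [fa, fb, fc]; group
      _ = a * b * z * (v * c) := by rw [zb]; group
      _ = a * b * (z * c) * v := by rw [vc]; group
      _ = a * b * c * (z * v) := by rw [zc]; group
  -- `a b c` commutes with the intersection
  have hx : ∀ x ∈ P0, k2⁻¹ * x * k2 ∈ P0 → k3⁻¹ * x * k3 ∈ P0 → a * b * c * x = x * (a * b * c) := by
    intro x h1 h2 h3
    have e1 := aP x h1
    have e2 : x * b = b * x := by rw [hb]; exact hcb h2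
    have e3 : x * c = c * x := by rw [hc]; exact hcb h3
    symm
    calc x * (a * b * c) = x * a * b * c := by group
      _ = a * (x * b) * c := by rw [e1]; group
      _ = a * b * (x * c) := by rw [e2]; group
      _ = a * b * c * x := by rw [e3]; group
  have ef : a * b * c * f2 = f2 * (a * b * c) := by
    rcases cen _ et with h | h
    · exact T.cen _ h hx
    · have h2 := T.cen _ h (by
        intro x h1 h2 h3
        calc t * (a * b * c) * x = t * (a * b * c * x) := by group
          _ = t * x * (a * b * c) := by rw [hx x h1 h2 h3]; group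
          _ = x * (t * (a * b * c)) := by rw [← comm x (L.PK h1)]; group)
      have h3 : t * (a * b * c * f2) = t * (f2 * (a * b * c)) := by
        calc t * (a * b * c * f2) = t * (a * b * c) * f2 := by group
          _ = f2 * (t * (a * b * c)) := h2
          _ = (f2 * t) * (a * b * c) := by group
          _ = t * (f2 * (a * b * c)) := by rw [comm f2 T.fK]; group
      exact mul_left_cancel h3
  have h2 : z * v = 1 := by
    have h3 : a * b * c * (z * v) = a * b * c * 1 := by
      rw [← fe, ← ef]; group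
    exact mul_left_cancel h3
  apply L.z1
  have h3 := T.kzv
  rw [h2] at h3
  calc z = k3⁻¹ * (k3 * z * k3⁻¹) * k3 := by group
    _ = 1 := by rw [h3]; group

theorem exists_a [Finite G] {t z m : G} {K P0 R B E : Subgroup G} {k2 k3 v f2 : G} (L : Loc K z P0 R B E)
    (T : Twist K z P0 k2 k3 v f2) (tt : t * t = 1) (tK : t ∉ K) (comm : ∀ k ∈ K, k * t = t * k)
    (cen : ∀ g : G, g * t = t * g → g ∈ K ∨ t * g ∈ K) (mt : m * t * m⁻¹ = t * z)
    (mR : ∀ r ∈ R, m * r * m⁻¹ = r ∨ m * r * m⁻¹ = r * z) (mB : ∀ b ∈ B, m * b = b * m)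
    (mP : ∀ p ∈ P0, m * p * m⁻¹ ∈ P0) :
    ∃ a : G, a * a = 1 ∧ a * t * a = t * z ∧ ∀ k ∈ K, k * z = z * k → k * a = a * k := by
  obtain ⟨a, aa, at', aP⟩ := five L tt comm cen mt mR mB mP
  exact ⟨a, aa, at', twist L T tt comm cen aa at' aP⟩

end Cfsg.Agent.OddHalf.D8.RuFam
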