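import Cfsg.Agent.OddHalf.D8.RuFam.End56

/-!
# ODD half, D8, `K = Ru`: existence of the family, step (4)

The case `[m, e₁] = u` is impossible: `y = m eb` centralises `E_u = k E k⁻¹` and `[y, j₂] = u z`; for `h` of order 3 in
`C_K(u)` with `z zʰ zʰʰ = 1` the element `w = y yʰ yʰʰ` lies in `⟨t⟩ × C_K(E_u)`, and `[w, f] ∈ ⟨z, zʰ⟩`, so
`w ∈ ⟨t⟩ × E_u` centralises `j₂`; but `[w, j₂] = u`.
-/

set_option autoImplicit false

namespace Cfsg.Agent.OddHalf.D8.RuFam

open Subgroup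
open scoped commutatorElement

variable {G : Type*} [Group G]

/-- `E` is normal in `P₀` -/
theorem Loc.En {z : G} {K P0 R B E : Subgroup G} (L : Loc K z P0 R B E) {p : G} (hp : p ∈ P0) {x : G}
    (hx : x ∈ E) : p * x * p⁻¹ ∈ E := by
  rw [← L.RR] at hx ⊢
  have h2 : ⁅R, R⁆ ≤ (⁅R, R⁆).comap (MulAut.conj p).toMonoidHom := by
    rw [commutator_le]
    intro a ha b hb
    rw [mem_comap]
    have h3 := L.Rn p hp a ha
    have h4 := L.Rn p hp b hb
    have h5 := commutator_mem_commutator h3 h4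
    have h6 : (MulAut.conj p).toMonoidHom ⁅a, b⁆ = ⁅p * a * p⁻¹, p * b * p⁻¹⁆ := by
      simp only [commutatorElement_def, MulEquiv.toMonoidHom_eq_coe, MonoidHom.coe_coe, MulAut.conj_apply]
      group
    rw [h6]
    exact h5
  have := h2 hx
  simpa using this

/-- **(4)** -/
theorem false_of_e1 {t z m : G} {K P0 R B E : Subgroup G} {k u ρ g j e0 e1 g2 eb j2 x2 h f : G}
    (L : Loc K z P0 R B E) (Pl : Plane K z P0 R B E k u ρ g j e0 e1 g2 eb j2 x2 h f)
    (comm : ∀ k ∈ K, k * t = t * k) (cen : ∀ g : G, g * t = t * g → g ∈ K ∨ t * g ∈ K)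
    (mt : m * t * m⁻¹ = t * z) (mE : ∀ e ∈ E, m * e = e * m)
    (mR : ∀ r ∈ R, m * r * m⁻¹ = r ∨ m * r * m⁻¹ = r * z) (mρ : m * ρ = ρ * m) (me0 : m * e0 = e0 * m)
    (me1 : m * e1 * m⁻¹ * e1⁻¹ = u) : False := by
  have EK : ∀ {x : G}, x ∈ E → x ∈ K := fun hx => L.PK (L.RP (L.ER hx))
  -- `U = E_u`
  let U : Subgroup G := E.map (MulAut.conj k).toMonoidHom
  have hU : ∀ {x : G}, x ∈ U ↔ k⁻¹ * x * k ∈ E := by
    intro x
    simp only [U, mem_map]
    constructor
    · rintro ⟨y, hy, rfl⟩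
      simpa [mul_assoc] using hy
    · intro hx
      exact ⟨_, hx, by simp [mul_assoc]⟩
  have UU : ∀ {x y : G}, x ∈ U → y ∈ U → x * y = y * x := by
    intro x y hx hy
    have := L.EEc (hU.1 hx) (hU.1 hy)
    calc x * y = k * (k⁻¹ * x * k * (k⁻¹ * y * k)) * k⁻¹ := by group
      _ = y * x := by rw [this]; group
  have UK : ∀ {x : G}, x ∈ U → x ∈ K := by
    intro x hx
    have h1 := mul_mem (mul_mem Pl.kK (EK (hU.1 hx))) (inv_mem Pl.kK)
    have h2 : k * (k⁻¹ * x * k) * k⁻¹ = x := by group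
    rwa [h2] at h1
  have zU : z ∈ U := hU.2 Pl.zEu
  have uU : u ∈ U := hU.2 (by
    rw [← Pl.ku]
    have : k⁻¹ * (k * z * k⁻¹) * k = z := by group
    rw [this]
    exact L.zE)
  have vU : ρ * u * ρ⁻¹ ∈ U := hU.2 Pl.uEu
  have e0U : e0 ∈ U := hU.2 Pl.e₀E
  have uu : u * u = 1 := L.EE u Pl.uE
  have u1 : u ≠ 1 := by
    intro h1
    apply L.z1
    have := Pl.ku
    rw [h1] at this
    calc z = k⁻¹ * (k * z * k⁻¹) * k := by group
      _ = 1 := by rw [this]; group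
  have mu := mE u Pl.uE
  have mz := mE z L.zE
  -- `s = u^{ρρ}`
  obtain ⟨s, hs⟩ : ∃ s, s = ρ * ρ * u * ρ⁻¹ * ρ⁻¹ := ⟨_, rfl⟩
  have vE : ρ * u * ρ⁻¹ ∈ E := L.En Pl.ρP Pl.uE
  have sE : s ∈ E := by
    have := L.En Pl.ρP vE
    have h2 : ρ * (ρ * u * ρ⁻¹) * ρ⁻¹ = s := by rw [hs]; group
    rwa [h2] at this
  have ss := L.EE s sE
  have si : s⁻¹ = s := inv_eq_of_mul_eq_one_left ss
  have ms := mE s sE
  -- `m` on `e₁`, `j₂`
  have he1 : m * e1 = u * e1 * m := by
    rw [← me1]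
    group
  have mρi : m * ρ⁻¹ = ρ⁻¹ * m := by
    calc m * ρ⁻¹ = ρ⁻¹ * (ρ * m) * ρ⁻¹ := by group
      _ = ρ⁻¹ * m := by rw [← mρ]; group
  have mρρ : m * (ρ * ρ) = ρ * ρ * m := by
    rw [← mul_assoc, mρ, mul_assoc, mρ, mul_assoc]
  have mρρi : m * (ρ⁻¹ * ρ⁻¹) = ρ⁻¹ * ρ⁻¹ * m := by
    rw [← mul_assoc, mρi, mul_assoc, mρi, mul_assoc]
  have s0 : s * (ρ * e0 * ρ⁻¹) = ρ * e0 * ρ⁻¹ * s := by
    have h1 := UU vU e0U
    calc s * (ρ * e0 * ρ⁻¹) = ρ * ((ρ * u * ρ⁻¹) * e0) * ρ⁻¹ := by rw [hs]; group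
      _ = ρ * e0 * ρ⁻¹ * s := by rw [h1, hs]; group
  have mρ0 : m * (ρ * e0 * ρ⁻¹) = ρ * e0 * ρ⁻¹ * m := by
    calc m * (ρ * e0 * ρ⁻¹) = (m * ρ) * e0 * ρ⁻¹ := by group
      _ = ρ * (m * e0) * ρ⁻¹ := by rw [mρ]; group
      _ = ρ * e0 * (m * ρ⁻¹) := by rw [me0]; group
      _ = ρ * e0 * ρ⁻¹ * m := by rw [mρi]; group
  have mρ1 : m * (ρ * ρ * (e0 * e1) * ρ⁻¹ * ρ⁻¹) = s * (ρ * ρ * (e0 * e1) * ρ⁻¹ * ρ⁻¹) * m := by
    have h1 := UU e0U uU
    calc m * (ρ * ρ * (e0 * e1) * ρ⁻¹ * ρ⁻¹) = (m * (ρ * ρ)) * e0 * e1 * (ρ⁻¹ * ρ⁻¹) := by group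
      _ = ρ * ρ * (m * e0) * e1 * (ρ⁻¹ * ρ⁻¹) := by rw [mρρ]; group
      _ = ρ * ρ * e0 * (m * e1) * (ρ⁻¹ * ρ⁻¹) := by rw [me0]; group
      _ = ρ * ρ * (e0 * u) * e1 * (m * (ρ⁻¹ * ρ⁻¹)) := by rw [he1]; group
      _ = (ρ * ρ * u * ρ⁻¹ * ρ⁻¹) * (ρ * ρ * (e0 * e1) * ρ⁻¹ * ρ⁻¹) * m := by rw [h1, mρρi]; group
      _ = s * (ρ * ρ * (e0 * e1) * ρ⁻¹ * ρ⁻¹) * m := by rw [hs]
  have mj : m * j2 = s * j2 * m := by
    have h1 := mE x2 Pl.x₂E
    have h2 := L.EEc sE Pl.x₂E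
    rw [Pl.j₂e]
    calc m * (x2 * (ρ * e0 * ρ⁻¹) * (ρ * ρ * (e0 * e1) * ρ⁻¹ * ρ⁻¹)) =
          (m * x2) * (ρ * e0 * ρ⁻¹) * (ρ * ρ * (e0 * e1) * ρ⁻¹ * ρ⁻¹) := by group
      _ = x2 * (m * (ρ * e0 * ρ⁻¹)) * (ρ * ρ * (e0 * e1) * ρ⁻¹ * ρ⁻¹) := by rw [h1]; group
      _ = x2 * (ρ * e0 * ρ⁻¹) * (m * (ρ * ρ * (e0 * e1) * ρ⁻¹ * ρ⁻¹)) := by rw [mρ0]; group
      _ = x2 * (ρ * e0 * ρ⁻¹ * s) * (ρ * ρ * (e0 * e1) * ρ⁻¹ * ρ⁻¹) * m := by rw [mρ1]; group
      _ = (x2 * s) * (ρ * e0 * ρ⁻¹) * (ρ * ρ * (e0 * e1) * ρ⁻¹ * ρ⁻¹) * m := by rw [← s0]; group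
      _ = s * (x2 * (ρ * e0 * ρ⁻¹) * (ρ * ρ * (e0 * e1) * ρ⁻¹ * ρ⁻¹)) * m := by rw [← h2]; group
  -- `eb`
  have ebE := Pl.ebE
  have b0 : eb * e0 = e0 * eb := by
    calc eb * e0 = (eb * e0 * eb⁻¹ * e0⁻¹) * e0 * eb := by group
      _ = e0 * eb := by rw [Pl.eb₀, one_mul]
  have b1 : eb * e1 = u * e1 * eb := by
    calc eb * e1 = (eb * e1 * eb⁻¹ * e1⁻¹) * e1 * eb := by group
      _ = u * e1 * eb := by rw [Pl.eb₁]
  have bj : eb * j2 = u * z * s * j2 * eb := by
    have h1 := Pl.kap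
    rw [← hs] at h1
    have h2 : eb * j2 * eb⁻¹ * j2⁻¹ = u * z * s := by
      rw [← h1]
      calc eb * j2 * eb⁻¹ * j2⁻¹ = eb * j2 * eb⁻¹ * j2⁻¹ * (s * s) := by rw [ss, mul_one]
        _ = eb * j2 * eb⁻¹ * j2⁻¹ * s * s := by group
    rw [← h2]
    group
  -- `y = m eb`
  obtain ⟨y, hy⟩ : ∃ y, y = m * eb := ⟨_, rfl⟩
  have yE : ∀ {x : G}, x ∈ E → y * x = x * y := by
    intro x hx
    rw [hy]
    calc m * eb * x = m * (eb * x) := by group
      _ = (m * x) * eb := by rw [L.EEc ebE hx]; group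
      _ = x * (m * eb) := by rw [mE x hx]; group
  have y0 : y * e0 = e0 * y := by
    rw [hy]
    calc m * eb * e0 = m * (eb * e0) := by group
      _ = (m * e0) * eb := by rw [b0]; group
      _ = e0 * (m * eb) := by rw [me0]; group
  have y1 : y * e1 = e1 * y := by
    rw [hy]
    calc m * eb * e1 = m * (eb * e1) := by group
      _ = (m * u) * e1 * eb := by rw [b1]; group
      _ = u * (m * e1) * eb := by rw [mu]; group
      _ = (u * u) * e1 * m * eb := by rw [he1]; group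
      _ = e1 * (m * eb) := by rw [uu]; group
  have yU : ∀ {x : G}, x ∈ U → y * x = x * y := by
    intro x hx
    have h1 := Pl.gen _ (hU.1 hx)
    have h2 : k * (k⁻¹ * x * k) * k⁻¹ = x := by group
    rw [h2] at h1
    have h3 : closure ({z, u, ρ * u * ρ⁻¹, e0, e1} : Set G) ≤ centralizer ({y} : Set G) := by
      rw [closure_le]
      rintro w hw
      rw [SetLike.mem_coe, mem_centralizer_iff]
      rintro _ rfl
      simp only [Set.mem_insert_iff, Set.mem_singleton_iff] at hw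
      rcases hw with rfl | rfl | rfl | rfl | rfl
      · exact yE L.zE
      · exact yE Pl.uE
      · exact yE vE
      · exact y0
      · exact y1
    exact (mem_centralizer_iff.1 (h3 h1)) y rfl
  have yt : y * t = t * z * y := by
    rw [hy]
    calc m * eb * t = m * (eb * t) := by group
      _ = (m * t * m⁻¹) * m * eb := by rw [comm eb (EK ebE)]; group
      _ = t * z * (m * eb) := by rw [mt]; group
  have yj : y * j2 = u * z * j2 * y := by
    rw [hy]
    calc m * eb * j2 = m * (eb * j2) := by group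
      _ = (m * u) * z * s * j2 * eb := by rw [bj]; group
      _ = u * (m * z) * s * j2 * eb := by rw [mu]; group
      _ = u * z * (m * s) * j2 * eb := by rw [mz]; group
      _ = u * z * s * (m * j2) * eb := by rw [ms]; group
      _ = u * z * (s * s) * j2 * m * eb := by rw [mj]; group
      _ = u * z * j2 * (m * eb) := by rw [ss]; group
  have yR : ∀ {r : G}, r ∈ R → ∃ ζ : G, (ζ = 1 ∨ ζ = z) ∧ y * r = ζ * r * y := by
    intro r hr
    have h1 : ∃ ζ : G, (ζ = 1 ∨ ζ = z) ∧ eb * r = ζ * r * eb := by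
      rcases L.RE r hr eb ebE with h' | h'
      · refine ⟨1, Or.inl rfl, ?_⟩
        calc eb * r = (r * eb * r⁻¹ * eb⁻¹) * eb * r := by rw [h']; group
          _ = 1 * r * eb := by group
      · refine ⟨z, Or.inr rfl, ?_⟩
        calc eb * r = z * z * eb * r := by rw [L.zz, one_mul]
          _ = z * ((r * eb * r⁻¹ * eb⁻¹) * eb * r) := by rw [h']; group
          _ = z * r * eb := by group
    have h2 : ∃ ζ : G, (ζ = 1 ∨ ζ = z) ∧ m * r = ζ * r * m := by
      rcases mR r hr with h' | h'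
      · refine ⟨1, Or.inl rfl, ?_⟩
        calc m * r = (m * r * m⁻¹) * m := by group
          _ = 1 * r * m := by rw [h']; group
      · refine ⟨z, Or.inr rfl, ?_⟩
        calc m * r = (m * r * m⁻¹) * m := by group
          _ = r * z * m := by rw [h']
          _ = z * r * m := by rw [L.Pz r (L.RP hr)]
    obtain ⟨a, ha, ha'⟩ := h1
    obtain ⟨b, hb, hb'⟩ := h2
    refine ⟨a * b, ?_, ?_⟩
    · rcases ha with rfl | rfl <;> rcases hb with rfl | rfl
      · left; group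
      · right; group
      · right; group
      · left; exact L.zz
    · have h3 : m * a = a * m := by
        rcases ha with rfl | rfl
        · group
        · exact mz
      rw [hy]
      calc m * eb * r = m * (eb * r) := by group
        _ = (m * a) * r * eb := by rw [ha']; group
        _ = a * (m * r) * eb := by rw [h3]; group
        _ = a * b * r * (m * eb) := by rw [hb']; group
  -- `h`
  have hh : h = h⁻¹ * h⁻¹ := by
    calc h = (h * h * h) * h⁻¹ * h⁻¹ := by group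
      _ = h⁻¹ * h⁻¹ := by rw [Pl.h₀, one_mul]
  have hi : h⁻¹ = h * h := by
    calc h⁻¹ = (h * h * h) * h⁻¹ := by rw [Pl.h₀, one_mul]
      _ = h * h := by group
  have hU1 : ∀ {x : G}, x ∈ U → h⁻¹ * x * h ∈ U := by
    intro x hx
    have h1 := Pl.hE _ (hU.1 hx)
    refine hU.2 ?_
    have h2 : k⁻¹ * (h⁻¹ * (k * (k⁻¹ * x * k) * k⁻¹) * h) * k = k⁻¹ * (h⁻¹ * x * h) * k := by group
    rwa [h2] at h1
  have hU2 : ∀ {x : G}, x ∈ U → h * x * h⁻¹ ∈ U := by
    intro x hx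
    have h1 := hU1 (hU1 hx)
    have h2 : h * x * h⁻¹ = h⁻¹ * (h⁻¹ * x * h) * h := by
      calc h * x * h⁻¹ = (h⁻¹ * h⁻¹) * x * (h⁻¹ * h⁻¹)⁻¹ := by rw [← hh]
        _ = h⁻¹ * (h⁻¹ * x * h) * h := by simp only [mul_inv_rev, inv_inv, mul_assoc]
    rw [h2]
    exact h1
  obtain ⟨b, hb⟩ : ∃ b, b = h * z * h⁻¹ := ⟨_, rfl⟩
  obtain ⟨c, hc⟩ : ∃ c, c = h⁻¹ * z * h := ⟨_, rfl⟩
  have bU : b ∈ U := by rw [hb]; exact hU2 zU
  have cU : c ∈ U := by rw [hc]; exact hU1 zU
  have bb : b * b = 1 := by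
    rw [hb]
    calc h * z * h⁻¹ * (h * z * h⁻¹) = h * (z * z) * h⁻¹ := by group
      _ = 1 := by rw [L.zz]; group
  have cc : c * c = 1 := by
    rw [hc]
    calc h⁻¹ * z * h * (h⁻¹ * z * h) = h⁻¹ * (z * z) * h := by group
      _ = 1 := by rw [L.zz]; group
  have zbc : z * b * c = 1 := by rw [hb, hc]; exact Pl.hz
  have zb := UU zU bU
  have zc := UU zU cU
  have cbz : c * b * z = 1 := by
    have h1 : (z * b * c)⁻¹ = 1 := by rw [zbc, inv_one]
    rw [mul_inv_rev, mul_inv_rev, inv_eq_of_mul_eq_one_left cc, inv_eq_of_mul_eq_one_left bb,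
      inv_eq_of_mul_eq_one_left L.zz, ← mul_assoc] at h1
    exact h1
  -- conjugates of `y`
  obtain ⟨p, hp⟩ : ∃ p, p = h * y * h⁻¹ := ⟨_, rfl⟩
  obtain ⟨q, hq⟩ : ∃ q, q = h⁻¹ * y * h := ⟨_, rfl⟩
  have pU : ∀ {x : G}, x ∈ U → p * x = x * p := by
    intro x hx
    rw [hp]
    calc h * y * h⁻¹ * x = h * (y * (h⁻¹ * x * h)) * h⁻¹ := by group
      _ = x * (h * y * h⁻¹) := by rw [yU (hU1 hx)]; group
  have qU : ∀ {x : G}, x ∈ U → q * x = x * q := by
    intro x hx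
    rw [hq]
    calc h⁻¹ * y * h * x = h⁻¹ * (y * (h * x * h⁻¹)) * h := by group
      _ = x * (h⁻¹ * y * h) := by rw [yU (hU2 hx)]; group
  have ht := comm h Pl.hK
  have ht' := comm _ (inv_mem Pl.hK)
  have pt : p * t = t * b * p := by
    rw [hp, hb]
    calc h * y * h⁻¹ * t = h * y * (h⁻¹ * t) := by group
      _ = h * (y * t) * h⁻¹ := by rw [ht']; group
      _ = (h * t) * z * y * h⁻¹ := by rw [yt]; group
      _ = t * (h * z * h⁻¹) * (h * y * h⁻¹) := by rw [ht]; group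
  have qt : q * t = t * c * q := by
    rw [hq, hc]
    calc h⁻¹ * y * h * t = h⁻¹ * y * (h * t) := by group
      _ = h⁻¹ * (y * t) * h := by rw [ht]; group
      _ = (h⁻¹ * t) * z * y * h := by rw [yt]; group
      _ = t * (h⁻¹ * z * h) * (h⁻¹ * y * h) := by rw [ht']; group
  obtain ⟨w, hw⟩ : ∃ w, w = y * p * q := ⟨_, rfl⟩
  have wU : ∀ {x : G}, x ∈ U → w * x = x * w := by
    intro x hx
    rw [hw]
    calc y * p * q * x = y * p * (q * x) := by group
      _ = y * (p * x) * q := by rw [qU hx]; group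
      _ = (y * x) * p * q := by rw [pU hx]; group
      _ = x * (y * p * q) := by rw [yU hx]; group
  have wt : w * t = t * w := by
    rw [hw]
    calc y * p * q * t = y * p * (q * t) := by group
      _ = y * (p * t) * c * q := by rw [qt]; group
      _ = (y * t) * b * (p * c) * q := by rw [pt]; group
      _ = t * z * (y * b) * c * p * q := by rw [yt, pU cU]; group
      _ = t * z * b * (y * c) * p * q := by rw [yU bU]; group
      _ = t * (z * b * c) * (y * p * q) := by rw [yU cU]; group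
      _ = t * (y * p * q) := by rw [zbc, mul_one]
  -- `[w, f]`
  obtain ⟨a0, ha0, ha0'⟩ := yR Pl.fR
  obtain ⟨a1, ha1, ha1'⟩ := yR Pl.fR₁
  obtain ⟨a2, ha2, ha2'⟩ := yR Pl.fR₂
  have pf : p * f = (h * a1 * h⁻¹) * f * p := by
    rw [hp]
    calc h * y * h⁻¹ * f = h * (y * (h⁻¹ * f * h)) * h⁻¹ := by group
      _ = (h * a1 * h⁻¹) * f * (h * y * h⁻¹) := by rw [ha1']; group
  have qf : q * f = (h⁻¹ * a2 * h) * f * q := by
    rw [hq]
    calc h⁻¹ * y * h * f = h⁻¹ * (y * (h * f * h⁻¹)) * h := by group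
      _ = (h⁻¹ * a2 * h) * f * (h⁻¹ * y * h) := by rw [ha2']; group
  have hα : h * a1 * h⁻¹ = 1 ∨ h * a1 * h⁻¹ = b := by
    rcases ha1 with rfl | rfl
    · left; group
    · right; exact hb.symm
  have hβ : h⁻¹ * a2 * h = 1 ∨ h⁻¹ * a2 * h = c := by
    rcases ha2 with rfl | rfl
    · left; group
    · right; exact hc.symm
  generalize h * a1 * h⁻¹ = α at pf hα
  generalize h⁻¹ * a2 * h = β at qf hβ
  have αU : α ∈ U := by
    rcases hα with rfl | rfl
    · exact one_mem _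
    · exact bU
  have βU : β ∈ U := by
    rcases hβ with rfl | rfl
    · exact one_mem _
    · exact cU
  have wf : w * f = β * α * a0 * f * w := by
    rw [hw]
    calc y * p * q * f = y * p * (q * f) := by group
      _ = y * (p * β) * f * q := by rw [qf]; group
      _ = (y * β) * (p * f) * q := by rw [pU βU]; group
      _ = β * (y * α) * f * p * q := by rw [yU βU, pf]; group
      _ = β * α * (y * f) * p * q := by rw [yU αU]; group
      _ = β * α * a0 * f * (y * p * q) := by rw [ha0']; group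
  have hX : β * α * a0 = 1 ∨ β * α * a0 = z ∨ β * α * a0 = h * z * h⁻¹ ∨ β * α * a0 = h⁻¹ * z * h := by
    rw [← hb, ← hc]
    have c1 : c = z * b := by
      have h1 : c = (z * b)⁻¹ := eq_inv_of_mul_eq_one_right zbc
      rw [h1, mul_inv_rev, inv_eq_of_mul_eq_one_left bb, inv_eq_of_mul_eq_one_left L.zz, zb]
    have b1' : c * z = b := by
      rw [← zc, c1, ← mul_assoc, L.zz, one_mul]
    have b2' : c * b = z := by
      rw [c1, mul_assoc, bb, mul_one]
    rcases hβ with h1 | h1 <;> rcases hα with h2 | h2 <;> rcases ha0 with h3 | h3 <;> rw [h1, h2, h3]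
    · left; group
    · right; left; group
    · right; right; left; group
    · right; right; right
      rw [c1, zb, one_mul]
    · right; right; right; group
    · right; right; left
      rw [mul_one, b1']
    · right; left
      rw [b2', mul_one]
    · left
      rw [b2', L.zz]
  have fK : f ∈ K := L.PK (L.RP Pl.fR)
  have jK : j2 ∈ K := by
    have h1 := mul_mem (mul_mem Pl.kK (L.PK (L.RP (L.BR Pl.j₂B)))) (inv_mem Pl.kK)
    have h2 : k * (k⁻¹ * j2 * k) * k⁻¹ = j2 := by group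
    rwa [h2] at h1
  -- `w j₂ = j₂ w`
  have wj : w * j2 = j2 * w := by
    -- for `w' ∈ K` which agrees with `w` up to `t`
    have gen : ∀ w' : G, w' ∈ K → (∀ x ∈ U, w' * x = x * w') → w' * f * w'⁻¹ * f⁻¹ = β * α * a0 →
        w' * j2 = j2 * w' := by
      intro w' h1 h2 h3
      have h4 : k⁻¹ * w' * k ∈ K := mul_mem (mul_mem (inv_mem Pl.kK) h1) Pl.kK
      have h5 : k⁻¹ * w' * k ∈ B := (L.cenE _ h4).2 (by
        intro e he
        have h6 : k * e * k⁻¹ ∈ U := hU.2 (by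
          have : k⁻¹ * (k * e * k⁻¹) * k = e := by group
          rw [this]; exact he)
        have h7 := h2 _ h6
        calc k⁻¹ * w' * k * e = k⁻¹ * (w' * (k * e * k⁻¹)) * k := by group
          _ = e * (k⁻¹ * w' * k) := by rw [h7]; group)
      have h6 := Pl.fb _ h5 ⟨β * α * a0, hX, by
        rw [← h3]
        group⟩
      have h7 := (L.cenE _ (L.PK (L.RP (L.BR Pl.j₂B)))).1 Pl.j₂B _ h6
      calc w' * j2 = k * ((k⁻¹ * w' * k) * (k⁻¹ * j2 * k)) * k⁻¹ := by group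
        _ = j2 * w' := by rw [← h7]; group
    have h3 : w * f * w⁻¹ * f⁻¹ = β * α * a0 := by rw [wf]; group
    rcases cen w wt with h1 | h1
    · exact gen w h1 (fun x hx => wU hx) h3
    · have h4 := gen (t * w) h1 (by
        intro x hx
        calc t * w * x = t * (w * x) := by group
          _ = (t * x) * w := by rw [wU hx]; group
          _ = x * (t * w) := by rw [← comm x (UK hx)]; group) (by
        have h5 : t⁻¹ * f⁻¹ = f⁻¹ * t⁻¹ := by
          rw [← mul_inv_rev, ← mul_inv_rev, comm f fK]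
        calc t * w * f * (t * w)⁻¹ * f⁻¹ = t * w * f * w⁻¹ * (t⁻¹ * f⁻¹) := by group
          _ = t * (w * f * w⁻¹ * f⁻¹) * t⁻¹ := by rw [h5]; group
          _ = t * (β * α * a0) * t⁻¹ := by rw [h3]
          _ = β * α * a0 := by
              have h6 : β * α * a0 ∈ K := by
                refine mul_mem (mul_mem (UK βU) (UK αU)) ?_
                rcases ha0 with rfl | rfl
                · exact one_mem _
                · exact L.zK
              rw [← comm _ h6]; group)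
      have h5 : t * (w * j2) = t * (j2 * w) := by
        calc t * (w * j2) = t * w * j2 := by group
          _ = j2 * (t * w) := h4
          _ = (j2 * t) * w := by group
          _ = t * (j2 * w) := by rw [comm j2 jK]; group
      exact mul_left_cancel h5
  -- `w j₂ = u j₂ w`
  have hu' : h⁻¹ * u = u * h⁻¹ := by
    calc h⁻¹ * u = h⁻¹ * (u * h) * h⁻¹ := by group
      _ = u * h⁻¹ := by rw [← Pl.hu]; group
  have xU : j2⁻¹ * (h⁻¹ * j2 * h) ∈ U := hU.2 Pl.hj
  have xU' : j2⁻¹ * (h * j2 * h⁻¹) ∈ U := by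
    have h1 := inv_mem (hU2 xU)
    have h2 : (h * (j2⁻¹ * (h⁻¹ * j2 * h)) * h⁻¹)⁻¹ = j2⁻¹ * (h * j2 * h⁻¹) := by group
    rwa [h2] at h1
  have pj : p * j2 = u * b * j2 * p := by
    rw [hp, hb]
    have h1 : y * (h⁻¹ * j2 * h) = u * z * (h⁻¹ * j2 * h) * y := by
      calc y * (h⁻¹ * j2 * h) = (y * j2) * (j2⁻¹ * (h⁻¹ * j2 * h)) := by group
        _ = u * z * j2 * (y * (j2⁻¹ * (h⁻¹ * j2 * h))) := by rw [yj]; group
        _ = u * z * (h⁻¹ * j2 * h) * y := by rw [yU xU]; group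
    calc h * y * h⁻¹ * j2 = h * (y * (h⁻¹ * j2 * h)) * h⁻¹ := by group
      _ = (h * u) * z * h⁻¹ * j2 * (h * y * h⁻¹) := by rw [h1]; group
      _ = u * (h * z * h⁻¹) * j2 * (h * y * h⁻¹) := by rw [Pl.hu]; group
  have qj : q * j2 = u * c * j2 * q := by
    rw [hq, hc]
    have h1 : y * (h * j2 * h⁻¹) = u * z * (h * j2 * h⁻¹) * y := by
      calc y * (h * j2 * h⁻¹) = (y * j2) * (j2⁻¹ * (h * j2 * h⁻¹)) := by group
        _ = u * z * j2 * (y * (j2⁻¹ * (h * j2 * h⁻¹))) := by rw [yj]; group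
        _ = u * z * (h * j2 * h⁻¹) * y := by rw [yU xU']; group
    calc h⁻¹ * y * h * j2 = h⁻¹ * (y * (h * j2 * h⁻¹)) * h := by group
      _ = (h⁻¹ * u) * z * h * j2 * (h⁻¹ * y * h) := by rw [h1]; group
      _ = u * (h⁻¹ * z * h) * j2 * (h⁻¹ * y * h) := by rw [hu']; group
  have wj' : w * j2 = u * j2 * w := by
    have ucU : u * c ∈ U := mul_mem uU cU
    have ubU : u * b ∈ U := mul_mem uU bU
    rw [hw]
    calc y * p * q * j2 = y * p * (q * j2) := by group
      _ = y * (p * (u * c)) * j2 * q := by rw [qj]; group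
      _ = (y * (u * c)) * (p * j2) * q := by rw [pU ucU]; group
      _ = (u * c) * (y * (u * b)) * j2 * p * q := by rw [yU ucU, pj]; group
      _ = (u * c) * (u * b) * (y * j2) * p * q := by rw [yU ubU]; group
      _ = (u * c) * (u * b) * (u * z) * j2 * (y * p * q) := by rw [yj]; group
      _ = u * j2 * (y * p * q) := by
          have h1 : (u * c) * (u * b) * (u * z) = u := by
            calc (u * c) * (u * b) * (u * z) = u * (c * u) * (b * u) * z := by group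
              _ = u * (u * c) * (u * b) * z := by rw [UU cU uU, UU bU uU]
              _ = (u * u) * (c * u) * b * z := by group
              _ = u * (c * b * z) := by rw [uu, UU cU uU]; group
              _ = u := by rw [cbz, mul_one]
          rw [h1]
  apply u1
  have h1 : u * (j2 * w) = 1 * (j2 * w) := by
    rw [one_mul, ← mul_assoc, ← wj', wj]
  exact mul_right_cancel h1

end Cfsg.Agent.OddHalf.D8.RuFam
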