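import Cfsg.Agent.OddHalf.D8.RuFam.Plane
import Cfsg.Agent.OddHalf.D8.RuFam.Kill4
import Cfsg.Agent.OddHalf.D8.RuFam.End56
import Cfsg.Agent.OddHalf.D8.Phi.Gen

/-!
# ODD half, D8, K = Ru: existence of the family (helper936)

`exists_a_of`: from `C_G(t) = ⟨t⟩ × K`, an element `x` with `tˣ = t z`, `[x, z] = 1` and the facts `Loc`, `Plane`,
`Twist` on `K`, an involution `a` with `tᵃ = t z` centralising `C_K(z)`; `exists_fam_of`: the equivariant family.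
-/

set_option autoImplicit false

namespace Cfsg.Agent.OddHalf.D8.RuFam

open Subgroup

variable {G : Type*} [Group G] {t z : G} {K P₀ R B E : Subgroup G}
  {k u ρ g j e₀ e₁ g₂ eb j₂ x₂ h f k₂ k₃ v f₂ : G}

theorem exists_a_of [Finite G] (H : Pos t K) (L : Loc K z P₀ R B E)
    (Q : Plane K z P₀ R B E k u ρ g j e₀ e₁ g₂ eb j₂ x₂ h f) (T : Twist K z P₀ k₂ k₃ v f₂) {x : G}
    (hx : x * t * x⁻¹ = t * z) (xz : x * z * x⁻¹ = z) :
    ∃ a : G, a * a = 1 ∧ a * t * a = t * z ∧ ∀ k ∈ K, k * z = z * k → k * a = a * k := by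
  have hY : YY t z x := ⟨hx, by
    calc x * z = x * z * x⁻¹ * x := by group
      _ = z * x := by rw [xz]⟩
  obtain ⟨y, hy, hyE⟩ := exists_cent H L hY
  obtain ⟨m₀, hm₀⟩ := exists_m H L hy hyE
  obtain ⟨m, M, hρ⟩ := exists_rho H L hm₀ Q.ρP Q.ρ3
  have h0 := Q.comm_e₀ H L M hρ
  obtain ⟨ζ, hζ, h1⟩ := Q.zeta H L M hρ
  rcases hζ with rfl | rfl
  · have h2 : m * e₁ * m⁻¹ = e₁ := by rw [h1, one_mul]
    exact exists_a L T H.tt H.tK H.comm H.cen M.yt M.mR (Q.comm_B H L M hρ h2) (M.toYY.norP H L)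
  · exfalso
    refine false_of_e1 L Q H.comm H.cen M.yt M.mE M.mR hρ ?_ (by rw [h1]; group)
    calc m * e₀ = m * e₀ * m⁻¹ * m := by group
      _ = e₀ * m := by rw [h0]

/-- **existence of the equivariant family** -/
theorem exists_fam_of [Finite G] (H : Pos t K) (L : Loc K z P₀ R B E)
    (Q : Plane K z P₀ R B E k u ρ g j e₀ e₁ g₂ eb j₂ x₂ h f) (T : Twist K z P₀ k₂ k₃ v f₂) {x : G}
    (hx : x * t * x⁻¹ = t * z) (xz : x * z * x⁻¹ = z) :
    ∃ a : G → G, Phi.Fam t K {v | ∃ k ∈ K, v = k * z * k⁻¹} a := by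
  obtain ⟨e, ee, et, ez⟩ := exists_a_of H L Q T hx xz
  obtain ⟨a, ha, -⟩ := Phi.exists_fam H.tt H.tK H.comm H.cen L.zK L.zz ee et ez
  exact ⟨a, ha⟩

end Cfsg.Agent.OddHalf.D8.RuFam
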