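import Cfsg.Agent.OddHalf.D8.RuFam.Facts

/-!
# ODD half, D8, `K = Ru`: transport of the `K`-facts along an injective homomorphism

`Loc.map`, `Plane.map`, `Twist.map` : from the facts for `⊤ ≤ X` to the facts for `φ.range ≤ G`, `φ : X →* G` injective.
-/

set_option autoImplicit false

namespace Cfsg.Agent.OddHalf.D8.RuFam

open Subgroup

variable {X G : Type*} [Group X] [Group G] {φ : X →* G}

theorem map_comap_of_le {Q : Subgroup G} {S : Subgroup X} (h : Q ≤ S.map φ) : (Q.comap φ).map φ = Q := by
  rw [Subgroup.map_comap_eq, inf_eq_right]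
  exact h.trans (Subgroup.map_le_range φ S)

theorem Loc.map (hφ : Function.Injective φ) {z : X} {P0 R B E : Subgroup X} (L : Loc (⊤ : Subgroup X) z P0 R B E) :
    Loc φ.range (φ z) (P0.map φ) (R.map φ) (B.map φ) (E.map φ) := by
  have im : ∀ {S : Subgroup X} {x : X}, φ x ∈ S.map φ ↔ x ∈ S := fun {S x} => Subgroup.mem_map_iff_mem hφ
  refine
    { zK := ⟨z, rfl⟩
      zz := by simpa only [map_mul, map_one] using congrArg φ L.zz
      z1 := fun h => L.z1 (hφ (by rw [h, map_one]))
      PK := Subgroup.map_le_range φ P0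
      Pz := ?_
      perf := ?_
      com := ?_
      idx := ?_
      card := ?_
      RP := Subgroup.map_mono L.RP
      R2 := L.R2.map φ
      Rn := ?_
      Rmax := ?_
      RR := ?_
      zE := im.2 L.zE
      EE := ?_
      RE := ?_
      ZR := ?_
      BR := Subgroup.map_mono L.BR
      cenE := ?_
      BP := ?_
      BB := ?_
      BE := ?_
      RRP := ?_
      hom4 := ?_
      dual := ?_
      five := ?_ }
  · rintro _ ⟨p, hp, rfl⟩
    rw [← map_mul, ← map_mul, L.Pz p hp]
  · rw [← Subgroup.map_commutator, L.perf]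
  · rintro _ ⟨p, rfl⟩ _ ⟨q, rfl⟩ h1 h2
    rw [← map_mul, ← map_mul] at h1 h2
    have := L.com p (mem_top _) q (mem_top _) (hφ h1) (hφ h2)
    simpa only [map_mul, map_inv] using im.2 this
  · rintro _ ⟨p, rfl⟩ _ ⟨q, rfl⟩ h1 h2 h3 h4
    rw [← map_mul, ← map_mul] at h1 h2
    have := L.idx p (mem_top _) q (mem_top _) (hφ h1) (hφ h2) (fun h => h3 (im.2 h)) (fun h => h4 (im.2 h))
    simpa only [map_mul, map_inv] using im.2 this
  · have h1 : Nat.card (P0.map φ) = Nat.card P0 :=
      Nat.card_congr (P0.equivMapOfInjective φ hφ).toEquiv.symm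
    rw [h1]
    exact L.card
  · rintro _ ⟨p, hp, rfl⟩ _ ⟨r, hr, rfl⟩
    simpa only [map_mul, map_inv] using im.2 (L.Rn p hp r hr)
  · intro Q hQ h2 h3
    rw [← map_comap_of_le hQ]
    refine Subgroup.map_mono (L.Rmax _ ?_ (h2.comap_of_injective φ hφ) ?_)
    · intro x hx
      exact im.1 (hQ hx)
    · intro p hp q hq
      rw [mem_comap] at hq ⊢
      simpa only [map_mul, map_inv] using h3 _ (im.2 hp) _ hq
  · rw [← Subgroup.map_commutator, L.RR]
  · rintro _ ⟨e, he, rfl⟩
    simpa only [map_mul, map_one] using congrArg φ (L.EE e he)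
  · rintro _ ⟨r, hr, rfl⟩ _ ⟨e, he, rfl⟩
    rcases L.RE r hr e he with h | h
    · left; simpa only [map_mul, map_inv, map_one] using congrArg φ h
    · right; simpa only [map_mul, map_inv] using congrArg φ h
  · rintro _ ⟨e, he, rfl⟩ h
    rcases L.ZR e he (fun r hr => hφ (by simpa only [map_mul] using h _ (im.2 hr))) with h | h
    · left; rw [h, map_one]
    · right; rw [h]
  · rintro _ ⟨k, rfl⟩
    rw [im, L.cenE k (mem_top _)]
    constructor
    · rintro h _ ⟨e, he, rfl⟩
      simpa only [map_mul] using congrArg φ (h e he)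
    · intro h e he
      exact hφ (by simpa only [map_mul] using h _ (im.2 he))
  · rintro _ ⟨b, hb, rfl⟩ _ ⟨p, hp, rfl⟩
    simpa only [map_mul, map_inv] using im.2 (L.BP b hb p hp)
  · rintro _ ⟨b, hb, rfl⟩ _ ⟨c, hc, rfl⟩
    rcases L.BB b hb c hc with h | h
    · left; simpa only [map_mul, map_inv, map_one] using congrArg φ h
    · right; simpa only [map_mul, map_inv] using congrArg φ h
  · rintro _ ⟨b, hb, rfl⟩ h
    refine im.2 (L.BE b hb fun r hr => ?_)
    rcases h _ (im.2 hr) with h | h
    · left; exact hφ (by simpa only [map_mul, map_inv, map_one] using h)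
    · right; exact hφ (by simpa only [map_mul, map_inv] using h)
  · rw [← Subgroup.map_commutator]
    exact Subgroup.map_mono L.RRP
  · obtain ⟨r, hr, h1, h2⟩ := L.hom4
    refine ⟨φ r, im.2 hr, ?_, ?_⟩
    · intro Q h3 h4 h5
      rw [Subgroup.map_le_iff_le_comap]
      refine h1 _ (Subgroup.map_le_iff_le_comap.1 h3) h4 ?_
      intro p hp q hq
      rw [mem_comap] at hq ⊢
      simpa only [map_mul, map_inv] using h5 _ (im.2 hp) _ hq
    · rintro _ ⟨e, he, rfl⟩ h3
      obtain ⟨b, hb, h4⟩ := h2 e he (by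
        intro p hp h4
        have h5 := h3 _ (im.2 hp) (by simpa only [map_mul, map_inv] using im.2 h4)
        rcases h5 with h5 | h5
        · left; exact hφ (by simpa only [map_mul, map_inv, map_one] using h5)
        · right; exact hφ (by simpa only [map_mul, map_inv] using h5))
      refine ⟨φ b, im.2 hb, ?_⟩
      rcases h4 with h4 | h4
      · left; simpa only [map_mul, map_inv] using congrArg φ h4
      · right; simpa only [map_mul, map_inv] using congrArg φ h4
  · intro Q h1 h2 h3
    obtain ⟨e, he, h4⟩ := L.dual (Q.comap φ) (fun x hx => im.1 (h1 hx)) (Subgroup.map_le_iff_le_comap.1 h2) (by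
      intro r hr s hs h4 h5
      rw [mem_comap] at h4 h5 ⊢
      rw [map_mul]
      exact h3 _ (im.2 hr) _ (im.2 hs) h4 h5)
    refine ⟨φ e, im.2 he, ?_⟩
    rintro _ ⟨r, hr, rfl⟩
    have h5 := h4 r hr
    rw [mem_comap] at h5
    rw [h5]
    constructor
    · intro h; simpa only [map_mul] using congrArg φ h
    · intro h; exact hφ (by simpa only [map_mul] using h)
  · obtain ⟨a, ha, a5, a1, ⟨n, -, hnz, hna⟩, h1⟩ := L.five
    refine ⟨φ a, im.2 ha, ?_, fun h => a1 (hφ (by rw [h, map_one])), ⟨φ n, ⟨n, rfl⟩, ?_, ?_⟩, ?_⟩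
    · rw [← map_pow, a5, map_one]
    · rw [← map_mul, ← map_mul, hnz]
    · rw [← map_pow, ← hna]
      simp only [map_mul, map_inv]
    · intro Q h2 h3 h4
      rcases h1 (Q.comap φ) (fun x hx => im.1 (h2 hx)) h3 (by
        intro q hq
        rw [mem_comap] at hq ⊢
        simpa only [map_mul, map_inv] using h4 _ hq) with h5 | h5
      · left
        intro q hq
        obtain ⟨x, hx, rfl⟩ := h2 hq
        rcases h5 x hq with h6 | h6
        · left; rw [h6, map_one]
        · right; rw [h6]
      · right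
        rw [← map_comap_of_le h2, h5]

theorem Plane.map (hφ : Function.Injective φ) {z : X} {P0 R B E : Subgroup X}
    {k u ρ g j e0 e1 g2 eb j2 x2 h f : X}
    (Pl : Plane (⊤ : Subgroup X) z P0 R B E k u ρ g j e0 e1 g2 eb j2 x2 h f) :
    Plane φ.range (φ z) (P0.map φ) (R.map φ) (B.map φ) (E.map φ) (φ k) (φ u) (φ ρ) (φ g) (φ j) (φ e0) (φ e1)
      (φ g2) (φ eb) (φ j2) (φ x2) (φ h) (φ f) := by
  have im : ∀ {S : Subgroup X} {x : X}, φ x ∈ S.map φ ↔ x ∈ S := fun {S x} => Subgroup.mem_map_iff_mem hφ
  refine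
    { kK := ⟨k, rfl⟩
      ku := by simpa only [map_mul, map_inv] using congrArg φ Pl.ku
      uE := im.2 Pl.uE
      zEu := by simpa only [map_mul, map_inv] using im.2 Pl.zEu
      ρP := im.2 Pl.ρP
      ρ3 := by simpa only [map_mul, map_inv, map_one] using congrArg φ Pl.ρ3
      ρu := by simpa only [map_mul, map_inv, map_one] using congrArg φ Pl.ρu
      uEu := by simpa only [map_mul, map_inv] using im.2 Pl.uEu
      ρE := ?_
      gK := ⟨g, rfl⟩
      gz := by simpa only [map_mul, map_inv] using congrArg φ Pl.gz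
      gρ := by simpa only [map_mul, map_inv] using congrArg φ Pl.gρ
      gu := by simpa only [map_mul, map_inv] using congrArg φ Pl.gu
      e₀E := by simpa only [map_mul, map_inv] using im.2 Pl.e₀E
      e₀R := im.2 Pl.e₀R
      e₁E := by simpa only [map_mul, map_inv] using im.2 Pl.e₁E
      e₁P := im.2 Pl.e₁P
      gen := ?_
      test := ?_
      jB := im.2 Pl.jB
      N₀ := by simpa only [map_mul, map_inv] using im.2 Pl.N₀
      N₁ := by simpa only [map_mul, map_inv] using im.2 Pl.N₁
      ge₁ := by simpa only [map_mul, map_inv] using im.2 Pl.ge₁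
      Bj := ?_
      g₂R := im.2 Pl.g₂R
      jgen := ?_
      ebE := im.2 Pl.ebE
      eb₀ := by simpa only [map_mul, map_inv, map_one] using congrArg φ Pl.eb₀
      eb₁ := by simpa only [map_mul, map_inv, map_one] using congrArg φ Pl.eb₁
      j₂B := by simpa only [map_mul, map_inv] using im.2 Pl.j₂B
      x₂E := im.2 Pl.x₂E
      j₂e := by simpa only [map_mul, map_inv] using congrArg φ Pl.j₂e
      kap := by simpa only [map_mul, map_inv] using congrArg φ Pl.kap
      h₀ := by simpa only [map_mul, map_inv, map_one] using congrArg φ Pl.h₀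
      hK := ⟨h, rfl⟩
      hu := by simpa only [map_mul, map_inv] using congrArg φ Pl.hu
      hE := ?_
      hj := by simpa only [map_mul, map_inv] using im.2 Pl.hj
      hz := by simpa only [map_mul, map_inv, map_one] using congrArg φ Pl.hz
      fR := im.2 Pl.fR
      fR₁ := by simpa only [map_mul, map_inv] using im.2 Pl.fR₁
      fR₂ := by simpa only [map_mul, map_inv] using im.2 Pl.fR₂
      fb := ?_ }
  · rintro _ ⟨e, he, rfl⟩ h1
    rcases Pl.ρE e he (hφ (by simpa only [map_mul] using h1)) with h2 | h2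
    · left; rw [h2, map_one]
    · right; rw [h2]
  · rintro _ ⟨x, hx, rfl⟩
    have h1 := mem_map_of_mem φ (Pl.gen x hx)
    rw [MonoidHom.map_closure] at h1
    simpa only [Set.image_insert_eq, Set.image_singleton, map_mul, map_inv] using h1
  · rintro _ ⟨ζ, hζ, rfl⟩ h1
    have h2 := mem_map_of_mem φ (Pl.test ζ hζ (by
      intro c hc h2
      have h3 := h1 _ (im.2 hc) (by simpa only [map_mul, map_inv] using im.2 h2)
      exact hφ (by simpa only [map_mul] using h3)))
    rw [MonoidHom.map_closure] at h2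
    simpa only [Set.image_insert_eq, Set.image_singleton, map_mul, map_inv] using h2
  · rintro _ ⟨b, hb, rfl⟩
    rcases Pl.Bj b hb with h1 | h1 | h1 | h1
    · left; exact im.2 h1
    · right; left; simpa only [map_mul, map_inv] using im.2 h1
    · right; right; left; simpa only [map_mul, map_inv] using im.2 h1
    · right; right; right; simpa only [map_mul, map_inv] using im.2 h1
  · have h1 := mem_map_of_mem φ Pl.jgen
    rw [MonoidHom.map_closure] at h1
    simpa only [Set.image_union, Set.image_insert_eq, Set.image_singleton, map_mul, map_inv, coe_map] using h1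
  · rintro _ ⟨x, hx, rfl⟩
    simpa only [map_mul, map_inv] using im.2 (Pl.hE x hx)
  · rintro _ ⟨b, hb, rfl⟩ ⟨y, h1, h2⟩
    refine im.2 (Pl.fb b hb ⟨k * b * k⁻¹ * f * (k * b * k⁻¹)⁻¹ * f⁻¹, ?_, rfl⟩)
    have h3 : φ (k * b * k⁻¹ * f * (k * b * k⁻¹)⁻¹ * f⁻¹) = y := by
      rw [← h2]
      simp only [map_mul, map_inv]
    rcases h1 with h1 | h1 | h1 | h1
    · left; exact hφ (by rw [h3, h1, map_one])
    · right; left; exact hφ (by rw [h3, h1])
    · right; right; left; exact hφ (by rw [h3, h1]; simp only [map_mul, map_inv])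
    · right; right; right; exact hφ (by rw [h3, h1]; simp only [map_mul, map_inv])

theorem Twist.map (hφ : Function.Injective φ) {z : X} {P0 : Subgroup X} {k2 k3 v f2 : X}
    (T : Twist (⊤ : Subgroup X) z P0 k2 k3 v f2) :
    Twist φ.range (φ z) (P0.map φ) (φ k2) (φ k3) (φ v) (φ f2) := by
  have im : ∀ {S : Subgroup X} {x : X}, φ x ∈ S.map φ ↔ x ∈ S := fun {S x} => Subgroup.mem_map_iff_mem hφ
  refine
    { k₂K := ⟨k2, rfl⟩
      k₃K := ⟨k3, rfl⟩
      kv := by simpa only [map_mul, map_inv] using congrArg φ T.kv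
      kzv := by simpa only [map_mul, map_inv] using congrArg φ T.kzv
      vP := im.2 T.vP
      z₂ := by simpa only [map_mul, map_inv] using im.2 T.z₂
      z₃ := by simpa only [map_mul, map_inv] using im.2 T.z₃
      v₃ := by simpa only [map_mul, map_inv] using im.2 T.v₃
      fK := ⟨f2, rfl⟩
      fz := by simpa only [map_mul, map_inv] using congrArg φ T.fz
      fv := by simpa only [map_mul, map_inv] using congrArg φ T.fv
      n₁ := fun h => T.n₁ (im.1 h)
      n₂ := fun h => T.n₂ (im.1 (by simpa only [map_mul, map_inv] using h))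
      n₃ := by simpa only [map_mul, map_inv] using im.2 T.n₃
      cen := ?_ }
  rintro _ ⟨c, rfl⟩ h1
  have h2 := T.cen c (mem_top _) (by
    intro x hx h2 h3
    have h4 : (φ k2)⁻¹ * φ x * φ k2 ∈ P0.map φ := by simpa only [map_mul, map_inv] using im.2 h2
    have h5 : (φ k3)⁻¹ * φ x * φ k3 ∈ P0.map φ := by simpa only [map_mul, map_inv] using im.2 h3
    have h6 := h1 _ (im.2 hx) h4 h5
    exact hφ (by simpa only [map_mul] using h6))
  simpa only [map_mul] using congrArg φ h2

end Cfsg.Agent.OddHalf.D8.RuFam
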