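import Cfsg.Agent.OddHalf.D8.RuFam.Facts
import Cfsg.Agent.GTwoFour.Tools

/-!
# ODD half, D8, K = Ru: existence of the family, steps (0) and (1) (helper936)

`Pos t K`: `C_G(t) = ⟨t⟩ × K`. `YY t z y`: `tʸ = t z`, `[y, z] = 1`.

* `exists_cent`: there is `y` with `YY t z y` centralising `E`;
* `exists_m`: there is `m` with `MM t z R E m`: `tᵐ = t z`, `[m, E] = 1`, `[m, R] ≤ ⟨z⟩`.
-/

set_option autoImplicit false

namespace Cfsg.Agent.OddHalf.D8.RuFam

open Subgroup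
open scoped commutatorElement

variable {G : Type*} [Group G]

/-- `C_G(t) = ⟨t⟩ × K` -/
structure Pos (t : G) (K : Subgroup G) : Prop where
  tt : t * t = 1
  tK : t ∉ K
  comm : ∀ k ∈ K, k * t = t * k
  cen : ∀ g : G, g * t = t * g → g ∈ K ∨ t * g ∈ K

/-- `tʸ = t z` and `[y, z] = 1` -/
structure YY (t z y : G) : Prop where
  yt : y * t * y⁻¹ = t * z
  yz : y * z = z * y

/-- condition (M) -/
structure MM (t z : G) (R E : Subgroup G) (m : G) : Prop extends YY t z m where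
  mE : ∀ e ∈ E, m * e = e * m
  mR : ∀ r ∈ R, m * r * m⁻¹ = r ∨ m * r * m⁻¹ = r * z

variable {t z : G} {K P₀ R B E : Subgroup G}

theorem conj_comm {x p q : G} (h : p * q = q * p) :
    x * p * x⁻¹ * (x * q * x⁻¹) = x * q * x⁻¹ * (x * p * x⁻¹) := by
  calc x * p * x⁻¹ * (x * q * x⁻¹) = x * (p * q) * x⁻¹ := by group
    _ = x * q * x⁻¹ * (x * p * x⁻¹) := by rw [h]; group

namespace Loc

theorem RK (L : Loc K z P₀ R B E) : R ≤ K := L.RP.trans L.PK

theorem EleR (L : Loc K z P₀ R B E) : E ≤ R := by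
  rw [← L.RR, commutator_le]
  intro a ha b hb
  rw [commutatorElement_def]
  exact mul_mem (mul_mem (mul_mem ha hb) (inv_mem ha)) (inv_mem hb)

theorem BP₀ (L : Loc K z P₀ R B E) : B ≤ P₀ := L.BR.trans L.RP

theorem EP (L : Loc K z P₀ R B E) : E ≤ P₀ := L.EleR.trans L.RP

theorem BK (L : Loc K z P₀ R B E) : B ≤ K := L.BR.trans L.RK

theorem EK (L : Loc K z P₀ R B E) : E ≤ K := L.EleR.trans L.RK

theorem Einv (L : Loc K z P₀ R B E) {e : G} (he : e ∈ E) : e⁻¹ = e := inv_eq_of_mul_eq_one_right (L.EE e he)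

theorem Eab (L : Loc K z P₀ R B E) {e e' : G} (he : e ∈ E) (he' : e' ∈ E) : e * e' = e' * e := by
  have h1 := L.Einv (mul_mem he he')
  rw [mul_inv_rev, L.Einv he, L.Einv he'] at h1
  exact h1.symm

theorem EleB (L : Loc K z P₀ R B E) : E ≤ B := fun e he =>
  (L.cenE e (L.EK he)).2 fun _ he' => L.Eab he he'

theorem cB (L : Loc K z P₀ R B E) {b e : G} (hb : b ∈ B) (he : e ∈ E) : b * e = e * b :=
  (L.cenE b (L.BK hb)).1 hb e he

theorem Rz (L : Loc K z P₀ R B E) {r : G} (hr : r ∈ R) : r * z = z * r := L.Pz r (L.RP hr)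

theorem zR (L : Loc K z P₀ R B E) : z ∈ R := L.EleR L.zE

theorem zinv (L : Loc K z P₀ R B E) : z⁻¹ = z := L.Einv L.zE

/-- conjugation of `e ∈ E` by `r ∈ R` -/
theorem RE' (L : Loc K z P₀ R B E) {r e : G} (hr : r ∈ R) (he : e ∈ E) :
    r * e * r⁻¹ = e ∨ r * e * r⁻¹ = e * z := by
  rcases L.RE r hr e he with h | h
  · left
    exact mul_inv_eq_one.1 h
  · right
    rw [mul_inv_eq_iff_eq_mul] at h
    rw [h, L.Eab L.zE he]

end Loc

/-! ### elements normalising `P₀` -/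

/-- `x` normalises `R` and `E` if it normalises `P₀` -/
theorem Loc.nor_R (L : Loc K z P₀ R B E) {x : G} (h1 : ∀ p ∈ P₀, x * p * x⁻¹ ∈ P₀)
    (h2 : ∀ p ∈ P₀, x⁻¹ * p * x ∈ P₀) : ∀ r ∈ R, x * r * x⁻¹ ∈ R := by
  have h3 : R.map (MulAut.conj x).toMonoidHom ≤ R := by
    apply L.Rmax
    · rintro _ ⟨r, hr, rfl⟩
      exact h1 r (L.RP hr)
    · exact L.R2.map _
    · rintro p hp _ ⟨r, hr, rfl⟩
      refine ⟨x⁻¹ * p * x * r * (x⁻¹ * p * x)⁻¹, L.Rn _ (h2 p hp) r hr, ?_⟩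
      show x * (x⁻¹ * p * x * r * (x⁻¹ * p * x)⁻¹) * x⁻¹ = p * (x * r * x⁻¹) * p⁻¹
      group
  intro r hr
  exact h3 ⟨r, hr, rfl⟩

theorem Loc.nor_E (L : Loc K z P₀ R B E) {x : G} (h1 : ∀ r ∈ R, x * r * x⁻¹ ∈ R) :
    ∀ e ∈ E, x * e * x⁻¹ ∈ E := by
  have h2 : E ≤ E.comap (MulAut.conj x).toMonoidHom := by
    conv_lhs => rw [← L.RR]
    rw [commutator_le]
    intro a ha b hb
    show x * ⁅a, b⁆ * x⁻¹ ∈ E
    have h3 : x * ⁅a, b⁆ * x⁻¹ = ⁅x * a * x⁻¹, x * b * x⁻¹⁆ := by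
      rw [commutatorElement_def, commutatorElement_def]; group
    rw [h3, ← L.RR]
    exact commutator_mem_commutator (h1 a ha) (h1 b hb)
  intro e he
  exact h2 he

/-- elements of `C_K(z)` normalise `P₀` -/
theorem Loc.nor_cen (L : Loc K z P₀ R B E) {k : G} (hk : k ∈ K) (hkz : k * z = z * k) :
    ∀ p ∈ P₀, k * p * k⁻¹ ∈ P₀ := by
  intro p hp
  have h1 := L.com k hk p (L.PK hp) hkz (L.Pz p hp)
  have h2 := mul_mem h1 hp
  have e : k * p * k⁻¹ * p⁻¹ * p = k * p * k⁻¹ := by group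
  rwa [e] at h2

theorem Loc.nor_cen' (L : Loc K z P₀ R B E) {k : G} (hk : k ∈ K) (hkz : k * z = z * k) :
    ∀ p ∈ P₀, k⁻¹ * p * k ∈ P₀ := by
  have h1 : k⁻¹ * z = z * k⁻¹ := by
    calc k⁻¹ * z = k⁻¹ * (z * k) * k⁻¹ := by group
      _ = z * k⁻¹ := by rw [← hkz]; group
  intro p hp
  have := L.nor_cen (inv_mem hk) h1 p hp
  rwa [inv_inv] at this

theorem Loc.cen_R (L : Loc K z P₀ R B E) {k : G} (hk : k ∈ K) (hkz : k * z = z * k) :
    ∀ r ∈ R, k * r * k⁻¹ ∈ R := L.nor_R (L.nor_cen hk hkz) (L.nor_cen' hk hkz)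

theorem Loc.cen_E (L : Loc K z P₀ R B E) {k : G} (hk : k ∈ K) (hkz : k * z = z * k) :
    ∀ e ∈ E, k * e * k⁻¹ ∈ E := L.nor_E (L.cen_R hk hkz)

namespace YY

theorem inv {y : G} (h : YY t z y) (zz : z * z = 1) : YY t z y⁻¹ where
  yt := by
    have h1 : y⁻¹ * z * y = z := by
      calc y⁻¹ * z * y = y⁻¹ * (z * y) := by group
        _ = z := by rw [← h.yz]; group
    have h2 : t = y⁻¹ * t * y * z := by
      calc t = y⁻¹ * (y * t * y⁻¹) * y := by group
        _ = y⁻¹ * t * y * (y⁻¹ * z * y) := by rw [h.yt]; group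
        _ = y⁻¹ * t * y * z := by rw [h1]
    calc y⁻¹ * t * y⁻¹⁻¹ = y⁻¹ * t * y * (z * z) := by rw [zz]; group
      _ = y⁻¹ * t * y * z * z := by group
      _ = t * z := by rw [← h2]
  yz := by
    calc y⁻¹ * z = y⁻¹ * (z * y) * y⁻¹ := by group
      _ = z * y⁻¹ := by rw [← h.yz]; group

/-- multiplication by an element of `C(t) ∩ C(z)` on the left -/
theorem mul_left {y c : G} (h : YY t z y) (ct : c * t = t * c) (cz : c * z = z * c) : YY t z (c * y) where
  yt := by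
    calc c * y * t * (c * y)⁻¹ = c * (y * t * y⁻¹) * c⁻¹ := by group
      _ = c * t * z * c⁻¹ := by rw [h.yt]; group
      _ = t * (c * z) * c⁻¹ := by rw [ct]; group
      _ = t * z := by rw [cz]; group
  yz := by
    calc c * y * z = c * (y * z) := by group
      _ = c * z * y := by rw [h.yz]; group
      _ = z * (c * y) := by rw [cz]; group

theorem mul_right {y c : G} (h : YY t z y) (ct : c * t = t * c) (cz : c * z = z * c) : YY t z (y * c) where
  yt := by
    calc y * c * t * (y * c)⁻¹ = y * (c * t) * c⁻¹ * y⁻¹ := by group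
      _ = y * t * y⁻¹ := by rw [ct]; group
      _ = t * z := h.yt
  yz := by
    calc y * c * z = y * (c * z) := by group
      _ = y * z * c := by rw [cz]; group
      _ = z * (y * c) := by rw [h.yz]; group

end YY

theorem Pos.tz (h : Pos t K) (L : Loc K z P₀ R B E) : z * t = t * z := h.comm z L.zK

/-- `C(t) ∩ C(z) = ⟨t⟩ × C_K(z)` -/
theorem Pos.cases (h : Pos t K) (L : Loc K z P₀ R B E) {c : G} (ct : c * t = t * c) (cz : c * z = z * c) :
    ∃ k ∈ K, k * z = z * k ∧ (c = k ∨ c = t * k) := by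
  rcases h.cen c ct with h1 | h1
  · exact ⟨c, h1, cz, Or.inl rfl⟩
  · refine ⟨t * c, h1, ?_, Or.inr ?_⟩
    · calc t * c * z = t * (c * z) := by group
        _ = t * z * c := by rw [cz]; group
        _ = z * (t * c) := by rw [← h.tz L]; group
    · rw [← mul_assoc, h.tt, one_mul]

theorem Pos.comm_mem (h : Pos t K) (L : Loc K z P₀ R B E) {c d : G} (ct : c * t = t * c) (cz : c * z = z * c)
    (dt : d * t = t * d) (dz : d * z = z * d) : c * d * c⁻¹ * d⁻¹ ∈ P₀ := by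
  obtain ⟨k, hk, kz, hc⟩ := h.cases L ct cz
  obtain ⟨l, hl, lz, hd⟩ := h.cases L dt dz
  have key := L.com k hk l hl kz lz
  have kt := h.comm k hk
  have lt := h.comm l hl
  have e : c * d * c⁻¹ * d⁻¹ = k * l * k⁻¹ * l⁻¹ := by
    have h1 : ∀ d' : G, (d' = l ∨ d' = t * l) → k * d' * k⁻¹ * d'⁻¹ = k * l * k⁻¹ * l⁻¹ := by
      rintro d' (rfl | rfl)
      · rfl
      · calc k * (t * l) * k⁻¹ * (t * l)⁻¹ = (k * t) * l * k⁻¹ * l⁻¹ * t⁻¹ := by group
          _ = t * (k * l * k⁻¹ * l⁻¹) * t⁻¹ := by rw [kt]; group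
          _ = (k * l * k⁻¹ * l⁻¹) * t * t⁻¹ := by rw [h.comm _ (L.PK key)]
          _ = _ := by group
    rcases hc with rfl | rfl
    · exact h1 d hd
    · rw [← h1 d hd]
      calc t * k * d * (t * k)⁻¹ * d⁻¹ = t * (k * d * k⁻¹) * (t⁻¹ * d⁻¹) := by group
        _ = t * (k * d * k⁻¹) * (d * t)⁻¹ := by rw [mul_inv_rev d t]
        _ = t * (k * d * k⁻¹) * (t * d)⁻¹ := by rw [dt]
        _ = t * (k * d * k⁻¹ * d⁻¹) * t⁻¹ := by group
        _ = (k * d * k⁻¹ * d⁻¹) * t * t⁻¹ := by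
            have h2 : t * (k * d * k⁻¹ * d⁻¹) = (k * d * k⁻¹ * d⁻¹) * t := by
              have e1 : d⁻¹ * t = t * d⁻¹ := by
                calc d⁻¹ * t = d⁻¹ * (t * d) * d⁻¹ := by group
                  _ = t * d⁻¹ := by rw [← dt]; group
              have e2 : k⁻¹ * t = t * k⁻¹ := h.comm _ (inv_mem hk)
              calc t * (k * d * k⁻¹ * d⁻¹) = (t * k) * d * k⁻¹ * d⁻¹ := by group
                _ = k * (t * d) * k⁻¹ * d⁻¹ := by rw [← kt]; group
                _ = k * d * (t * k⁻¹) * d⁻¹ := by rw [← dt]; group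
                _ = k * d * k⁻¹ * (t * d⁻¹) := by rw [← e2]; group
                _ = k * d * k⁻¹ * d⁻¹ * t := by rw [← e1]; group
            rw [h2]
        _ = _ := by group
  rw [e]
  exact key

/-- `y` normalises `P₀` -/
theorem YY.norP {y : G} (h : YY t z y) (H : Pos t K) (L : Loc K z P₀ R B E) : ∀ p ∈ P₀, y * p * y⁻¹ ∈ P₀ := by
  have hC : ∀ p ∈ P₀, y * p * y⁻¹ * t = t * (y * p * y⁻¹) ∧ y * p * y⁻¹ * z = z * (y * p * y⁻¹) := by
    intro p hp
    have h1 : y * z * y⁻¹ = z := by rw [h.yz]; group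
    have h2 : y * p * y⁻¹ * z = z * (y * p * y⁻¹) := by
      have := conj_comm (x := y) (L.Pz p hp)
      rwa [h1] at this
    refine ⟨?_, h2⟩
    have h3 := conj_comm (x := y) (H.comm p (L.PK hp))
    rw [h.yt] at h3
    have h4 : y * p * y⁻¹ * t * z = t * (y * p * y⁻¹) * z := by
      calc y * p * y⁻¹ * t * z = y * p * y⁻¹ * (t * z) := by group
        _ = t * (z * (y * p * y⁻¹)) := by rw [h3]; group
        _ = t * (y * p * y⁻¹) * z := by rw [← h2]; group
    exact mul_right_cancel h4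
  have h5 : P₀ ≤ P₀.comap (MulAut.conj y).toMonoidHom := by
    conv_lhs => rw [← L.perf]
    rw [commutator_le]
    intro a ha b hb
    show y * ⁅a, b⁆ * y⁻¹ ∈ P₀
    have h3 : y * ⁅a, b⁆ * y⁻¹ = y * a * y⁻¹ * (y * b * y⁻¹) * (y * a * y⁻¹)⁻¹ * (y * b * y⁻¹)⁻¹ := by
      rw [commutatorElement_def]; group
    rw [h3]
    exact H.comm_mem L (hC a ha).1 (hC a ha).2 (hC b hb).1 (hC b hb).2
  intro p hp
  exact h5 hp

theorem YY.norP' {y : G} (h : YY t z y) (H : Pos t K) (L : Loc K z P₀ R B E) : ∀ p ∈ P₀, y⁻¹ * p * y ∈ P₀ := by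
  intro p hp
  have := (h.inv L.zz).norP H L p hp
  rwa [inv_inv] at this

theorem YY.norR {y : G} (h : YY t z y) (H : Pos t K) (L : Loc K z P₀ R B E) : ∀ r ∈ R, y * r * y⁻¹ ∈ R :=
  L.nor_R (h.norP H L) (h.norP' H L)

theorem YY.norE {y : G} (h : YY t z y) (H : Pos t K) (L : Loc K z P₀ R B E) : ∀ e ∈ E, y * e * y⁻¹ ∈ E :=
  L.nor_E (h.norR H L)

/-- odd powers -/
theorem YY.pow {y : G} (h : YY t z y) (zz : z * z = 1) (n : ℕ) : YY t z (y ^ (2 * n + 1)) := by
  have h2t : y * y * t = t * (y * y) := by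
    have h1 : y * y * t * (y * y)⁻¹ = t := by
      calc y * y * t * (y * y)⁻¹ = y * (y * t * y⁻¹) * y⁻¹ := by group
        _ = y * t * (z * y⁻¹) := by rw [h.yt]; group
        _ = y * t * (y⁻¹ * z) := by rw [(h.inv zz).yz]
        _ = y * t * y⁻¹ * z := by group
        _ = t * (z * z) := by rw [h.yt]; group
        _ = t := by rw [zz, mul_one]
    calc y * y * t = y * y * t * (y * y)⁻¹ * (y * y) := by group
      _ = t * (y * y) := by rw [h1]
  have h2z : y * y * z = z * (y * y) := by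
    calc y * y * z = y * (y * z) := by group
      _ = y * (z * y) := by rw [h.yz]
      _ = (y * z) * y := by group
      _ = z * y * y := by rw [h.yz]
      _ = z * (y * y) := by group
  induction n with
  | zero => simpa using h
  | succ n ih =>
    have e : y ^ (2 * (n + 1) + 1) = y ^ (2 * n + 1) * (y * y) := by
      rw [show 2 * (n + 1) + 1 = (2 * n + 1) + 1 + 1 by ring, pow_succ, pow_succ]; group
    rw [e]
    exact ih.mul_right h2t h2z

/-! ### step (0) -/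

/-- two elements of order 5 of `P₀` generate conjugate subgroups -/
theorem exists_conj_five [Finite G] (hcard : ¬ 25 ∣ Nat.card P₀) {a b : G} (ha : a ∈ P₀) (hb : b ∈ P₀)
    (a5 : a ^ 5 = 1) (b5 : b ^ 5 = 1) (a1 : a ≠ 1) (b1 : b ≠ 1) :
    ∃ p ∈ P₀, p * b * p⁻¹ ∈ zpowers a := by
  have hp5 : Fact (Nat.Prime 5) := ⟨by norm_num⟩
  have key : ∀ (x : P₀), x ^ 5 = 1 → x ≠ 1 → ∃ Q : Sylow 5 P₀, (Q : Subgroup P₀) = zpowers x := by
    intro x hx hx1
    have ho : orderOf x = 5 := by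
      rw [orderOf_eq_prime_iff]
      exact ⟨hx, hx1⟩
    have hQ : IsPGroup 5 (zpowers x) := by
      apply IsPGroup.of_card (n := 1)
      rw [Nat.card_zpowers, ho, pow_one]
    obtain ⟨Q, hQ'⟩ := hQ.exists_le_sylow
    refine ⟨Q, ?_⟩
    symm
    apply eq_of_le_of_card_ge hQ'
    obtain ⟨n, hn⟩ := IsPGroup.iff_card.1 Q.isPGroup'
    rw [Nat.card_zpowers, ho, hn]
    have h1 : n ≤ 1 := by
      by_contra h2
      apply hcard
      have h3 : (5 : ℕ) ^ 2 ∣ Nat.card Q := by rw [hn]; exact pow_dvd_pow 5 (by omega)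
      exact dvd_trans (by norm_num) (h3.trans (card_subgroup_dvd_card _))
    calc (5 : ℕ) ^ n ≤ 5 ^ 1 := Nat.pow_le_pow_right (by norm_num) h1
      _ = 5 := by norm_num
  obtain ⟨Qa, hQa⟩ := key ⟨a, ha⟩ (Subtype.ext a5) (fun h => a1 (congrArg Subtype.val h))
  obtain ⟨Qb, hQb⟩ := key ⟨b, hb⟩ (Subtype.ext b5) (fun h => b1 (congrArg Subtype.val h))
  obtain ⟨p, hp⟩ := MulAction.exists_smul_eq P₀ Qb Qa
  refine ⟨p, p.2, ?_⟩
  have h1 : (⟨b, hb⟩ : P₀) ∈ (Qb : Subgroup P₀) := by rw [hQb]; exact mem_zpowers _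
  have h2 : p * ⟨b, hb⟩ * p⁻¹ ∈ (Qa : Subgroup P₀) := by
    rw [← hp, Sylow.coe_subgroup_smul]
    exact ⟨_, h1, by simp [MulAut.conj_apply]⟩
  rw [hQa] at h2
  obtain ⟨i, hi⟩ := mem_zpowers_iff.1 h2
  refine mem_zpowers_iff.2 ⟨i, ?_⟩
  have := congrArg Subtype.val hi
  simpa using this

/-- a 2-element centralising the element `a` of order 5 and `z`, normalising `E`, centralises `E` -/
theorem Loc.cent_of_five [Finite G] (L : Loc K z P₀ R B E) {a y : G} (ha : a ∈ P₀) (a5 : a ^ 5 = 1) (a1 : a ≠ 1)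
    (hirr : ∀ Q ≤ E, z ∈ Q → (∀ q ∈ Q, a * q * a⁻¹ ∈ Q) → (∀ q ∈ Q, q = 1 ∨ q = z) ∨ Q = E)
    (hy : IsPGroup 2 (zpowers y)) (yz : y * z = z * y) (ya : y * a = a * y) (yE : ∀ e ∈ E, y * e * y⁻¹ ∈ E)
    (yE' : ∀ e ∈ E, y⁻¹ * e * y ∈ E) : ∀ e ∈ E, y * e = e * y := by
  have hp2 : Fact (Nat.Prime 2) := ⟨Nat.prime_two⟩
  have aE : ∀ e ∈ E, a * e * a⁻¹ ∈ E := L.cen_E (L.PK ha) (L.Pz a ha)
  have zy : y * z * y⁻¹ = z := by rw [yz]; group
  -- fixed points modulo `z`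
  have h1 : ∃ e ∈ E, ¬ (e = 1 ∨ e = z) ∧ (y * e * y⁻¹ * e⁻¹ = 1 ∨ y * e * y⁻¹ * e⁻¹ = z) := by
    have hEn : E ≤ normalizer (E : Set G) := le_normalizer
    have hyn : zpowers y ≤ normalizer (E : Set G) := by
      rw [zpowers_le, mem_normalizer_iff]
      intro e
      refine ⟨yE e, fun he => ?_⟩
      have := yE' _ he
      have e2 : y⁻¹ * (y * e * y⁻¹) * y = e := by group
      rwa [e2] at this
    have h2E : IsPGroup 2 E := L.R2.to_le L.EleR
    have hS : IsPGroup 2 ↥(E ⊔ zpowers y) := by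
      rw [sup_comm]
      exact hy.to_sup_of_normal_right' h2E hyn
    have hgen : ∀ x ∈ E ⊔ zpowers y, ∀ e ∈ E, x * e * x⁻¹ ∈ E := by
      intro x hx e he
      have h3 : E ⊔ zpowers y ≤ normalizer (E : Set G) := sup_le hEn hyn
      exact ((mem_normalizer_iff.1 (h3 hx)) e).1 he
    have hz : ∀ x ∈ E ⊔ zpowers y, ∀ e ∈ zpowers z, x * e * x⁻¹ ∈ zpowers z := by
      intro x hx e he
      have h3 : E ⊔ zpowers y ≤ centralizer {z} := by
        refine sup_le (fun w hw => mem_centralizer_singleton_iff.2 (L.Eab hw L.zE)) ?_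
        rw [zpowers_le]
        exact mem_centralizer_singleton_iff.2 yz
      have h4 := mem_centralizer_singleton_iff.1 (h3 hx)
      obtain ⟨i, rfl⟩ := mem_zpowers_iff.1 he
      have h5 : x * z ^ i * x⁻¹ = z ^ i := by
        have : Commute x (z ^ i) := (show Commute x z from h4).zpow_right i
        rw [this.eq]; group
      rw [h5]
      exact he
    have hz2 : ∀ x, x ∈ zpowers z ↔ x = 1 ∨ x = z := by
      intro x
      constructor
      · rintro hx
        obtain ⟨i, rfl⟩ := mem_zpowers_iff.1 hx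
        rcases Int.even_or_odd' i with ⟨k, rfl | rfl⟩
        · left; rw [zpow_mul, show z ^ (2 : ℤ) = 1 by rw [zpow_two, L.zz], one_zpow]
        · right; rw [zpow_add, zpow_mul, show z ^ (2 : ℤ) = 1 by rw [zpow_two, L.zz], one_zpow, one_mul, zpow_one]
      · rintro (rfl | rfl)
        · exact one_mem _
        · exact mem_zpowers _
    have hne : ∃ e ∈ E, e ∉ zpowers z := by
      by_contra hcon
      push Not at hcon
      have h6 : ∀ b ∈ B, b ∈ E → b = 1 ∨ b = z := fun b _ hb => (hz2 b).1 (hcon b hb)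
      -- then `a` centralises `E`, so it is in the 2-group `B`
      have h7 : a ∈ B := (L.cenE a (L.PK ha)).2 fun e he => by
        rcases (hz2 e).1 (hcon e he) with rfl | rfl
        · rw [mul_one, one_mul]
        · exact L.Pz a ha
      obtain ⟨n, hn⟩ := L.R2 ⟨a, L.BR h7⟩
      have h8 : a ^ (2 ^ n) = 1 := by
        have := congrArg Subtype.val hn
        simpa using this
      have h9 : orderOf a ∣ 2 ^ n := orderOf_dvd_of_pow_eq_one h8
      have hp5 : Fact (Nat.Prime 5) := ⟨by norm_num⟩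
      have h10 : orderOf a = 5 := orderOf_eq_prime_iff.2 ⟨a5, a1⟩
      rw [h10] at h9
      have h11 := (Nat.Prime.dvd_of_dvd_pow (by norm_num) h9)
      norm_num at h11
    obtain ⟨e, he, hez, hye⟩ := Cfsg.Agent.GTwoFour.Tools.exists_fixed_mod hS (le_sup_left) hgen hz hne
    refine ⟨e, he, fun h => hez ((hz2 e).2 h), ?_⟩
    have := hye y (mem_sup_right (mem_zpowers y))
    rw [commutatorElement_def] at this
    exact (hz2 _).1 this
  -- the subgroup of the fixed points modulo `z`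
  let X : Subgroup G :=
    { carrier := {e | e ∈ E ∧ (y * e * y⁻¹ = e ∨ y * e * y⁻¹ = z * e)}
      one_mem' := ⟨one_mem _, Or.inl (by group)⟩
      mul_mem' := by
        rintro e f ⟨he, h2⟩ ⟨hf, h3⟩
        refine ⟨mul_mem he hf, ?_⟩
        have h4 : y * (e * f) * y⁻¹ = (y * e * y⁻¹) * (y * f * y⁻¹) := by group
        rw [h4]
        have ez : e * z = z * e := L.Eab he L.zE
        rcases h2 with h2 | h2 <;> rcases h3 with h3 | h3 <;> rw [h2, h3]
        · exact Or.inl rfl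
        · exact Or.inr (by rw [← mul_assoc, ez, mul_assoc])
        · exact Or.inr (by rw [mul_assoc])
        · left
          calc z * e * (z * f) = z * (e * z) * f := by group
            _ = z * z * (e * f) := by rw [ez]; group
            _ = e * f := by rw [L.zz, one_mul]
      inv_mem' := by
        rintro e ⟨he, h2⟩
        rw [L.Einv he]
        exact ⟨he, h2⟩ }
  have hX : X = E := by
    have hXE : X ≤ E := fun e he => he.1
    have hzX : z ∈ X := ⟨L.zE, Or.inl zy⟩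
    have hinv : ∀ q ∈ X, a * q * a⁻¹ ∈ X := by
      rintro e ⟨he, h2⟩
      refine ⟨aE e he, ?_⟩
      have h3 : y * (a * e * a⁻¹) * y⁻¹ = a * (y * e * y⁻¹) * a⁻¹ := by
        calc y * (a * e * a⁻¹) * y⁻¹ = (y * a) * e * (y * a)⁻¹ := by group
          _ = (a * y) * e * (a * y)⁻¹ := by rw [ya]
          _ = _ := by group
      rw [h3]
      rcases h2 with h2 | h2
      · exact Or.inl (by rw [h2])
      · right
        rw [h2]
        calc a * (z * e) * a⁻¹ = (a * z) * e * a⁻¹ := by group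
          _ = z * (a * e * a⁻¹) := by rw [L.Pz a ha]; group
    rcases hirr X hXE hzX hinv with h2 | h2
    · exfalso
      obtain ⟨e, he, hez, hye⟩ := h1
      apply hez
      apply h2 e
      refine ⟨he, ?_⟩
      rcases hye with h3 | h3
      · exact Or.inl (mul_inv_eq_one.1 h3)
      · exact Or.inr (mul_inv_eq_iff_eq_mul.1 h3)
    · exact h2
  intro e he
  -- the norm over `⟨a⟩`
  set N := e * (a * e * a⁻¹) * (a ^ 2 * e * (a ^ 2)⁻¹) * (a ^ 3 * e * (a ^ 3)⁻¹) * (a ^ 4 * e * (a ^ 4)⁻¹) with hN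
  have hpow : ∀ i : ℕ, a ^ i * e * (a ^ i)⁻¹ ∈ E := fun i =>
    L.cen_E (L.PK (pow_mem ha i)) (L.Pz _ (pow_mem ha i)) e he
  have e0E : e ∈ E := he
  have e1E : a * e * a⁻¹ ∈ E := by simpa using hpow 1
  have hNE : N ∈ E := mul_mem (mul_mem (mul_mem (mul_mem he e1E) (hpow 2)) (hpow 3)) (hpow 4)
  have hNa : a * N = N * a := by
    have h3 : a * N * a⁻¹ = N := by
      have h4 : a * N * a⁻¹ = (a * e * a⁻¹) * (a ^ 2 * e * (a ^ 2)⁻¹) * (a ^ 3 * e * (a ^ 3)⁻¹) *
          (a ^ 4 * e * (a ^ 4)⁻¹) * (a ^ 5 * e * (a ^ 5)⁻¹) := by rw [hN]; group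
      rw [h4, a5, inv_one, one_mul, mul_one, hN]
      rw [L.Eab (mul_mem (mul_mem (mul_mem e1E (hpow 2)) (hpow 3)) (hpow 4)) he]
      group
    calc a * N = a * N * a⁻¹ * a := by group
      _ = N * a := by rw [h3]
  have hNz : N = 1 ∨ N = z := by
    let Y : Subgroup G := E ⊓ centralizer {a}
    have hinv : ∀ q ∈ Y, a * q * a⁻¹ ∈ Y := by
      rintro w ⟨hw, hwa⟩
      have h8 := mem_centralizer_singleton_iff.1 hwa
      have h9 : a * w * a⁻¹ = w := by rw [← h8]; group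
      rw [h9]
      exact ⟨hw, hwa⟩
    rcases hirr Y inf_le_left ⟨L.zE, mem_centralizer_singleton_iff.2 (L.Pz a ha).symm⟩ hinv with h2 | h2
    · exact h2 N ⟨hNE, mem_centralizer_singleton_iff.2 hNa.symm⟩
    · exfalso
      have h7 : a ∈ B := (L.cenE a (L.PK ha)).2 fun e he => by
        have h8 : e ∈ Y := by rw [h2]; exact he
        exact (mem_centralizer_singleton_iff.1 h8.2).symm
      obtain ⟨n, hn⟩ := L.R2 ⟨a, L.BR h7⟩
      have h8 : a ^ (2 ^ n) = 1 := by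
        have := congrArg Subtype.val hn
        simpa using this
      have h9 : orderOf a ∣ 2 ^ n := orderOf_dvd_of_pow_eq_one h8
      have hp5 : Fact (Nat.Prime 5) := ⟨by norm_num⟩
      have h10 : orderOf a = 5 := orderOf_eq_prime_iff.2 ⟨a5, a1⟩
      rw [h10] at h9
      have h11 := (Nat.Prime.dvd_of_dvd_pow (by norm_num) h9)
      norm_num at h11
  have hNy : y * N * y⁻¹ = N := by
    rcases hNz with h2 | h2 <;> rw [h2]
    · group
    · exact zy
  have heX : e ∈ X := by rw [hX]; exact he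
  rcases heX.2 with h2 | h2
  · calc y * e = y * e * y⁻¹ * y := by group
      _ = e * y := by rw [h2]
  · exfalso
    have hi : ∀ i : ℕ, y * (a ^ i * e * (a ^ i)⁻¹) * y⁻¹ = z * (a ^ i * e * (a ^ i)⁻¹) := by
      intro i
      have h3 : y * a ^ i = a ^ i * y := ((show Commute y a from ya).pow_right i).eq
      have h4 : a ^ i * z = z * a ^ i := L.Pz _ (pow_mem ha i)
      calc y * (a ^ i * e * (a ^ i)⁻¹) * y⁻¹ = (y * a ^ i) * e * (y * a ^ i)⁻¹ := by group
        _ = a ^ i * (y * e * y⁻¹) * (a ^ i)⁻¹ := by rw [h3]; group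
        _ = (a ^ i * z) * e * (a ^ i)⁻¹ := by rw [h2]; group
        _ = _ := by rw [h4]; group
    have h3 : y * N * y⁻¹ = z * N := by
      have e1 : y * N * y⁻¹ = (y * e * y⁻¹) * (y * (a * e * a⁻¹) * y⁻¹) * (y * (a ^ 2 * e * (a ^ 2)⁻¹) * y⁻¹) *
          (y * (a ^ 3 * e * (a ^ 3)⁻¹) * y⁻¹) * (y * (a ^ 4 * e * (a ^ 4)⁻¹) * y⁻¹) := by rw [hN]; group
      have h1' := hi 1
      rw [pow_one] at h1'
      have zc : ∀ w ∈ E, w * z = z * w := fun w hw => L.Eab hw L.zE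
      have z1 := zc _ he
      have z2 := zc _ e1E
      have z3 := zc _ (hpow 2)
      have z4 := zc _ (hpow 3)
      rw [e1, h2, h1', hi 2, hi 3, hi 4, hN]
      set p := a * e * a⁻¹
      set q := a ^ 2 * e * (a ^ 2)⁻¹
      set r := a ^ 3 * e * (a ^ 3)⁻¹
      set s := a ^ 4 * e * (a ^ 4)⁻¹
      calc z * e * (z * p) * (z * q) * (z * r) * (z * s)
          = z * (e * z) * p * (z * q) * (z * r) * (z * s) := by group
        _ = z * z * e * (p * z) * q * (z * r) * (z * s) := by rw [z1]; group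
        _ = z * z * (e * z) * p * q * (z * r) * (z * s) := by rw [z2]; group
        _ = z * z * z * e * p * (q * z) * r * (z * s) := by rw [z1]; group
        _ = z * z * z * e * (p * z) * q * r * (z * s) := by rw [z3]; group
        _ = z * z * z * (e * z) * p * q * r * (z * s) := by rw [z2]; group
        _ = z * z * z * z * e * p * q * (r * z) * s := by rw [z1]; group
        _ = z * z * z * z * e * p * (q * z) * r * s := by rw [z4]; group
        _ = z * z * z * z * e * (p * z) * q * r * s := by rw [z3]; group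
        _ = z * z * z * z * (e * z) * p * q * r * s := by rw [z2]; group
        _ = (z * z) * (z * z) * z * (e * p * q * r * s) := by rw [z1]; group
        _ = z * (e * p * q * r * s) := by rw [L.zz]; group
    rw [hNy] at h3
    apply L.z1
    have h4 : 1 * N = z * N := by rw [one_mul]; exact h3
    exact (mul_right_cancel h4).symm

/-- **step (0)** -/
theorem exists_cent [Finite G] (H : Pos t K) (L : Loc K z P₀ R B E) {y₀ : G} (h0 : YY t z y₀) :
    ∃ y, YY t z y ∧ ∀ e ∈ E, y * e = e * y := by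
  obtain ⟨a, ha, a5, a1, ⟨n, hnK, hnz, hna⟩, hirr⟩ := L.five
  have tP : ∀ p ∈ P₀, p * t = t * p := fun p hp => H.comm p (L.PK hp)
  -- Frattini
  have hb : y₀ * a * y₀⁻¹ ∈ P₀ := h0.norP H L a ha
  have hb5 : (y₀ * a * y₀⁻¹) ^ 5 = 1 := by rw [conj_pow, a5]; group
  have hb1 : y₀ * a * y₀⁻¹ ≠ 1 := by
    intro e
    apply a1
    calc a = y₀⁻¹ * (y₀ * a * y₀⁻¹) * y₀ := by group
      _ = 1 := by rw [e]; group
  obtain ⟨p, hp, hpa⟩ := exists_conj_five L.card ha hb a5 hb5 a1 hb1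
  obtain ⟨i, hi⟩ := mem_zpowers_iff.1 hpa
  have h1 : YY t z (p * y₀) := h0.mul_left (tP p hp) (L.Pz p hp)
  have hi' : p * y₀ * a * (p * y₀)⁻¹ = a ^ i := by rw [hi]; group
  -- a natural exponent
  have ho : orderOf a = 5 := by
    have hp5 : Fact (Nat.Prime 5) := ⟨by norm_num⟩
    exact orderOf_eq_prime_iff.2 ⟨a5, a1⟩
  obtain ⟨k, hk5, hk⟩ : ∃ k : ℕ, k < 5 ∧ a ^ i = a ^ k := by
    refine ⟨(i % 5).toNat, ?_, ?_⟩
    · have := Int.emod_lt_of_pos i (show (0 : ℤ) < 5 by norm_num)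
      have := Int.emod_nonneg i (show (5 : ℤ) ≠ 0 by norm_num)
      omega
    · rw [← zpow_natCast, Int.toNat_of_nonneg (Int.emod_nonneg i (by norm_num)), ← zpow_mod_orderOf a i, ho]
      rfl
  have hk0 : k ≠ 0 := by
    rintro rfl
    rw [pow_zero] at hk
    rw [hk] at hi'
    apply a1
    calc a = (p * y₀)⁻¹ * (p * y₀ * a * (p * y₀)⁻¹) * (p * y₀) := by group
      _ = 1 := by rw [hi']; group
  -- powers of `n`
  have hnj : ∀ j : ℕ, n ^ j * a * (n ^ j)⁻¹ = a ^ (2 ^ j) := by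
    intro j
    induction j with
    | zero => simp
    | succ j ih =>
      calc n ^ (j + 1) * a * (n ^ (j + 1))⁻¹ = n * (n ^ j * a * (n ^ j)⁻¹) * n⁻¹ := by
            rw [pow_succ']; group
        _ = (n * a * n⁻¹) ^ (2 ^ j) := by rw [ih, conj_pow]
        _ = a ^ (2 ^ (j + 1)) := by rw [hna, ← pow_mul, pow_succ' 2 j]
  have hnK' : ∀ j : ℕ, n ^ j ∈ K := fun j => pow_mem hnK j
  have hnz' : ∀ j : ℕ, n ^ j * z = z * n ^ j := fun j => ((show Commute n z from hnz).pow_left j).eq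
  obtain ⟨j, hj⟩ : ∃ j : ℕ, (2 ^ j * k) % 5 = 1 := by
    have h2 : k = 1 ∨ k = 2 ∨ k = 3 ∨ k = 4 := by omega
    rcases h2 with rfl | rfl | rfl | rfl
    · exact ⟨0, by norm_num⟩
    · exact ⟨3, by norm_num⟩
    · exact ⟨1, by norm_num⟩
    · exact ⟨2, by norm_num⟩
  have h2 : YY t z (n ^ j * (p * y₀)) := h1.mul_left (H.comm _ (hnK' j)) (hnz' j)
  have hya : n ^ j * (p * y₀) * a * (n ^ j * (p * y₀))⁻¹ = a := by
    calc n ^ j * (p * y₀) * a * (n ^ j * (p * y₀))⁻¹ = n ^ j * (p * y₀ * a * (p * y₀)⁻¹) * (n ^ j)⁻¹ := by group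
      _ = (n ^ j * a * (n ^ j)⁻¹) ^ k := by rw [hi', hk, conj_pow]
      _ = a ^ (2 ^ j * k) := by rw [hnj, ← pow_mul]
      _ = a := by
          rw [← pow_mod_orderOf, ho, hj, pow_one]
  set y₁ := n ^ j * (p * y₀) with hy₁
  have hya' : y₁ * a = a * y₁ := by
    calc y₁ * a = y₁ * a * y₁⁻¹ * y₁ := by group
      _ = a * y₁ := by rw [hya]
  -- the 2-part
  obtain ⟨s, m, hm, hsm⟩ := Nat.exists_eq_two_pow_mul_odd (orderOf_pos y₁).ne'
  obtain ⟨c, rfl⟩ := hm
  have h3 : YY t z (y₁ ^ (2 * c + 1)) := h2.pow L.zz c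
  have h4 : IsPGroup 2 (zpowers (y₁ ^ (2 * c + 1))) := by
    have h5 : (y₁ ^ (2 * c + 1)) ^ (2 ^ s) = 1 := by
      rw [← pow_mul, mul_comm, ← hsm]
      exact pow_orderOf_eq_one y₁
    have hp2 : Fact (Nat.Prime 2) := ⟨Nat.prime_two⟩
    rw [IsPGroup.iff_card, Nat.card_zpowers]
    obtain ⟨r, -, hr⟩ := (Nat.dvd_prime_pow Nat.prime_two).1 (orderOf_dvd_of_pow_eq_one h5)
    exact ⟨r, hr⟩
  have h6 : y₁ ^ (2 * c + 1) * a = a * y₁ ^ (2 * c + 1) :=
    ((show Commute y₁ a from hya').pow_left _).eq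
  refine ⟨_, h3, L.cent_of_five ha a5 a1 hirr h4 h3.yz h6 (h3.norE H L) ?_⟩
  intro e he
  have := (h3.inv L.zz).norE H L e he
  rwa [inv_inv] at this

end Cfsg.Agent.OddHalf.D8.RuFam
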