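import Cfsg.Agent.OddHalf.D9.Ru.XChk
import Cfsg.Agent.Lib.BitNetSimple

/-!
# Centralisers in the model `RuOrder.H` of `Ru` by a kernel certificate (helper464)

`cent`: let `X` be a list of words, `p` a point, `s` a word in `X` (a list of indices) fixing `p`; `L` contains the
fixed points of `s`; every point of `L` is the image of `p` under one of the words `cs` (which commute with `X`), or has
another relation to its image under some word of `ws` than `p`; the points `u p`, `u ∈ us`, isolate the four base
points.  Then every element commuting with `X` is one of the words `cs`.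
-/

set_option autoImplicit false
set_option maxRecDepth 100000
set_option exponentiation.threshold 5000

namespace Cfsg.Agent.OddHalf.D8.RuFam.CentCert

open Cfsg.Agent.Lib.BitNet Cfsg.Agent.Lib.BitNetSimple Cfsg.Agent.SporadicB Cfsg.Agent.SporadicB.RuData
open Cfsg.Agent.RuD.Letters Cfsg.Agent.RuD.Data Cfsg.Agent.SporRec.TCUpperCert Cfsg.Agent.SporRec.R3.Kernel
open Cfsg.Agent.OddHalf.D9.Ru.XChk (eqv eqv_sound)

/-! ### kernel functions -/

/-- `n`-th word -/
noncomputable def nthW (l : List (List ℕ)) : ℕ → List ℕ :=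
  List.rec (motive := fun _ => ℕ → List ℕ) (fun _ => [])
    (fun x _ ih a => Nat.rec (motive := fun _ => List ℕ) x (fun b _ => ih b) a) l

/-- evaluate a word in the words `X` -/
noncomputable def evX (X : List (List ℕ)) (u : List ℕ) (i : ℕ) : ℕ :=
  List.rec (motive := fun _ => ℕ) i (fun j _ ih => forceN ih (evalK (nthW X j))) u

/-- image of a mask -/
noncomputable def mask (w : List ℕ) (x : ℕ) : ℕ :=
  List.rec (motive := fun _ => ℕ) x (fun a _ ih => forceN ih (appMF (nthL NL a))) w

/-- image of a mask under a word in the words `X` -/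
noncomputable def maskX (X : List (List ℕ)) (u : List ℕ) (x : ℕ) : ℕ :=
  List.rec (motive := fun _ => ℕ) x (fun j _ ih => forceN ih (mask (nthW X j))) u

/-- points moved, as seen by the masks -/
noncomputable def diff (X : List (List ℕ)) (u : List ℕ) (Ps : List ℕ) : ℕ :=
  List.rec (motive := fun _ => ℕ) 0 (fun P _ ih => forceN P fun P => Nat.lor (Nat.xor (maskX X u P) P) ih) Ps

/-- numbers below 4096 with bit `k` (only used through its values) -/
noncomputable def plane (k : ℕ) : ℕ :=
  Nat.mul (Nat.pow 2 (Nat.pow 2 k)) (Nat.div (Nat.sub (Nat.pow 2 4096) 1) (Nat.add (Nat.pow 2 (Nat.pow 2 k)) 1))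

/-- the mask of a list -/
noncomputable def maskOf (L : List ℕ) : ℕ :=
  List.rec (motive := fun _ => ℕ) 0 (fun q _ ih => Nat.lor (Nat.pow 2 q) ih) L

/-- all points -/
def full : ℕ := 2 ^ 4060 - 1

/-- `L` contains the fixed points of `u` -/
noncomputable def chkFix (X : List (List ℕ)) (u L : List ℕ) : Bool :=
  Nat.beq (Nat.land (Nat.lor (diff X u [plane 0, plane 1, plane 2, plane 3, plane 4, plane 5, plane 6, plane 7,
    plane 8, plane 9, plane 10, plane 11]) (maskOf L)) full) full

/-- some element satisfies `p` -/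
noncomputable def anyL {β : Type} (p : β → Bool) (l : List β) : Bool :=
  List.rec (motive := fun _ => Bool) false (fun a _ ih => cond (p a) true ih) l

theorem anyL_iff {β : Type} (p : β → Bool) (l : List β) : anyL p l = true ↔ ∃ a ∈ l, p a = true := by
  induction l with
  | nil => simp [anyL]
  | cons a l ih =>
    have e : anyL p (a :: l) = cond (p a) true (anyL p l) := rfl
    rw [e]
    cases h : p a with
    | true => exact ⟨fun _ => ⟨a, List.mem_cons_self, h⟩, fun _ => rfl⟩
    | false =>
      rw [cond_false, ih]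
      constructor
      · rintro ⟨b, hb, hb'⟩
        exact ⟨b, List.mem_cons_of_mem _ hb, hb'⟩
      · rintro ⟨b, hb, hb'⟩
        rcases List.mem_cons.1 hb with rfl | hb
        · rw [h] at hb'; exact absurd hb' (by simp)
        · exact ⟨b, hb, hb'⟩

/-- adjacency -/
noncomputable def adj (u v : ℕ) : Bool := tb (row u) v

/-- different -/
noncomputable def nq (a b : Bool) : Bool := cond a (cond b false true) b

theorem nq_iff {a b : Bool} : nq a b = true ↔ a ≠ b := by cases a <;> cases b <;> simp [nq]

/-- the point `q` is listed or refuted -/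
noncomputable def okQ (X cs : List (List ℕ)) (p : ℕ) (ws : List (List ℕ)) (q : ℕ) : Bool :=
  cond (anyL (fun w => Nat.beq (evalK w p) q) cs) true
    (anyL (fun w => nq (adj q (evX X w q)) (adj p (evX X w p))) ws)

/-- the points with the same relations as `b` to the points `u p` -/
noncomputable def cut (X : List (List ℕ)) (p b : ℕ) (us : List (List ℕ)) (m : ℕ) : ℕ :=
  List.rec (motive := fun _ => ℕ) m (fun u _ ih => forceN (evX X u p) fun o => forceN (row o) fun r =>
    Nat.land ih (cond (tb r b) r (Nat.xor full r))) us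

/-- the certificate -/
noncomputable def chkC (X cs : List (List ℕ)) (p : ℕ) (s L : List ℕ) (ws us : List (List ℕ)) : Bool :=
  cond (Nat.beq (evX X s p) p) (cond (chkFix X s L) (cond (allL (okQ X cs p ws) L)
    (cond (allL (fun b => Nat.beq (cut X p b us full) (Nat.pow 2 b)) [0, 29, 580, 577])
      (allL (fun w => allL (fun x => eqv (w ++ x) (x ++ w)) X) cs) false) false) false) false

/-! ### semantics -/

theorem nthW_eq (l : List (List ℕ)) (a : ℕ) : nthW l a = l.getD a [] := by
  induction l generalizing a with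
  | nil => rfl
  | cons x l ih =>
    cases a with
    | zero => rfl
    | succ a => exact ih a

/-- the value of a word in the words `X` -/
noncomputable def gX (X : List (List ℕ)) (u : List ℕ) : RuOrder.H := (u.map fun j => wprod ml (X.getD j [])).prod

theorem gX_cons (X : List (List ℕ)) (j : ℕ) (u : List ℕ) : gX X (j :: u) = wprod ml (X.getD j []) * gX X u := by
  rw [gX, List.map_cons, List.prod_cons]; rfl

theorem evX_eq (X : List (List ℕ)) (u : List ℕ) (i : Fin 4060) :
    (((gX X u : RuOrder.H) : Equiv.Perm (Fin 4060)) i : ℕ) = evX X u i := by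
  induction u with
  | nil => rfl
  | cons j u ih =>
    have e : evX X (j :: u) i = forceN (evX X u i) (evalK (nthW X j)) := rfl
    rw [e, forceN_eq, nthW_eq, ← ih, ← evalK_eq, gX_cons]
    rfl

theorem valid_NL (a : ℕ) : Valid (NL.getD a []) := by
  have rev : ∀ {l : List (ℕ × ℕ)}, Valid l → Valid l.reverse := fun h p hp => h p (List.mem_reverse.1 hp)
  rcases lt_or_ge a 9 with h | h
  · interval_cases a
    · exact (okNet_sound okT).valid
    · exact (okNet_sound okS).valid
    · exact (okNet_sound okW).valid
    · exact (okNet_sound okF).valid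
    · exact (okNet_sound okD).valid
    · exact (okNet_sound okY).valid
    · exact rev (okNet_sound okS).valid
    · exact rev (okNet_sound okF).valid
    · exact rev (okNet_sound okD).valid
  · rw [List.getD_eq_default _ _ (by exact h)]
    intro p hp
    exact absurd hp (by simp)

theorem mask_eq (w : List ℕ) (x i : ℕ) : (mask w x).testBit (evalK w i) = x.testBit i := by
  induction w with
  | nil => rfl
  | cons a w ih =>
    have e1 : mask (a :: w) x = forceN (mask w x) (appMF (nthL NL a)) := rfl
    have e2 : evalK (a :: w) i = forceN (evalK w i) (appK (nthL NL a)) := rfl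
    rw [e1, e2, forceN_eq, forceN_eq, appMF_eq, appK_eq, nthL_eq, testBit_appM (valid_NL a), ih]

theorem maskX_eq (X : List (List ℕ)) (u : List ℕ) (x i : ℕ) : (maskX X u x).testBit (evX X u i) = x.testBit i := by
  induction u with
  | nil => rfl
  | cons j u ih =>
    have e1 : maskX X (j :: u) x = forceN (maskX X u x) (mask (nthW X j)) := rfl
    have e2 : evX X (j :: u) i = forceN (evX X u i) (evalK (nthW X j)) := rfl
    rw [e1, e2, forceN_eq, forceN_eq, mask_eq, ih]

theorem diff_eq (X : List (List ℕ)) (u : List ℕ) {i : ℕ} (hi : evX X u i = i) (Ps : List ℕ) :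
    (diff X u Ps).testBit i = false := by
  induction Ps with
  | nil => exact Nat.zero_testBit i
  | cons P Ps ih =>
    have e : diff X u (P :: Ps) = forceN P fun P => Nat.lor (Nat.xor (maskX X u P) P) (diff X u Ps) := rfl
    have e2 : diff X u (P :: Ps) = ((maskX X u P) ^^^ P) ||| diff X u Ps := by rw [e, forceN_eq]; rfl
    have h := maskX_eq X u P i
    rw [hi] at h
    rw [e2, Nat.testBit_or, Nat.testBit_xor, h, Bool.xor_self, ih]
    rfl

theorem maskOf_mem {L : List ℕ} {i : ℕ} (h : (maskOf L).testBit i = true) : i ∈ L := by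
  induction L with
  | nil =>
    have : (0 : ℕ).testBit i = true := h
    simp at this
  | cons q L ih =>
    have e : maskOf (q :: L) = (2 ^ q) ||| maskOf L := rfl
    rw [e, Nat.testBit_or, Bool.or_eq_true] at h
    rcases h with h | h
    · rw [Nat.testBit_two_pow] at h
      have : q = i := by simpa using h
      rw [this]; exact List.mem_cons_self
    · exact List.mem_cons_of_mem _ (ih h)

theorem full_bit {i : ℕ} (hi : i < 4060) : full.testBit i = true := by
  rw [full, Nat.testBit_two_pow_sub_one]
  simpa using hi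

theorem mem_fix {X : List (List ℕ)} {u L : List ℕ} (h : chkFix X u L = true) {i : ℕ} (h4 : i < 4060)
    (hi : evX X u i = i) : i ∈ L := by
  have h1 := congrArg (fun m => Nat.testBit m i) (Nat.eq_of_beq_eq_true h)
  have h2 : ((diff X u [plane 0, plane 1, plane 2, plane 3, plane 4, plane 5, plane 6, plane 7,
    plane 8, plane 9, plane 10, plane 11] ||| maskOf L) &&& full).testBit i = full.testBit i := h1
  rw [Nat.testBit_and, full_bit h4, Nat.testBit_or, diff_eq X u hi, Bool.false_or, Bool.and_true] at h2
  exact maskOf_mem h2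

theorem cond_of {b c : Bool} (h : cond b c false = true) : b = true ∧ c = true := by
  cases b
  · exact absurd h (by simp)
  · exact ⟨rfl, h⟩

/-- the relation is preserved -/
theorem adj_map (c : RuOrder.H) (u v : Fin 4060) :
    adj ((c : Equiv.Perm (Fin 4060)) u) ((c : Equiv.Perm (Fin 4060)) v) = adj u v := by
  unfold adj
  rw [tb_eq, tb_eq]
  exact c.2 u v

theorem comm_gX {X : List (List ℕ)} {c : RuOrder.H} (hc : ∀ x ∈ X, c * wprod ml x = wprod ml x * c) (u : List ℕ) :
    c * gX X u = gX X u * c := by
  induction u with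
  | nil =>
    show c * 1 = 1 * c
    rw [mul_one, one_mul]
  | cons j u ih =>
    have h1 : c * wprod ml (X.getD j []) = wprod ml (X.getD j []) * c := by
      rcases lt_or_ge j X.length with h | h
      · rw [List.getD_eq_getElem _ _ h]
        exact hc _ (List.getElem_mem _)
      · rw [List.getD_eq_default _ _ h]
        show c * 1 = 1 * c
        rw [mul_one, one_mul]
    rw [gX_cons, ← mul_assoc, h1, mul_assoc, ih, mul_assoc]

/-- images of the points `u p` -/
theorem map_evX {X : List (List ℕ)} {c : RuOrder.H} (hc : ∀ x ∈ X, c * wprod ml x = wprod ml x * c) (u : List ℕ)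
    (p : Fin 4060) : ((c : Equiv.Perm (Fin 4060)) (((gX X u : RuOrder.H) : Equiv.Perm (Fin 4060)) p) : ℕ) =
      evX X u ((c : Equiv.Perm (Fin 4060)) p) := by
  rw [← evX_eq]
  have h := congrArg (fun g : RuOrder.H => (g : Equiv.Perm (Fin 4060)) p) (comm_gX hc u)
  exact congrArg Fin.val h

theorem cut_bit {X : List (List ℕ)} {d : RuOrder.H} (p b : Fin 4060)
    (us : List (List ℕ)) (hd : ∀ u ∈ us, (d : Equiv.Perm (Fin 4060)) (((gX X u : RuOrder.H) : Equiv.Perm (Fin 4060)) p) =
      ((gX X u : RuOrder.H) : Equiv.Perm (Fin 4060)) p) {m : ℕ}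
    (hm : m.testBit ((d : Equiv.Perm (Fin 4060)) b) = true) :
    (cut X p b us m).testBit ((d : Equiv.Perm (Fin 4060)) b) = true := by
  induction us with
  | nil => exact hm
  | cons u us ih =>
    have e : cut X p b (u :: us) m = forceN (evX X u p) fun o => forceN (row o) fun r =>
      Nat.land (cut X p b us m) (cond (tb r b) r (Nat.xor full r)) := rfl
    have e2 : cut X p b (u :: us) m = (cut X p b us m) &&& (cond (tb (row (evX X u p)) b) (row (evX X u p))
        (full ^^^ (row (evX X u p)))) := by rw [e, forceN_eq, forceN_eq]; rfl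
    rw [e2, Nat.testBit_and, ih (fun u hu => hd u (List.mem_cons_of_mem _ hu)), Bool.true_and]
    set o : Fin 4060 := ((gX X u : RuOrder.H) : Equiv.Perm (Fin 4060)) p with ho
    have h1 : evX X u p = (o : ℕ) := (evX_eq X u p).symm
    have h2 : (d : Equiv.Perm (Fin 4060)) o = o := hd u List.mem_cons_self
    have h3 := d.2 o b
    have h4 : (row o).testBit ((d : Equiv.Perm (Fin 4060)) b) = (row o).testBit b := by
      have h5 : (row ((d : Equiv.Perm (Fin 4060)) o : Fin 4060)).testBit ((d : Equiv.Perm (Fin 4060)) b) =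
        (row o).testBit b := h3
      rwa [h2] at h5
    rw [h1, tb_eq]
    cases h6 : (row (o : ℕ)).testBit b with
    | true => rw [cond_true, h4, h6]
    | false =>
      rw [cond_false, Nat.testBit_xor, h4, h6, full_bit ((d : Equiv.Perm (Fin 4060)) b).2]
      rfl

/-- **Centralisers by a certificate.** -/
theorem cent {X cs : List (List ℕ)} {p : Fin 4060} {s L : List ℕ} {ws us : List (List ℕ)}
    (h : chkC X cs p s L ws us = true) (c : RuOrder.H) (hc : ∀ x ∈ X, c * wprod ml x = wprod ml x * c) :
    ∃ w ∈ cs, c = wprod ml w := by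
  obtain ⟨h1, h⟩ := cond_of h
  obtain ⟨h2, h⟩ := cond_of h
  obtain ⟨h3, h⟩ := cond_of h
  obtain ⟨h4, h5⟩ := cond_of h
  set q : Fin 4060 := (c : Equiv.Perm (Fin 4060)) p with hq
  have hsp := Nat.eq_of_beq_eq_true h1
  -- `q` is fixed by `s`
  have hqs : evX X s q = q := by
    rw [← map_evX hc s p]
    have e : ((gX X s : RuOrder.H) : Equiv.Perm (Fin 4060)) p = p := Fin.ext (by rw [evX_eq, hsp])
    rw [e]
  have hqL := mem_fix h2 q.2 hqs
  have h6 := (allL_iff _ _).1 h3 _ hqL
  unfold okQ at h6
  cases h7 : anyL (fun w => Nat.beq (evalK w p) q) cs with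
  | false =>
    exfalso
    rw [h7, cond_false, anyL_iff] at h6
    obtain ⟨w, -, hw⟩ := h6
    rw [nq_iff] at hw
    apply hw
    rw [← map_evX hc w p, hq, adj_map, evX_eq]
  | true =>
    rw [anyL_iff] at h7
    obtain ⟨w, hw, hwq⟩ := h7
    refine ⟨w, hw, ?_⟩
    have hwp : ((wprod ml w : RuOrder.H) : Equiv.Perm (Fin 4060)) p = q :=
      Fin.ext (by rw [evalK_eq]; exact Nat.eq_of_beq_eq_true hwq)
    have hwX : ∀ x ∈ X, wprod ml w * wprod ml x = wprod ml x * wprod ml w := by
      intro x hx
      have h8 := eqv_sound ((allL_iff _ _).1 ((allL_iff _ _).1 h5 w hw) x hx)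
      rwa [wprod_append, wprod_append] at h8
    set d : RuOrder.H := (wprod ml w)⁻¹ * c with hd
    have hdX : ∀ x ∈ X, d * wprod ml x = wprod ml x * d := by
      intro x hx
      rw [hd, mul_assoc, hc x hx, ← mul_assoc, ← mul_assoc]
      congr 1
      rw [inv_mul_eq_iff_eq_mul, ← mul_assoc, hwX x hx, mul_inv_cancel_right]
    have hdp : (d : Equiv.Perm (Fin 4060)) p = p := by
      show ((wprod ml w : RuOrder.H) : Equiv.Perm (Fin 4060))⁻¹ ((c : Equiv.Perm (Fin 4060)) p) = p
      rw [← hq, ← hwp]
      exact Equiv.symm_apply_apply _ _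
    have hdu : ∀ u ∈ us, (d : Equiv.Perm (Fin 4060)) (((gX X u : RuOrder.H) : Equiv.Perm (Fin 4060)) p) =
        ((gX X u : RuOrder.H) : Equiv.Perm (Fin 4060)) p := by
      intro u _
      apply Fin.ext
      rw [map_evX hdX u p, hdp, evX_eq]
    have hb : ∀ b : Fin 4060, (b : ℕ) ∈ [0, 29, 580, 577] → (d : Equiv.Perm (Fin 4060)) b = b := by
      intro b hb
      have h8 := Nat.eq_of_beq_eq_true ((allL_iff _ _).1 h4 _ hb)
      have h9 := cut_bit (X := X) p b us hdu (m := full) (full_bit ((d : Equiv.Perm (Fin 4060)) b).2)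
      rw [h8] at h9
      have h10 : (2 ^ (b : ℕ)).testBit ((d : Equiv.Perm (Fin 4060)) b) = true := h9
      rw [Nat.testBit_two_pow] at h10
      exact Fin.ext (by simpa using h10 : (b : ℕ) = (d : Equiv.Perm (Fin 4060)) b).symm
    have h11 : d = 1 := eq_one_of_base (hb _ (by decide)) (hb _ (by decide)) (hb _ (by decide)) (hb _ (by decide))
    rw [hd, inv_mul_eq_one] at h11
    exact h11.symm

end Cfsg.Agent.OddHalf.D8.RuFam.CentCert
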