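import Cfsg.Agent.OddHalf.D8.RuFam.Facts
import Cfsg.Agent.OddHalf.D9.Ru.XR
import Cfsg.Agent.OddHalf.D9.Ru.XCover

/-!
# ODD half, D8, K = Ru: packet P, second half (helper232)

The fields `hom4`, `dual`, `five` of `RuFam.Loc` on `RuOrder.H` (`K = ⊤`), for every subgroup `B` containing `E`,
`G [0,1,3]`, `G [1,4,5]` (the last two commute with `E`).
-/

set_option autoImplicit false
set_option maxRecDepth 100000
set_option exponentiation.threshold 5000

namespace Cfsg.Agent.OddHalf.D8.RuFam.LocB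

open Subgroup Cfsg.Agent.SporadicB Cfsg.Agent.RuD.Letters Cfsg.Agent.SporRec.TCUpperCert
open Cfsg.Agent.SporRec.R3.Kernel
open Cfsg.Agent.OddHalf.D9.Ru.XDef Cfsg.Agent.OddHalf.D9.Ru.XData Cfsg.Agent.OddHalf.D9.Ru.XChk
open Cfsg.Agent.OddHalf.D9.Ru.XR

/-! ### inequalities -/

theorem ne_of_eqv {u v : List ℕ} (h : eqv u v = false) : wprod ml u ≠ wprod ml v := by
  intro he
  have key : ∀ b : Fin 4060, Nat.beq (evalK u b) (evalK v b) = true := by
    intro b
    rw [← evalK_eq, ← evalK_eq, he]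
    exact Nat.beq_refl _
  have h2 : eqv u v = true := by
    refine (allL_iff _ _).2 ?_
    intro b hb
    simp only [List.mem_cons, List.not_mem_nil, or_false] at hb
    rcases hb with rfl | rfl | rfl | rfl
    · exact key ⟨0, by norm_num⟩
    · exact key ⟨29, by norm_num⟩
    · exact key ⟨580, by norm_num⟩
    · exact key ⟨577, by norm_num⟩
  rw [h2] at h
  exact absurd h (by decide)

theorem ne_of_eqw {u v : List ℕ} (h : eqw u v = false) : V u ≠ V v := ne_of_eqv h

theorem V_G (l : List ℕ) : G l = V (gg l) := rfl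

theorem zG : S * S = G [7, 9, 10] := z_eq.symm

/-! ### the normal closure of `r₁` -/

theorem conj_G0 (Q : Subgroup RuOrder.H) (hQ : ∀ p ∈ P1, ∀ q ∈ Q, p * q * p⁻¹ ∈ Q) {g i j : ℕ} (hg : g < 4)
    (hi : i < 11) (h : ctE g i = [j]) (hq : G [i] ∈ Q) : G [j] ∈ Q := by
  have h1 := hQ _ (V_mem [g]) _ hq
  rw [conj_eq hg hi, h] at h1
  exact h1

theorem R_le_of (Q : Subgroup RuOrder.H) (hE : E ≤ Q) (h0 : G [0] ∈ Q)
    (hQ : ∀ p ∈ P1, ∀ q ∈ Q, p * q * p⁻¹ ∈ Q) : R ≤ Q := by
  have h1 : G [1] ∈ Q := conj_G0 Q hQ (g := 2) (i := 0) (by norm_num) (by norm_num) rfl h0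
  have h2 : G [2] ∈ Q := conj_G0 Q hQ (g := 3) (i := 0) (by norm_num) (by norm_num) rfl h0
  have h3 : G [3] ∈ Q := conj_G0 Q hQ (g := 2) (i := 1) (by norm_num) (by norm_num) rfl h1
  have h4 : G [4] ∈ Q := conj_G0 Q hQ (g := 3) (i := 1) (by norm_num) (by norm_num) rfl h1
  have h5 : G [5] ∈ Q := conj_G0 Q hQ (g := 0) (i := 4) (by norm_num) (by norm_num) rfl h4
  rw [R, closure_le]
  rintro x ⟨i, hi, rfl⟩
  rcases lt_or_ge i 6 with h | h
  · interval_cases i
    · exact h0
    · exact h1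
    · exact h2
    · exact h3
    · exact h4
    · exact h5
  · exact hE (subset_closure ⟨i - 6, by omega, by rw [Nat.sub_add_cancel h]⟩)

/-! ### the homomorphisms `R/B → E/⟨z⟩` -/

/-- the commutator of the word `p` with `G (msk m)` is `1` or `z` -/
noncomputable def cz (p : List ℕ) (m : ℕ) : Bool :=
  eqw (p ++ gg (msk m)) (gg (msk m) ++ p) || eqw (p ++ gg (msk m)) (gg ([7, 9, 10] ++ msk m) ++ p)

/-- candidates for `b` -/
noncomputable def gd (m : ℕ) : Bool :=
  [[], [0, 1, 3], [1, 4, 5], [0, 1, 3, 1, 4, 5]].any fun bw =>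
    eqw (gg (bw ++ [0])) (gg (msk m ++ ([0] ++ bw))) || eqw (gg (bw ++ [0])) (gg (msk m ++ ([7, 9, 10] ++ ([0] ++ bw))))

theorem chk_h : ∀ m < 32, (!(cz [0] m) || !(cz [5, 0, 2] m) || gd m) = true := by decide +kernel

theorem cz_sound {p : List ℕ} {m : ℕ} (h : V p * G (msk m) * (V p)⁻¹ * (G (msk m))⁻¹ = 1 ∨
    V p * G (msk m) * (V p)⁻¹ * (G (msk m))⁻¹ = S * S) : cz p m = true := by
  by_contra hc
  have hc : cz p m = false := by simpa using hc
  rw [cz, Bool.or_eq_false_iff] at hc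
  have h1 := ne_of_eqw hc.1
  have h2 := ne_of_eqw hc.2
  rw [V_append, V_append] at h1 h2
  rcases h with h | h
  · apply h1
    have h3 := mul_inv_eq_one.1 h
    exact mul_inv_eq_iff_eq_mul.1 h3
  · apply h2
    have h3 := mul_inv_eq_iff_eq_mul.1 (mul_inv_eq_iff_eq_mul.1 h)
    change V p * G (msk m) = G ([7, 9, 10] ++ msk m) * V p
    rw [h3, zG, G_append]

theorem T_comm : eqw ([0] ++ gg [0]) (gg [0] ++ [0]) = true := by decide +kernel
theorem T2_comm : eqw ([5, 0, 2] ++ gg [0]) (gg [0] ++ [5, 0, 2]) = true := by decide +kernel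

theorem comm_one {p : List ℕ} (h : eqw (p ++ gg [0]) (gg [0] ++ p) = true) :
    V p * G [0] * (V p)⁻¹ * (G [0])⁻¹ = 1 := by
  have h1 := eqw_sound h
  rw [V_append, V_append] at h1
  change V p * G [0] = G [0] * V p at h1
  rw [h1]
  group

/-- **`hom4`** -/
theorem hom4 {B : Subgroup RuOrder.H} (hE : E ≤ B) (h1 : G [0, 1, 3] ∈ B) (h2 : G [1, 4, 5] ∈ B) :
    ∃ r₁ ∈ R, (∀ Q : Subgroup RuOrder.H, B ≤ Q → r₁ ∈ Q → (∀ p ∈ P1, ∀ q ∈ Q, p * q * p⁻¹ ∈ Q) → R ≤ Q) ∧
    ∀ e ∈ E, (∀ p ∈ P1, p * r₁ * p⁻¹ * r₁⁻¹ ∈ B → p * e * p⁻¹ * e⁻¹ = 1 ∨ p * e * p⁻¹ * e⁻¹ = S * S) →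
      ∃ b ∈ B, b * r₁ * b⁻¹ * r₁⁻¹ = e ∨ b * r₁ * b⁻¹ * r₁⁻¹ = e * (S * S) := by
  refine ⟨G [0], G_mem_R (by decide), fun Q hB h0 hQ => R_le_of Q (hE.trans hB) h0 hQ, ?_⟩
  intro e he hp
  obtain ⟨m, hm, rfl⟩ := exists_msk e he
  have c1 : cz [0] m = true := cz_sound (hp _ (V_mem _) (by rw [comm_one T_comm]; exact B.one_mem))
  have c2 : cz [5, 0, 2] m = true := cz_sound (hp _ (V_mem _) (by rw [comm_one T2_comm]; exact B.one_mem))
  have h := chk_h m hm
  rw [c1, c2] at h
  have h3 : gd m = true := by simpa using h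
  obtain ⟨bw, hbw, h4⟩ := List.any_eq_true.1 h3
  have hb : G bw ∈ B := by
    simp only [List.mem_cons, List.not_mem_nil, or_false] at hbw
    rcases hbw with rfl | rfl | rfl | rfl
    · exact B.one_mem
    · exact h1
    · exact h2
    · have : G [0, 1, 3, 1, 4, 5] = G [0, 1, 3] * G [1, 4, 5] := G_append [0, 1, 3] [1, 4, 5]
      rw [this]
      exact mul_mem h1 h2
  refine ⟨G bw, hb, ?_⟩
  rw [Bool.or_eq_true] at h4
  rcases h4 with h4 | h4
  · left
    have h5 := eqw_sound h4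
    change G (bw ++ [0]) = G (msk m ++ ([0] ++ bw)) at h5
    rw [G_append, G_append, G_append] at h5
    rw [h5]
    group
  · right
    have h5 := eqw_sound h4
    change G (bw ++ [0]) = G (msk m ++ ([7, 9, 10] ++ ([0] ++ bw))) at h5
    rw [G_append, G_append, G_append, G_append] at h5
    rw [h5, zG]
    group

/-! ### the duality -/

/-- does `G (msk m)` commute with `G [i]`? -/
noncomputable def cc (m i : ℕ) : Bool := eqw (gg (msk m ++ [i])) (gg ([i] ++ msk m))

/-- the element of `E` with given commutators with `G 0, G 1, G 2, G 4` (true = commutes) -/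
def sel (a b c d : Bool) : ℕ :=
  match a, b, c, d with
  | true, true, true, true => 0
  | true, true, true, false => 1
  | true, true, false, false => 2
  | true, true, false, true => 3
  | true, false, true, true => 4
  | true, false, true, false => 5
  | true, false, false, false => 6
  | true, false, false, true => 7
  | false, false, true, true => 8
  | false, false, true, false => 9
  | false, false, false, false => 10
  | false, false, false, true => 11
  | false, true, true, true => 12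
  | false, true, true, false => 13
  | false, true, false, false => 14
  | false, true, false, true => 15

theorem sel_lt (a b c d : Bool) : sel a b c d < 32 := by revert a b c d; decide

theorem chk_sel : ∀ a b c d : Bool, cc (sel a b c d) 0 = a ∧ cc (sel a b c d) 1 = b ∧ cc (sel a b c d) 2 = c ∧
    cc (sel a b c d) 4 = d := by decide +kernel

theorem chk_j : ∀ i < 5, eqw (gg ([0, 1, 3] ++ [i + 6])) (gg ([i + 6] ++ [0, 1, 3])) = true ∧
    eqw (gg ([1, 4, 5] ++ [i + 6])) (gg ([i + 6] ++ [1, 4, 5])) = true := by decide +kernel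

theorem j_comm {l : List ℕ} (h : ∀ i < 5, eqw (gg (l ++ [i + 6])) (gg ([i + 6] ++ l)) = true) :
    ∀ e ∈ E, e * G l = G l * e := by
  have key : E ≤ centralizer ({G l} : Set RuOrder.H) := by
    rw [E, closure_le]
    rintro x ⟨i, hi, rfl⟩
    rw [SetLike.mem_coe, mem_centralizer_iff]
    rintro w rfl
    have h1 := eqw_sound (h i hi)
    change G (l ++ [i + 6]) = G ([i + 6] ++ l) at h1
    rwa [G_append, G_append] at h1
  intro e he
  exact (mem_centralizer_iff.1 (key he) _ rfl).symm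

theorem cc_iff {m i : ℕ} : cc m i = true ↔ G (msk m) * G [i] = G [i] * G (msk m) := by
  constructor
  · intro h
    have h1 := eqw_sound h
    change G (msk m ++ [i]) = G ([i] ++ msk m) at h1
    rwa [G_append, G_append] at h1
  · intro h
    by_contra hc
    have hc : cc m i = false := by simpa using hc
    apply ne_of_eqw hc
    change G (msk m ++ [i]) = G ([i] ++ msk m)
    rwa [G_append, G_append]

/-- **`dual`** -/
theorem dual {B : Subgroup RuOrder.H} (hE : E ≤ B) (h1 : G [0, 1, 3] ∈ B) (h2 : G [1, 4, 5] ∈ B) :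
    ∀ Q ≤ R, B ≤ Q → (∀ r ∈ R, ∀ s ∈ R, r ∉ Q → s ∉ Q → r * s ∈ Q) →
    ∃ e ∈ E, ∀ r ∈ R, (r ∈ Q ↔ e * r = r * e) := by
  classical
  intro Q hQR hBQ hQ
  obtain ⟨e0, e1, e2, e4⟩ := chk_sel (decide (G [0] ∈ Q)) (decide (G [1] ∈ Q)) (decide (G [2] ∈ Q))
    (decide (G [4] ∈ Q))
  obtain ⟨m, hm, rfl⟩ : ∃ m, m < 32 ∧ m = sel (decide (G [0] ∈ Q)) (decide (G [1] ∈ Q)) (decide (G [2] ∈ Q))
    (decide (G [4] ∈ Q)) := ⟨_, sel_lt _ _ _ _, rfl⟩
  set m := sel (decide (G [0] ∈ Q)) (decide (G [1] ∈ Q)) (decide (G [2] ∈ Q)) (decide (G [4] ∈ Q)) with hmd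
  have heE : G (msk m) ∈ E := by
    rw [← pr_eq]
    exact pr_mem _ _ _ _ _
  refine ⟨G (msk m), heE, ?_⟩
  set e := G (msk m) with hed
  have f : ∀ i : ℕ, cc m i = decide (G [i] ∈ Q) → (G [i] ∈ Q ↔ e * G [i] = G [i] * e) := by
    intro i hi
    rw [← cc_iff, hi, decide_eq_true_iff]
  have f0 := f 0 e0
  have f1 := f 1 e1
  have f2 := f 2 e2
  have f4 := f 4 e4
  have anti : ∀ r ∈ R, ¬ e * r = r * e → e * r = r * e * (S * S) := by
    intro r hr hc
    rcases RE r hr e heE with h3 | h3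
    · exact absurd (mul_inv_eq_iff_eq_mul.1 (mul_inv_eq_one.1 h3)).symm hc
    · have h4 := mul_inv_eq_iff_eq_mul.1 (mul_inv_eq_iff_eq_mul.1 h3)
      have hz := z_comm r (R_le hr)
      have hz' := z_comm e (E_le heE)
      have h5 : (S * S) * (S * S) = 1 := zz
      calc e * r = (S * S) * (S * S) * (e * r) := by rw [h5, one_mul]
        _ = (S * S) * ((S * S) * e * r) := by simp only [mul_assoc]
        _ = (S * S) * (r * e) := by rw [h4]
        _ = (S * S) * r * e := by simp only [mul_assoc]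
        _ = r * (S * S) * e := by rw [hz]
        _ = r * ((S * S) * e) := by simp only [mul_assoc]
        _ = r * (e * (S * S)) := by rw [hz']
        _ = r * e * (S * S) := by simp only [mul_assoc]
  have mulP : ∀ r ∈ R, ∀ s ∈ R, (r ∈ Q ↔ e * r = r * e) → (s ∈ Q ↔ e * s = s * e) →
      (r * s ∈ Q ↔ e * (r * s) = r * s * e) := by
    intro r hr s hs hr' hs'
    by_cases h3 : r ∈ Q
    · have h4 := hr'.1 h3
      have h5 : r * s ∈ Q ↔ s ∈ Q := Q.mul_mem_cancel_left h3
      rw [h5, hs']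
      constructor
      · intro h6
        rw [← mul_assoc, h4, mul_assoc, h6, mul_assoc]
      · intro h6
        rw [← mul_assoc, h4, mul_assoc, mul_assoc] at h6
        exact mul_left_cancel h6
    · have h4 : ¬ e * r = r * e := fun h => h3 (hr'.2 h)
      have h5 := anti r hr h4
      by_cases h6 : s ∈ Q
      · have h7 := hs'.1 h6
        have h8 : r * s ∉ Q := fun h => h3 ((Q.mul_mem_cancel_right h6).1 h)
        refine ⟨fun h => absurd h h8, fun h => ?_⟩
        exfalso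
        apply h4
        have h9 : e * r * s = r * e * s := by
          rw [mul_assoc, h, mul_assoc r s e, ← h7, mul_assoc]
        exact mul_right_cancel h9
      · have h7 : ¬ e * s = s * e := fun h => h6 (hs'.2 h)
        have h8 := anti s hs h7
        refine ⟨fun _ => ?_, fun _ => hQ r hr s hs h3 h6⟩
        have hz := z_comm s (R_le hs)
        have hz' := z_comm e (E_le heE)
        have h9 : (S * S) * (S * S) = 1 := zz
        calc e * (r * s) = e * r * s := by rw [mul_assoc]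
          _ = r * e * (S * S) * s := by rw [h5]
          _ = r * e * ((S * S) * s) := by simp only [mul_assoc]
          _ = r * e * (s * (S * S)) := by rw [hz]
          _ = r * (e * s) * (S * S) := by simp only [mul_assoc]
          _ = r * (s * e * (S * S)) * (S * S) := by rw [h8]
          _ = r * s * e * ((S * S) * (S * S)) := by simp only [mul_assoc]
          _ = r * s * e := by rw [h9, mul_one]
  have invP : ∀ r ∈ R, (r ∈ Q ↔ e * r = r * e) → (r⁻¹ ∈ Q ↔ e * r⁻¹ = r⁻¹ * e) := by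
    intro r _ hr'
    rw [Q.inv_mem_iff, hr']
    constructor
    · intro h
      calc e * r⁻¹ = r⁻¹ * (r * e) * r⁻¹ := by group
        _ = r⁻¹ * (e * r) * r⁻¹ := by rw [h]
        _ = r⁻¹ * e := by group
    · intro h
      calc e * r = r * (r⁻¹ * e) * r := by group
        _ = r * (e * r⁻¹) * r := by rw [h]
        _ = r * e := by group
  have m0 : G [0] ∈ R := G_mem_R (by decide)
  have m1 : G [1] ∈ R := G_mem_R (by decide)
  have m2 : G [2] ∈ R := G_mem_R (by decide)
  have m3 : G [3] ∈ R := G_mem_R (by decide)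
  have m4 : G [4] ∈ R := G_mem_R (by decide)
  have m5 : G [5] ∈ R := G_mem_R (by decide)
  have fj1 : G [0, 1, 3] ∈ Q ↔ e * G [0, 1, 3] = G [0, 1, 3] * e :=
    ⟨fun _ => j_comm (fun i hi => (chk_j i hi).1) e heE, fun _ => hBQ h1⟩
  have fj2 : G [1, 4, 5] ∈ Q ↔ e * G [1, 4, 5] = G [1, 4, 5] * e :=
    ⟨fun _ => j_comm (fun i hi => (chk_j i hi).2) e heE, fun _ => hBQ h2⟩
  have f3 : G [3] ∈ Q ↔ e * G [3] = G [3] * e := by
    have h3 := mulP _ (R.inv_mem (R.mul_mem m0 m1)) _ (G_mem_R (by decide)) (invP _ (R.mul_mem m0 m1)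
      (mulP _ m0 _ m1 f0 f1)) fj1
    have h4 : (G [0] * G [1])⁻¹ * G [0, 1, 3] = G [3] := by
      have : G [0, 1, 3] = G [0, 1] * G [3] := G_append [0, 1] [3]
      rw [this, G_two]
      group
    rwa [h4] at h3
  have f5 : G [5] ∈ Q ↔ e * G [5] = G [5] * e := by
    have h3 := mulP _ (R.inv_mem (R.mul_mem m1 m4)) _ (G_mem_R (by decide)) (invP _ (R.mul_mem m1 m4)
      (mulP _ m1 _ m4 f1 f4)) fj2
    have h4 : (G [1] * G [4])⁻¹ * G [1, 4, 5] = G [5] := by
      have : G [1, 4, 5] = G [1, 4] * G [5] := G_append [1, 4] [5]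
      rw [this, G_two]
      group
    rwa [h4] at h3
  intro r hr
  have hr' : r ∈ closure gR := hr
  have key : ∀ x (_ : x ∈ closure gR), x ∈ R ∧ (x ∈ Q ↔ e * x = x * e) := by
    intro x hx
    induction hx using closure_induction with
    | mem x hx =>
      obtain ⟨i, hi, rfl⟩ := hx
      rcases lt_or_ge i 6 with h | h
      · interval_cases i
        · exact ⟨m0, f0⟩
        · exact ⟨m1, f1⟩
        · exact ⟨m2, f2⟩
        · exact ⟨m3, f3⟩
        · exact ⟨m4, f4⟩
        · exact ⟨m5, f5⟩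
      · have h3 : G [i] ∈ E := subset_closure ⟨i - 6, by omega, by rw [Nat.sub_add_cancel h]⟩
        exact ⟨E_le_R h3, fun _ => E_comm e heE _ h3, fun _ => hBQ (hE h3)⟩
    | one => exact ⟨R.one_mem, fun _ => by rw [mul_one, one_mul], fun _ => Q.one_mem⟩
    | mul x y hx hy ihx ihy => exact ⟨R.mul_mem ihx.1 ihy.1, mulP _ ihx.1 _ ihy.1 ihx.2 ihy.2⟩
    | inv x hx ihx => exact ⟨R.inv_mem ihx.1, invP _ ihx.1 ihx.2⟩
  exact (key r hr').2

/-! ### the element of order five -/

/-- the action of `a = T D Y` on the exponents -/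
def act : List ℕ := [0, 21, 5, 16, 2, 23, 7, 18, 3, 22, 6, 19, 1, 20, 4, 17, 28, 9, 25, 12, 30, 11, 27, 14, 31, 10,
  26, 15, 29, 8, 24, 13]

theorem chk_act : ∀ m < 32, eqw ([0, 2, 3] ++ gg (msk m)) (gg (msk (act.getD m 0)) ++ [0, 2, 3]) = true := by
  decide +kernel

theorem act_lt : ∀ m < 32, act.getD m 0 < 32 := by decide

/-- combinations of `m, a m, a² m, a³ m, z` -/
def comb (c m : ℕ) : ℕ :=
  (bif Nat.testBit c 0 then m else 0) ^^^ ((bif Nat.testBit c 1 then act.getD m 0 else 0) ^^^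
    ((bif Nat.testBit c 2 then act.getD (act.getD m 0) 0 else 0) ^^^
      ((bif Nat.testBit c 3 then act.getD (act.getD (act.getD m 0) 0) 0 else 0) ^^^
        (bif Nat.testBit c 4 then 26 else 0))))

theorem chk_comb : ∀ m < 32, m = 0 ∨ m = 26 ∨ ∀ i < 5, ∃ c < 32, comb c m = 2 ^ i := by decide +kernel

theorem G_msk_mul {m m' : ℕ} : G (msk m) * G (msk m') = G (msk (m ^^^ m')) := by
  rw [← pr_eq, ← pr_eq, ← pr_eq, pr_mul]
  simp only [Nat.testBit_xor]

theorem msk_zero : G (msk 0) = 1 := rfl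

theorem chk_n : eqv (D9.Ru.XCover.hw ++ ((gg [2, 3, 4, 6]).flatMap ex ++ ([8] ++ [1, 1])))
    ([1, 1] ++ (D9.Ru.XCover.hw ++ ((gg [2, 3, 4, 6]).flatMap ex ++ [8]))) = true := by decide +kernel

theorem chk_na : eqv (D9.Ru.XCover.hw ++ ((gg [2, 3, 4, 6]).flatMap ex ++ ([8] ++ [0, 4, 5])))
    ([0, 4, 5] ++ ([0, 4, 5] ++ (D9.Ru.XCover.hw ++ ((gg [2, 3, 4, 6]).flatMap ex ++ [8])))) = true := by decide +kernel

theorem a_eq' : V [0, 2, 3] = wprod ml [0, 4, 5] := rfl

theorem msk_26 : G (msk 26) = S * S := z_eq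

/-- **`five`** -/
theorem five : ∃ a ∈ P1, a ^ 5 = 1 ∧ a ≠ 1 ∧
    (∃ n ∈ (⊤ : Subgroup RuOrder.H), n * (S * S) = (S * S) * n ∧ n * a * n⁻¹ = a ^ 2) ∧
    ∀ Q ≤ E, S * S ∈ Q → (∀ q ∈ Q, a * q * a⁻¹ ∈ Q) → (∀ q ∈ Q, q = 1 ∨ q = S * S) ∨ Q = E := by
  refine ⟨V [0, 2, 3], V_mem _, ?_, ?_, ⟨wprod ml (D9.Ru.XCover.hw ++ ((gg [2, 3, 4, 6]).flatMap ex ++ [8])), mem_top _,
    ?_, ?_⟩, ?_⟩
  · have h : eqw [0, 2, 3, 0, 2, 3, 0, 2, 3, 0, 2, 3, 0, 2, 3] [] = true := by decide +kernel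
    have h1 := eqw_sound h
    rw [V_nil] at h1
    rw [← h1]
    have e : V [0, 2, 3, 0, 2, 3, 0, 2, 3, 0, 2, 3, 0, 2, 3] =
        V [0, 2, 3] * (V [0, 2, 3] * (V [0, 2, 3] * (V [0, 2, 3] * V [0, 2, 3]))) := by
      rw [← V_append, ← V_append, ← V_append, ← V_append]; rfl
    rw [e]
    simp only [pow_succ, pow_zero, one_mul, mul_assoc]
  · have h : eqw [0, 2, 3] [] = false := by decide +kernel
    exact ne_of_eqw h
  · have h := eqv_sound chk_n
    rw [D9.Ru.XChk.wprod_append, D9.Ru.XChk.wprod_append, D9.Ru.XChk.wprod_append, D9.Ru.XChk.wprod_append, D9.Ru.XChk.wprod_append, D9.Ru.XChk.wprod_append] at h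
    have hz : wprod ml [1, 1] = S * S := by
      rw [wprod_cons, wprod_cons]
      change S * (S * 1) = S * S
      rw [mul_one]
    rw [hz] at h
    rw [D9.Ru.XChk.wprod_append, D9.Ru.XChk.wprod_append]
    rw [← h]
    simp only [mul_assoc]
  · have h := eqv_sound chk_na
    rw [D9.Ru.XChk.wprod_append, D9.Ru.XChk.wprod_append, D9.Ru.XChk.wprod_append, D9.Ru.XChk.wprod_append [0, 4, 5], D9.Ru.XChk.wprod_append [0, 4, 5], D9.Ru.XChk.wprod_append,
      D9.Ru.XChk.wprod_append] at h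
    rw [D9.Ru.XChk.wprod_append, D9.Ru.XChk.wprod_append, a_eq', mul_inv_eq_iff_eq_mul, pow_two]
    simp only [mul_assoc] at h ⊢
    exact h
  · intro Q hQE hz ha
    by_cases hq : ∀ q ∈ Q, q = 1 ∨ q = S * S
    · exact Or.inl hq
    · right
      push Not at hq
      obtain ⟨q, hqQ, hq1, hqz⟩ := hq
      obtain ⟨m, hm, rfl⟩ := exists_msk q (hQE hqQ)
      have hact : ∀ m < 32, G (msk m) ∈ Q → G (msk (act.getD m 0)) ∈ Q := by
        intro m hm h
        have h1 := ha _ h
        have h2 := eqw_sound (chk_act m hm)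
        rw [V_append, V_append] at h2
        change V [0, 2, 3] * G (msk m) = G (msk (act.getD m 0)) * V [0, 2, 3] at h2
        rw [h2, mul_inv_cancel_right] at h1
        exact h1
      have hb : ∀ (b : Bool) (k : ℕ), G (msk k) ∈ Q → G (msk (bif b then k else 0)) ∈ Q := by
        intro b k h
        cases b
        · rw [cond_false, msk_zero]; exact Q.one_mem
        · exact h
      have hx : ∀ k k', G (msk k) ∈ Q → G (msk k') ∈ Q → G (msk (k ^^^ k')) ∈ Q := by
        intro k k' h h'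
        rw [← G_msk_mul]
        exact Q.mul_mem h h'
      have h1 := hact m hm hqQ
      have h2 := hact _ (act_lt m hm) h1
      have h3 := hact _ (act_lt _ (act_lt m hm)) h2
      have h4 : G (msk 26) ∈ Q := by rw [msk_26]; exact hz
      rcases chk_comb m hm with rfl | rfl | hc
      · exact absurd msk_zero hq1
      · exact absurd msk_26 hqz
      · refine le_antisymm hQE ?_
        rw [E, closure_le]
        rintro x ⟨i, hi, rfl⟩
        obtain ⟨c, _, hc'⟩ := hc i hi
        have h5 : G (msk (comb c m)) ∈ Q :=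
          hx _ _ (hb _ _ hqQ) (hx _ _ (hb _ _ h1) (hx _ _ (hb _ _ h2) (hx _ _ (hb _ _ h3) (hb _ _ h4))))
        rw [hc'] at h5
        have h6 : msk (2 ^ i) = [i + 6] := by interval_cases i <;> rfl
        rw [h6] at h5
        exact h5

end Cfsg.Agent.OddHalf.D8.RuFam.LocB
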