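import Cfsg.Agent.OddHalf.D8.RuFam.Base

/-!
# ODD half, D8, K = Ru: existence of the family, step (1) (helper936)

`exists_m`: an element `m` with `tᵐ = t z`, `[m, E] = 1`, `[m, R] ≤ ⟨z⟩`; two such elements differ by `⟨t⟩ E`;
`[m, P₀] ≤ E`.
-/

set_option autoImplicit false

namespace Cfsg.Agent.OddHalf.D8.RuFam

open Subgroup
open scoped commutatorElement

variable {G : Type*} [Group G] {t z : G} {K P₀ R B E : Subgroup G}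

section Cent

variable {y : G}

/-- `[y, P₀] ≤ B` -/
theorem YY.comm_B (h : YY t z y) (H : Pos t K) (L : Loc K z P₀ R B E) (hE : ∀ e ∈ E, y * e = e * y) {p : G}
    (hp : p ∈ P₀) : y * p * y⁻¹ * p⁻¹ ∈ B := by
  have h1 := mul_mem (h.norP H L p hp) (inv_mem hp)
  rw [L.cenE _ (L.PK h1)]
  intro e he
  have h2 : p⁻¹ * e * p ∈ E := by
    have := L.cen_E (L.PK (inv_mem hp)) (L.Pz _ (inv_mem hp)) e he
    rwa [inv_inv] at this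
  have h3 : y⁻¹ * (p⁻¹ * e * p) * y = p⁻¹ * e * p := by
    calc y⁻¹ * (p⁻¹ * e * p) * y = y⁻¹ * ((p⁻¹ * e * p) * y) := by group
      _ = p⁻¹ * e * p := by rw [← hE _ h2]; group
  calc y * p * y⁻¹ * p⁻¹ * e = y * p * (y⁻¹ * (p⁻¹ * e * p) * y) * y⁻¹ * p⁻¹ := by group
    _ = (y * e) * p * y⁻¹ * p⁻¹ := by rw [h3]; group
    _ = e * (y * p * y⁻¹ * p⁻¹) := by rw [hE e he]; group

/-- `[y, P₀] ≤ E` -/
theorem YY.comm_E (h : YY t z y) (H : Pos t K) (L : Loc K z P₀ R B E) (hE : ∀ e ∈ E, y * e = e * y) {p : G}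
    (hp : p ∈ P₀) : y * p * y⁻¹ * p⁻¹ ∈ E := by
  have nE : ∀ q ∈ P₀, ∀ e ∈ E, q * e * q⁻¹ ∈ E := fun q hq => L.cen_E (L.PK hq) (L.Pz q hq)
  let X : Subgroup G :=
    { carrier := {p | p ∈ P₀ ∧ y * p * y⁻¹ * p⁻¹ ∈ E}
      one_mem' := ⟨one_mem _, by simp [one_mem]⟩
      mul_mem' := by
        rintro p q ⟨hp, h1⟩ ⟨hq, h2⟩
        refine ⟨mul_mem hp hq, ?_⟩
        have e1 : y * (p * q) * y⁻¹ * (p * q)⁻¹ = (y * p * y⁻¹ * p⁻¹) * (p * (y * q * y⁻¹ * q⁻¹) * p⁻¹) := by group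
        rw [e1]
        exact mul_mem h1 (nE p hp _ h2)
      inv_mem' := by
        rintro p ⟨hp, h1⟩
        refine ⟨inv_mem hp, ?_⟩
        have e1 : y * p⁻¹ * y⁻¹ * p⁻¹⁻¹ = p⁻¹ * (y * p * y⁻¹ * p⁻¹)⁻¹ * p⁻¹⁻¹ := by group
        rw [e1]
        exact nE _ (inv_mem hp) _ (inv_mem h1) }
  have hX : P₀ ≤ X := by
    conv_lhs => rw [← L.perf]
    rw [commutator_le]
    intro p hp q hq
    rw [commutatorElement_def]
    have hpq : p * q * p⁻¹ * q⁻¹ ∈ P₀ := mul_mem (mul_mem (mul_mem hp hq) (inv_mem hp)) (inv_mem hq)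
    refine ⟨hpq, ?_⟩
    set b := y * p * y⁻¹ * p⁻¹ with hb
    set c := y * q * y⁻¹ * q⁻¹ with hc
    have hbB : b ∈ B := h.comm_B H L hE hp
    have hcB : c ∈ B := h.comm_B H L hE hq
    have hbP := L.BP₀ hbB
    have hcP := L.BP₀ hcB
    have f1 : p * c * p⁻¹ * c⁻¹ ∈ E := L.BP c hcB p hp
    have f2 : (p * q * p⁻¹) * b⁻¹ * (p * q * p⁻¹)⁻¹ * b⁻¹⁻¹ ∈ E :=
      L.BP b⁻¹ (inv_mem hbB) _ (mul_mem (mul_mem hp hq) (inv_mem hp))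
    have f3 : (p * q * p⁻¹ * q⁻¹) * c⁻¹ * (p * q * p⁻¹ * q⁻¹)⁻¹ * c⁻¹⁻¹ ∈ E :=
      L.BP c⁻¹ (inv_mem hcB) _ hpq
    have f4 : b * c * b⁻¹ * c⁻¹ ∈ E := by
      rcases L.BB b hbB c hcB with e | e <;> rw [e]
      exacts [one_mem _, L.zE]
    have e1 : y * (p * q * p⁻¹ * q⁻¹) * y⁻¹ * (p * q * p⁻¹ * q⁻¹)⁻¹ =
        (b * (p * c * p⁻¹ * c⁻¹) * b⁻¹) *
        ((b * c) * ((p * q * p⁻¹) * b⁻¹ * (p * q * p⁻¹)⁻¹ * b⁻¹⁻¹) * (b * c)⁻¹) *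
        ((b * c * b⁻¹) * ((p * q * p⁻¹ * q⁻¹) * c⁻¹ * (p * q * p⁻¹ * q⁻¹)⁻¹ * c⁻¹⁻¹) * (b * c * b⁻¹)⁻¹) *
        (b * c * b⁻¹ * c⁻¹) := by
      rw [hb, hc]; group
    rw [e1]
    exact mul_mem (mul_mem (mul_mem (nE b hbP _ f1) (nE _ (mul_mem hbP hcP) _ f2))
      (nE _ (mul_mem (mul_mem hbP hcP) (inv_mem hbP)) _ f3)) f4
  exact (hX hp).2

/-- `[y, B] ≤ ⟨z⟩` -/
theorem YY.comm_z (h : YY t z y) (H : Pos t K) (L : Loc K z P₀ R B E) (hE : ∀ e ∈ E, y * e = e * y) {b : G}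
    (hb : b ∈ B) : y * b * y⁻¹ * b⁻¹ = 1 ∨ y * b * y⁻¹ * b⁻¹ = z := by
  have he := h.comm_E H L hE (L.BP₀ hb)
  apply L.ZR _ he
  intro r hr
  set e := y * b * y⁻¹ * b⁻¹ with he'
  have hf := h.comm_E H L hE (L.RP hr)
  set f := y * r * y⁻¹ * r⁻¹ with hf'
  have hc : r * b * r⁻¹ * b⁻¹ ∈ E := L.BP b hb r (L.RP hr)
  set c := b * r * b⁻¹ * r⁻¹ with hc'
  have hcE : c ∈ E := by
    have : c = (r * b * r⁻¹ * b⁻¹)⁻¹ := by rw [hc']; group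
    rw [this]
    exact inv_mem hc
  have h1 : y * c * y⁻¹ = c := by rw [hE c hcE]; group
  have h2 : y * c * y⁻¹ = (e * b) * (f * r) * (e * b)⁻¹ * (f * r)⁻¹ := by
    rw [he', hf', hc']; group
  have hreE : r * e⁻¹ * r⁻¹ ∈ E := by
    have := L.cen_E (L.PK (L.RP hr)) (L.Rz hr) e⁻¹ (inv_mem he)
    exact this
  have h3 : (e * b) * (f * r) * (e * b)⁻¹ * (f * r)⁻¹ = c * (e * (r * e⁻¹ * r⁻¹)) := by
    calc (e * b) * (f * r) * (e * b)⁻¹ * (f * r)⁻¹ = e * (b * f) * r * b⁻¹ * e⁻¹ * r⁻¹ * f⁻¹ := by group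
      _ = e * f * c * (r * e⁻¹ * r⁻¹) * f⁻¹ := by rw [L.cB hb hf, hc']; group
      _ = e * (f * (c * (r * e⁻¹ * r⁻¹))) * f⁻¹ := by group
      _ = e * (c * (r * e⁻¹ * r⁻¹) * f) * f⁻¹ := by rw [L.Eab hf (mul_mem hcE hreE)]
      _ = (e * c) * (r * e⁻¹ * r⁻¹) := by group
      _ = c * (e * (r * e⁻¹ * r⁻¹)) := by rw [L.Eab he hcE]; group
  rw [h1] at h2
  rw [h3] at h2
  have h4 : e * (r * e⁻¹ * r⁻¹) = 1 := by
    have h5 : c * 1 = c * (e * (r * e⁻¹ * r⁻¹)) := by rw [mul_one]; exact h2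
    exact (mul_left_cancel h5).symm
  calc e * r = e * (r * e⁻¹ * r⁻¹) * r * e := by group
    _ = r * e := by rw [h4, one_mul]

end Cent

/-- **step (1)** -/
theorem exists_m (H : Pos t K) (L : Loc K z P₀ R B E) {y : G} (h : YY t z y) (hE : ∀ e ∈ E, y * e = e * y) :
    ∃ m, MM t z R E m := by
  obtain ⟨r₁, hr₁, hgen, hfix⟩ := L.hom4
  have nE : ∀ q ∈ P₀, ∀ e ∈ E, q * e * q⁻¹ ∈ E := fun q hq => L.cen_E (L.PK hq) (L.Pz q hq)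
  set e := y * r₁ * y⁻¹ * r₁⁻¹ with he'
  have he : e ∈ E := h.comm_E H L hE (L.RP hr₁)
  have zc : ∀ w ∈ P₀, z * w = w * z := fun w hw => (L.Pz w hw).symm
  obtain ⟨b, hb, hbe⟩ := hfix e he (by
    intro p hp hb₁
    set b₁ := p * r₁ * p⁻¹ * r₁⁻¹ with hb₁'
    set ε := y * p * y⁻¹ * p⁻¹ with hε'
    have hε : ε ∈ E := h.comm_E H L hE hp
    have hr' : p * r₁ * p⁻¹ ∈ R := L.Rn p hp r₁ hr₁
    -- `β(p r₁ p⁻¹)` in two ways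
    have e1 : y * (p * r₁ * p⁻¹) * y⁻¹ * (p * r₁ * p⁻¹)⁻¹ =
        ε * (p * e * p⁻¹) * ((p * r₁ * p⁻¹) * ε⁻¹ * (p * r₁ * p⁻¹)⁻¹) := by
      rw [hε', he']; group
    have e2 : y * (p * r₁ * p⁻¹) * y⁻¹ * (p * r₁ * p⁻¹)⁻¹ = (y * b₁ * y⁻¹ * b₁⁻¹) * (b₁ * e * b₁⁻¹) := by
      rw [he', hb₁']; group
    have e3 : b₁ * e * b₁⁻¹ = e := by rw [L.cB hb₁ he]; group
    rw [e3] at e2
    have hpe : p * e * p⁻¹ ∈ E := nE p hp e he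
    have e4 : ∃ w : G, (w = 1 ∨ w = z) ∧ (p * r₁ * p⁻¹) * ε⁻¹ * (p * r₁ * p⁻¹)⁻¹ = ε⁻¹ * w := by
      rcases L.RE' hr' (inv_mem hε) with h5 | h5
      · exact ⟨1, Or.inl rfl, by rw [h5, mul_one]⟩
      · exact ⟨z, Or.inr rfl, h5⟩
    obtain ⟨w, hw, e5⟩ := e4
    have hwE : w ∈ E := by rcases hw with rfl | rfl; exacts [one_mem _, L.zE]
    have e6 : ε * (p * e * p⁻¹) * (ε⁻¹ * w) = p * e * p⁻¹ * w := by
      rw [L.Eab hε hpe]; group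
    rw [e5, e6] at e1
    -- `p e p⁻¹ w = β(b₁) e`
    have e7 : p * e * p⁻¹ * w = (y * b₁ * y⁻¹ * b₁⁻¹) * e := by rw [← e1, e2]
    have hww : w * w = 1 := by rcases hw with rfl | rfl; exacts [mul_one _, L.zz]
    have e8 : p * e * p⁻¹ * e⁻¹ = (y * b₁ * y⁻¹ * b₁⁻¹) * w := by
      calc p * e * p⁻¹ * e⁻¹ = (p * e * p⁻¹ * w) * w * e⁻¹ := by rw [mul_assoc (p * e * p⁻¹), hww, mul_one]
        _ = (y * b₁ * y⁻¹ * b₁⁻¹) * (e * w) * e⁻¹ := by rw [e7]; group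
        _ = _ := by rw [L.Eab he hwE]; group
    rw [e8]
    rcases h.comm_z H L hE hb₁ with h6 | h6 <;> rw [h6] <;> rcases hw with rfl | rfl
    · left; rw [mul_one]
    · right; rw [one_mul]
    · right; rw [mul_one]
    · left; exact L.zz)
  -- `m = b⁻¹ y`
  have hbP := L.BP₀ hb
  have hbK := L.BK hb
  have hm : YY t z (b⁻¹ * y) := h.mul_left (H.comm _ (inv_mem hbK)) (L.Pz _ (inv_mem hbP))
  have hmE : ∀ e ∈ E, b⁻¹ * y * e = e * (b⁻¹ * y) := by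
    intro w hw
    calc b⁻¹ * y * w = b⁻¹ * (y * w) := by group
      _ = (b⁻¹ * w) * y := by rw [hE w hw]; group
      _ = w * (b⁻¹ * y) := by rw [L.cB (inv_mem hb) hw]; group
  set m := b⁻¹ * y with hm'
  let Q : Subgroup G :=
    { carrier := {r | r ∈ R ∧ (m * r * m⁻¹ * r⁻¹ = 1 ∨ m * r * m⁻¹ * r⁻¹ = z)}
      one_mem' := ⟨one_mem _, Or.inl (by group)⟩
      mul_mem' := by
        rintro r s ⟨hr, h1⟩ ⟨hs, h2⟩
        refine ⟨mul_mem hr hs, ?_⟩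
        have e1 : m * (r * s) * m⁻¹ * (r * s)⁻¹ = (m * r * m⁻¹ * r⁻¹) * (r * (m * s * m⁻¹ * s⁻¹) * r⁻¹) := by group
        rw [e1]
        have e2 : r * z * r⁻¹ = z := by rw [L.Rz hr]; group
        rcases h1 with h1 | h1 <;> rcases h2 with h2 | h2 <;> rw [h1, h2]
        · left; group
        · right; rw [e2, one_mul]
        · right; group
        · left; rw [e2, L.zz]
      inv_mem' := by
        rintro r ⟨hr, h1⟩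
        refine ⟨inv_mem hr, ?_⟩
        have e1 : m * r⁻¹ * m⁻¹ * r⁻¹⁻¹ = r⁻¹ * (m * r * m⁻¹ * r⁻¹)⁻¹ * r := by group
        rw [e1]
        rcases h1 with h1 | h1 <;> rw [h1]
        · left; group
        · right
          rw [L.zinv, mul_assoc, ← L.Rz hr]; group }
  have hBQ : B ≤ Q := fun c hc => ⟨L.BR hc, hm.comm_z H L hmE hc⟩
  have hrQ : r₁ ∈ Q := by
    refine ⟨hr₁, ?_⟩
    have hc : b * r₁ * b⁻¹ * r₁⁻¹ ∈ E := by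
      rcases hbe with h1 | h1 <;> rw [h1]
      exacts [he, mul_mem he L.zE]
    have hc2 : b⁻¹ * r₁ * b * r₁⁻¹ = b * r₁ * b⁻¹ * r₁⁻¹ := by
      have e1 : b⁻¹ * r₁ * b * r₁⁻¹ = b⁻¹ * (b * r₁ * b⁻¹ * r₁⁻¹)⁻¹ * b := by group
      rw [e1, L.Einv hc, mul_assoc, ← L.cB hb hc]; group
    have e1 : m * r₁ * m⁻¹ * r₁⁻¹ = e * (b⁻¹ * r₁ * b * r₁⁻¹) := by
      calc m * r₁ * m⁻¹ * r₁⁻¹ = b⁻¹ * e * (r₁ * b * r₁⁻¹) := by rw [hm', he']; group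
        _ = e * b⁻¹ * (r₁ * b * r₁⁻¹) := by rw [L.cB (inv_mem hb) he]
        _ = _ := by group
    rw [e1, hc2]
    rcases hbe with h1 | h1 <;> rw [h1]
    · left; exact L.EE e he
    · right; rw [← mul_assoc, L.EE e he, one_mul]
  have hPQ : ∀ p ∈ P₀, ∀ q ∈ Q, p * q * p⁻¹ ∈ Q := by
    rintro p hp r ⟨hr, h1⟩
    have hr' : p * r * p⁻¹ ∈ R := L.Rn p hp r hr
    refine ⟨hr', ?_⟩
    set δ := m * p * m⁻¹ * p⁻¹ with hδ'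
    have hδ : δ ∈ E := hm.comm_E H L hmE hp
    have e1 : m * (p * r * p⁻¹) * m⁻¹ * (p * r * p⁻¹)⁻¹ =
        δ * (p * (m * r * m⁻¹ * r⁻¹) * p⁻¹) * ((p * r * p⁻¹) * δ⁻¹ * (p * r * p⁻¹)⁻¹) := by
      rw [hδ']; group
    have e2 : p * (m * r * m⁻¹ * r⁻¹) * p⁻¹ = m * r * m⁻¹ * r⁻¹ := by
      rcases h1 with h1 | h1 <;> rw [h1]
      · group
      · rw [L.Pz p hp]; group
    rw [e1, e2]
    rcases h1 with h1 | h1 <;> rw [h1] <;> rcases L.RE' hr' (inv_mem hδ) with h5 | h5 <;> rw [h5]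
    · left; group
    · right; group
    · right; rw [L.Eab hδ L.zE]; group
    · left
      rw [L.Eab hδ L.zE]
      calc z * δ * (δ⁻¹ * z) = z * z := by group
        _ = 1 := L.zz
  have hRQ := hgen Q hBQ hrQ hPQ
  refine ⟨m, ⟨hm, hmE, ?_⟩⟩
  intro r hr
  rcases (hRQ hr).2 with h1 | h1
  · exact Or.inl (mul_inv_eq_one.1 h1)
  · right
    rw [mul_inv_eq_iff_eq_mul] at h1
    rw [h1, L.Rz hr]

end Cfsg.Agent.OddHalf.D8.RuFam
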