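import Cfsg.Agent.OddHalf.D8.RuFam.Norm

/-!
# ODD half, D8, K = Ru: existence of the family, steps (2) and (3) (helper936)

`exists_rho`: `m` can be chosen commuting with `ρ`; then `m` commutes with `e₀`, `[m, e₁] ∈ {1, u}`, and in the case
`[m, e₁] = 1` the element `m` centralises `B`.
-/

set_option autoImplicit false

namespace Cfsg.Agent.OddHalf.D8.RuFam

open Subgroup
open scoped commutatorElement

variable {G : Type*} [Group G] {t z : G} {K P₀ R B E : Subgroup G}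

namespace MM

variable {m : G}

theorem comm_E (h : MM t z R E m) (H : Pos t K) (L : Loc K z P₀ R B E) {p : G} (hp : p ∈ P₀) :
    m * p * m⁻¹ * p⁻¹ ∈ E := h.toYY.comm_E H L h.mE hp

theorem inv_E (h : MM t z R E m) {e : G} (he : e ∈ E) : m⁻¹ * e = e * m⁻¹ := by
  calc m⁻¹ * e = m⁻¹ * (e * m) * m⁻¹ := by group
    _ = e * m⁻¹ := by rw [← h.mE e he]; group

/-- `m e` for `e ∈ E` -/
theorem mul_E (h : MM t z R E m) (H : Pos t K) (L : Loc K z P₀ R B E) {e : G} (he : e ∈ E) :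
    MM t z R E (m * e) where
  toYY := h.toYY.mul_right (H.comm e (L.EK he)) (L.Pz e (L.EP he))
  mE := by
    intro x hx
    calc m * e * x = m * (e * x) := by group
      _ = m * x * e := by rw [L.Eab he hx]; group
      _ = x * (m * e) := by rw [h.mE x hx]; group
  mR := by
    intro r hr
    have h1 : m * e * r * (m * e)⁻¹ = m * (e * r * e⁻¹) * m⁻¹ := by group
    have h2 : e * r * e⁻¹ = r ∨ e * r * e⁻¹ = r * z := by
      rcases L.RE r hr e he with h3 | h3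
      · left
        have h4 : r * e * r⁻¹ = e := mul_inv_eq_one.1 h3
        have h5 : r * e = e * r := mul_inv_eq_iff_eq_mul.1 h4
        rw [← h5]; group
      · right
        have h4 : r * e * r⁻¹ = z * e := mul_inv_eq_iff_eq_mul.1 h3
        have h5 : r * e = z * e * r := mul_inv_eq_iff_eq_mul.1 h4
        calc e * r * e⁻¹ = z * z * e * r * e⁻¹ := by rw [L.zz, one_mul]
          _ = z * (z * e * r) * e⁻¹ := by group
          _ = z * r := by rw [← h5]; group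
          _ = r * z := (L.Rz hr).symm
    rw [h1]
    have hz : m * z * m⁻¹ = z := by rw [h.yz]; group
    rcases h2 with h2 | h2 <;> rw [h2]
    · exact h.mR r hr
    · have h3 : m * (r * z) * m⁻¹ = (m * r * m⁻¹) * (m * z * m⁻¹) := by group
      rw [h3, hz]
      rcases h.mR r hr with h4 | h4 <;> rw [h4]
      · exact Or.inr rfl
      · left
        rw [mul_assoc, L.zz, mul_one]

/-- conjugation by an element of `C_K(z)` -/
theorem conj (h : MM t z R E m) (H : Pos t K) (L : Loc K z P₀ R B E) {g : G} (hg : g ∈ K) (gz : g * z = z * g) :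
    MM t z R E (g * m * g⁻¹) where
  yt := by
    have h1 : g⁻¹ * t = t * g⁻¹ := H.comm _ (inv_mem hg)
    calc g * m * g⁻¹ * t * (g * m * g⁻¹)⁻¹ = g * m * (g⁻¹ * t) * g * m⁻¹ * g⁻¹ := by group
      _ = g * (m * t * m⁻¹) * g⁻¹ := by rw [h1]; group
      _ = (g * t) * z * g⁻¹ := by rw [h.yt]; group
      _ = t * (g * z) * g⁻¹ := by rw [H.comm g hg]; group
      _ = t * z := by rw [gz]; group
  yz := by
    have h1 : g * z * g⁻¹ = z := by rw [gz]; group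
    have := conj_comm (x := g) h.yz
    rwa [h1] at this
  mE := by
    intro e he
    have h1 : g⁻¹ * e * g ∈ E := by
      have hg' : g⁻¹ * z = z * g⁻¹ := by
        calc g⁻¹ * z = g⁻¹ * (z * g) * g⁻¹ := by group
          _ = z * g⁻¹ := by rw [← gz]; group
      have := L.cen_E (inv_mem hg) hg' e he
      rwa [inv_inv] at this
    calc g * m * g⁻¹ * e = g * (m * (g⁻¹ * e * g)) * g⁻¹ := by group
      _ = e * (g * m * g⁻¹) := by rw [h.mE _ h1]; group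
  mR := by
    intro r hr
    have h1 : g⁻¹ * r * g ∈ R := by
      have hg' : g⁻¹ * z = z * g⁻¹ := by
        calc g⁻¹ * z = g⁻¹ * (z * g) * g⁻¹ := by group
          _ = z * g⁻¹ := by rw [← gz]; group
      have := L.cen_R (inv_mem hg) hg' r hr
      rwa [inv_inv] at this
    have e1 : g * m * g⁻¹ * r * (g * m * g⁻¹)⁻¹ = g * (m * (g⁻¹ * r * g) * m⁻¹) * g⁻¹ := by group
    rw [e1]
    rcases h.mR _ h1 with h2 | h2 <;> rw [h2]
    · left; group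
    · right
      calc g * (g⁻¹ * r * g * z) * g⁻¹ = r * (g * z) * g⁻¹ := by group
        _ = r * z := by rw [gz]; group

/-- two elements with (M) -/
theorem diff {m' : G} (h : MM t z R E m) (h' : MM t z R E m') (H : Pos t K) (L : Loc K z P₀ R B E) :
    ∃ c e : G, (c = 1 ∨ c = t) ∧ e ∈ E ∧ m' = m * c * e := by
  set g := m⁻¹ * m' with hg
  have gt : g * t = t * g := by
    have h1 : m⁻¹ * (t * z) * m = t := by
      rw [← h.yt]; group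
    have h2 : g * t * g⁻¹ = t := by
      calc g * t * g⁻¹ = m⁻¹ * (m' * t * m'⁻¹) * m := by rw [hg]; group
        _ = t := by rw [h'.yt, h1]
    calc g * t = g * t * g⁻¹ * g := by group
      _ = t * g := by rw [h2]
  have gE : ∀ e ∈ E, g * e = e * g := by
    intro e he
    calc g * e = m⁻¹ * (m' * e) := by rw [hg]; group
      _ = (m⁻¹ * e) * m' := by rw [h'.mE e he]; group
      _ = e * g := by rw [h.inv_E he, hg]; group
  have gR : ∀ r ∈ R, g * r * g⁻¹ = r ∨ g * r * g⁻¹ = r * z := by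
    intro r hr
    have mz : m⁻¹ * z * m = z := by
      have := h.yz
      calc m⁻¹ * z * m = m⁻¹ * (z * m) := by group
        _ = z := by rw [← this]; group
    have hinv : m⁻¹ * r * m = r ∨ m⁻¹ * r * m = r * z := by
      rcases h.mR r hr with h1 | h1
      · left
        calc m⁻¹ * r * m = m⁻¹ * (m * r * m⁻¹) * m := by rw [h1]
          _ = r := by group
      · right
        have h2 : r = m⁻¹ * r * m * z := by
          calc r = m⁻¹ * (m * r * m⁻¹) * m := by group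
            _ = m⁻¹ * r * m * (m⁻¹ * z * m) := by rw [h1]; group
            _ = _ := by rw [mz]
        calc m⁻¹ * r * m = m⁻¹ * r * m * z * z := by rw [mul_assoc _ z z, L.zz, mul_one]
          _ = r * z := by rw [← h2]
    have e1 : g * r * g⁻¹ = m⁻¹ * (m' * r * m'⁻¹) * m := by rw [hg]; group
    rw [e1]
    rcases h'.mR r hr with h1 | h1 <;> rw [h1]
    · exact hinv
    · have e2 : m⁻¹ * (r * z) * m = (m⁻¹ * r * m) * (m⁻¹ * z * m) := by group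
      rw [e2, mz]
      rcases hinv with h3 | h3 <;> rw [h3]
      · exact Or.inr rfl
      · left; rw [mul_assoc, L.zz, mul_one]
  have fin : ∀ k ∈ K, (∀ e ∈ E, k * e = e * k) → (∀ r ∈ R, k * r * k⁻¹ = r ∨ k * r * k⁻¹ = r * z) → k ∈ E := by
    intro k hk h1 h2
    apply L.BE k ((L.cenE k hk).2 h1)
    intro r hr
    rcases h2 r hr with h3 | h3 <;> rw [h3]
    · left; group
    · right; rw [L.Rz hr]; group
  rcases H.cen g gt with h1 | h1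
  · exact ⟨1, g, Or.inl rfl, fin g h1 gE gR, by rw [hg]; group⟩
  · refine ⟨t, t * g, Or.inr rfl, fin _ h1 ?_ ?_, ?_⟩
    · intro e he
      calc t * g * e = t * (g * e) := by group
        _ = (t * e) * g := by rw [gE e he]; group
        _ = e * (t * g) := by rw [← H.comm e (L.EK he)]; group
    · intro r hr
      have e1 : t * g * r * (t * g)⁻¹ = t * (g * r * g⁻¹) * t⁻¹ := by group
      rw [e1]
      have hrt := H.comm r (L.RK hr)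
      rcases gR r hr with h3 | h3 <;> rw [h3]
      · left; rw [← hrt]; group
      · right
        calc t * (r * z) * t⁻¹ = (t * r) * z * t⁻¹ := by group
          _ = r * (t * z) * t⁻¹ := by rw [← hrt]; group
          _ = r * z := by rw [← H.tz L]; group
    · calc m' = m * g := by rw [hg]; group
        _ = m * (t * t) * g := by rw [H.tt, mul_one]
        _ = m * t * (t * g) := by group

/-- `[m, r] ∈ ⟨z⟩` for `r ∈ R`, in the form `m r m⁻¹ = r w` -/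
theorem exists_w (h : MM t z R E m) {r : G} (hr : r ∈ R) : ∃ w : G, (w = 1 ∨ w = z) ∧ m * r * m⁻¹ = r * w := by
  rcases h.mR r hr with h1 | h1
  · exact ⟨1, Or.inl rfl, by rw [h1, mul_one]⟩
  · exact ⟨z, Or.inr rfl, h1⟩

end MM

/-- **`m` can be chosen commuting with `ρ`** -/
theorem exists_rho (H : Pos t K) (L : Loc K z P₀ R B E) {m ρ : G} (h : MM t z R E m) (hρ : ρ ∈ P₀)
    (ρ3 : ρ * ρ * ρ = 1) : ∃ m, MM t z R E m ∧ m * ρ = ρ * m := by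
  set x := m⁻¹ * ρ * m * ρ⁻¹ with hx
  have hi : YY t z m⁻¹ := h.toYY.inv L.zz
  have hxE : x ∈ E := by
    have h1 := hi.comm_E H L (fun e he => h.inv_E he) hρ
    rwa [inv_inv] at h1
  have nE : ∀ e ∈ E, ρ * e * ρ⁻¹ ∈ E := L.cen_E (L.PK hρ) (L.Pz ρ hρ)
  -- `x x^ρ x^{ρρ} = 1`
  have hN : x * (ρ * x * ρ⁻¹) * (ρ * (ρ * x * ρ⁻¹) * ρ⁻¹) = 1 := by
    have e1 : x * (ρ * x * ρ⁻¹) * (ρ * (ρ * x * ρ⁻¹) * ρ⁻¹) = m⁻¹ * (ρ * ρ * ρ) * m * (ρ * ρ * ρ)⁻¹ := by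
      rw [hx]; group
    rw [e1, ρ3]; group
  have x1 : ρ * x * ρ⁻¹ ∈ E := nE x hxE
  have x2 : ρ * (ρ * x * ρ⁻¹) * ρ⁻¹ ∈ E := nE _ x1
  refine ⟨m * (ρ * x * ρ⁻¹), h.mul_E H L x1, ?_⟩
  have h2 : x * (ρ * (ρ * x * ρ⁻¹) * ρ⁻¹) = ρ * x * ρ⁻¹ := by
    have e2 : x * (ρ * x * ρ⁻¹) * (ρ * (ρ * x * ρ⁻¹) * ρ⁻¹) =
        (ρ * x * ρ⁻¹) * (x * (ρ * (ρ * x * ρ⁻¹) * ρ⁻¹)) := by
      rw [L.Eab hxE x1]; group
    rw [e2] at hN
    have := (inv_eq_of_mul_eq_one_right hN).symm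
    rw [this, L.Einv x1]
  have h3 : ρ * (m * (ρ * x * ρ⁻¹)) * ρ⁻¹ = m * (ρ * x * ρ⁻¹) := by
    calc ρ * (m * (ρ * x * ρ⁻¹)) * ρ⁻¹ = m * (x * (ρ * (ρ * x * ρ⁻¹) * ρ⁻¹)) := by rw [hx]; group
      _ = m * (ρ * x * ρ⁻¹) := by rw [h2]
  calc m * (ρ * x * ρ⁻¹) * ρ = ρ * (m * (ρ * x * ρ⁻¹)) * ρ⁻¹ * ρ := by rw [h3]
    _ = ρ * (m * (ρ * x * ρ⁻¹)) := by group

/-- the closure of three commuting involutions -/
theorem mem_closure_three {a b c x : G} (ha : a * a = 1) (hb : b * b = 1) (hc : c * c = 1) (hab : a * b = b * a)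
    (hac : a * c = c * a) (hbc : b * c = c * b) (hx : x ∈ closure ({a, b, c} : Set G)) :
    ∃ p q r : G, (p = 1 ∨ p = a) ∧ (q = 1 ∨ q = b) ∧ (r = 1 ∨ r = c) ∧ x = p * q * r := by
  induction hx using closure_induction with
  | mem y hy =>
    rcases hy with rfl | rfl | rfl
    · exact ⟨y, 1, 1, Or.inr rfl, Or.inl rfl, Or.inl rfl, by group⟩
    · exact ⟨1, y, 1, Or.inl rfl, Or.inr rfl, Or.inl rfl, by group⟩
    · exact ⟨1, 1, y, Or.inl rfl, Or.inl rfl, Or.inr rfl, by group⟩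
  | one => exact ⟨1, 1, 1, Or.inl rfl, Or.inl rfl, Or.inl rfl, by group⟩
  | mul x y _ _ h1 h2 =>
    obtain ⟨p, q, r, hp, hq, hr, rfl⟩ := h1
    obtain ⟨p', q', r', hp', hq', hr', rfl⟩ := h2
    have k1 : ∀ {a p p' : G}, a * a = 1 → (p = 1 ∨ p = a) → (p' = 1 ∨ p' = a) → (p * p' = 1 ∨ p * p' = a) := by
      rintro a p p' ha (rfl | rfl) (rfl | rfl)
      · left; group
      · right; group
      · right; group
      · left; exact ha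
    have k2 : ∀ {a b p q : G}, a * b = b * a → (p = 1 ∨ p = a) → (q = 1 ∨ q = b) → p * q = q * p := by
      rintro a b p q hab (rfl | rfl) (rfl | rfl)
      · rfl
      · group
      · group
      · exact hab
    refine ⟨p * p', q * q', r * r', k1 ha hp hp', k1 hb hq hq', k1 hc hr hr', ?_⟩
    have c1 : r * p' = p' * r := (k2 hac hp' hr).symm
    have c2 : r * q' = q' * r := (k2 hbc hq' hr).symm
    have c3 : q * p' = p' * q := (k2 hab hp' hq).symm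
    calc p * q * r * (p' * q' * r') = p * q * (r * p') * q' * r' := by group
      _ = p * (q * p') * (r * q') * r' := by rw [c1]; group
      _ = p * p' * q * q' * r * r' := by rw [c3, c2]; group
      _ = _ := by group
  | inv x _ h1 =>
    obtain ⟨p, q, r, hp, hq, hr, rfl⟩ := h1
    have k2 : ∀ {a b p q : G}, a * b = b * a → (p = 1 ∨ p = a) → (q = 1 ∨ q = b) → p * q = q * p := by
      rintro a b p q hab (rfl | rfl) (rfl | rfl)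
      · rfl
      · group
      · group
      · exact hab
    have k3 : ∀ {a p : G}, a * a = 1 → (p = 1 ∨ p = a) → p⁻¹ = p := by
      rintro a p ha (rfl | rfl)
      · exact inv_one
      · exact inv_eq_of_mul_eq_one_right ha
    refine ⟨p, q, r, hp, hq, hr, ?_⟩
    rw [mul_inv_rev, mul_inv_rev, k3 ha hp, k3 hb hq, k3 hc hr]
    have c1 : r * p = p * r := (k2 hac hp hr).symm
    have c2 : r * q = q * r := (k2 hbc hq hr).symm
    have c3 : q * p = p * q := (k2 hab hp hq).symm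
    calc r * (q * p) = r * (p * q) := by rw [c3]
      _ = (r * p) * q := by group
      _ = p * (r * q) := by rw [c1]; group
      _ = p * q * r := by rw [c2]; group

namespace Plane

variable {k u ρ g j e₀ e₁ g₂ eb j₂ x₂ h f : G}

theorem u1 (L : Loc K z P₀ R B E) (Q : Plane K z P₀ R B E k u ρ g j e₀ e₁ g₂ eb j₂ x₂ h f) : u ≠ 1 := by
  intro e
  apply L.z1
  calc z = k⁻¹ * (k * z * k⁻¹) * k := by group
    _ = 1 := by rw [Q.ku, e]; group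

theorem uEu' (L : Loc K z P₀ R B E) (Q : Plane K z P₀ R B E k u ρ g j e₀ e₁ g₂ eb j₂ x₂ h f) :
    k⁻¹ * u * k ∈ E := by
  have e : k⁻¹ * u * k = z := by rw [← Q.ku]; group
  rw [e]
  exact L.zE

theorem ρE' (L : Loc K z P₀ R B E) (Q : Plane K z P₀ R B E k u ρ g j e₀ e₁ g₂ eb j₂ x₂ h f) {e : G} (he : e ∈ E) :
    ρ * e * ρ⁻¹ ∈ E := L.cen_E (L.PK Q.ρP) (L.Pz ρ Q.ρP) e he

theorem u'E (L : Loc K z P₀ R B E) (Q : Plane K z P₀ R B E k u ρ g j e₀ e₁ g₂ eb j₂ x₂ h f) :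
    ρ * u * ρ⁻¹ ∈ E := Q.ρE' L Q.uE

/-- `E^k` is abelian -/
theorem Eu_comm (L : Loc K z P₀ R B E) {x y : G} (hx : k⁻¹ * x * k ∈ E) (hy : k⁻¹ * y * k ∈ E) : x * y = y * x := by
  have := conj_comm (x := k) (L.Eab hx hy)
  have e1 : k * (k⁻¹ * x * k) * k⁻¹ = x := by group
  have e2 : k * (k⁻¹ * y * k) * k⁻¹ = y := by group
  rwa [e1, e2] at this

/-- `Π` -/
abbrev Pi (z u ρ : G) : Subgroup G := closure ({z, u, ρ * u * ρ⁻¹} : Set G)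

theorem Pi_E (L : Loc K z P₀ R B E) (Q : Plane K z P₀ R B E k u ρ g j e₀ e₁ g₂ eb j₂ x₂ h f) : Pi z u ρ ≤ E := by
  rw [closure_le]
  rintro x (rfl | rfl | rfl)
  exacts [L.zE, Q.uE, Q.u'E L]

theorem Pi_Eu (L : Loc K z P₀ R B E) (Q : Plane K z P₀ R B E k u ρ g j e₀ e₁ g₂ eb j₂ x₂ h f) {x : G}
    (hx : x ∈ Pi z u ρ) : k⁻¹ * x * k ∈ E := by
  have h1 : Pi z u ρ ≤ E.comap (MulAut.conj k⁻¹).toMonoidHom := by
    rw [closure_le]
    rintro x (rfl | rfl | rfl)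
    · show k⁻¹ * x * k⁻¹⁻¹ ∈ E
      rw [inv_inv]; exact Q.zEu
    · show k⁻¹ * x * k⁻¹⁻¹ ∈ E
      rw [inv_inv]; exact Q.uEu' L
    · show k⁻¹ * (ρ * u * ρ⁻¹) * k⁻¹⁻¹ ∈ E
      rw [inv_inv]; exact Q.uEu
  have h2 : k⁻¹ * x * k⁻¹⁻¹ ∈ E := h1 hx
  rwa [inv_inv] at h2

/-- `u^{ρρ} = u u^ρ` -/
theorem u'' (L : Loc K z P₀ R B E) (Q : Plane K z P₀ R B E k u ρ g j e₀ e₁ g₂ eb j₂ x₂ h f) :
    ρ * ρ * u * ρ⁻¹ * ρ⁻¹ = u * (ρ * u * ρ⁻¹) := by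
  have h1 := (inv_eq_of_mul_eq_one_right Q.ρu).symm
  rw [h1, L.Einv (mul_mem Q.uE (Q.u'E L))]

theorem Pi_ρ (L : Loc K z P₀ R B E) (Q : Plane K z P₀ R B E k u ρ g j e₀ e₁ g₂ eb j₂ x₂ h f) {x : G}
    (hx : x ∈ Pi z u ρ) : ρ * x * ρ⁻¹ ∈ Pi z u ρ := by
  have hz : z ∈ Pi z u ρ := subset_closure (by simp)
  have hu : u ∈ Pi z u ρ := subset_closure (by simp)
  have hu' : ρ * u * ρ⁻¹ ∈ Pi z u ρ := subset_closure (by simp)
  have h1 : Pi z u ρ ≤ (Pi z u ρ).comap (MulAut.conj ρ).toMonoidHom := by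
    rw [closure_le]
    rintro x (rfl | rfl | rfl)
    · show ρ * x * ρ⁻¹ ∈ Pi x u ρ
      rw [L.Pz ρ Q.ρP]
      have e : x * ρ * ρ⁻¹ = x := by group
      rw [e]; exact hz
    · exact hu'
    · show ρ * (ρ * u * ρ⁻¹) * ρ⁻¹ ∈ Pi z u ρ
      have e : ρ * (ρ * u * ρ⁻¹) * ρ⁻¹ = ρ * ρ * u * ρ⁻¹ * ρ⁻¹ := by group
      rw [e, Q.u'' L]
      exact mul_mem hu hu'
  exact h1 hx

/-- the elements of `Π` -/
theorem Pi_cases (L : Loc K z P₀ R B E) (Q : Plane K z P₀ R B E k u ρ g j e₀ e₁ g₂ eb j₂ x₂ h f) {x : G}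
    (hx : x ∈ Pi z u ρ) : ∃ p q r : G, (p = 1 ∨ p = z) ∧ (q = 1 ∨ q = u) ∧ (r = 1 ∨ r = ρ * u * ρ⁻¹) ∧
      x = p * q * r :=
  mem_closure_three L.zz (L.EE u Q.uE) (L.EE _ (Q.u'E L)) (L.Eab L.zE Q.uE) (L.Eab L.zE (Q.u'E L))
    (L.Eab Q.uE (Q.u'E L)) hx

/-- an element of `Π` fixed by `g` and of norm 1 is 1 or `u` -/
theorem Pi_fix (L : Loc K z P₀ R B E) (Q : Plane K z P₀ R B E k u ρ g j e₀ e₁ g₂ eb j₂ x₂ h f) {x : G}
    (hx : x ∈ Pi z u ρ) (hg : g * x * g⁻¹ = x) (hN : x * (ρ * x * ρ⁻¹) * (ρ * ρ * x * ρ⁻¹ * ρ⁻¹) = 1) :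
    x = 1 ∨ x = u := by
  obtain ⟨p, q, r, hp, hq, hr, rfl⟩ := Q.Pi_cases L hx
  have hu1 := Q.u1 L
  have gu' : g * (ρ * u * ρ⁻¹) * g⁻¹ = u * (ρ * u * ρ⁻¹) := by
    have h1 : g * u * g⁻¹ = u := by rw [Q.gu]; group
    have hρi : ρ⁻¹ = ρ * ρ := by
      rw [inv_eq_iff_mul_eq_one, ← mul_assoc]; exact Q.ρ3
    have h2 : g * ρ⁻¹ * g⁻¹ = ρ := by
      have : g * ρ⁻¹ * g⁻¹ = (g * ρ * g⁻¹)⁻¹ := by group
      rw [this, Q.gρ, inv_inv]
    calc g * (ρ * u * ρ⁻¹) * g⁻¹ = (g * ρ * g⁻¹) * (g * u * g⁻¹) * (g * ρ⁻¹ * g⁻¹) := by group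
      _ = ρ⁻¹ * u * ρ := by rw [Q.gρ, h1, h2]
      _ = ρ * ρ * u * ρ⁻¹ * ρ⁻¹ := by
          have h3 : ρ = ρ⁻¹ * ρ⁻¹ := by
            have := congrArg (·⁻¹) hρi
            simp only [inv_inv, mul_inv_rev] at this
            exact this
          calc ρ⁻¹ * u * ρ = (ρ * ρ) * u * (ρ⁻¹ * ρ⁻¹) := by rw [← hρi, ← h3]
            _ = _ := by group
      _ = _ := Q.u'' L
  have hpE : p ∈ E := by rcases hp with rfl | rfl; exacts [one_mem _, L.zE]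
  have hqE : q ∈ E := by rcases hq with rfl | rfl; exacts [one_mem _, Q.uE]
  have gp : g * p * g⁻¹ = p := by
    rcases hp with rfl | rfl
    · group
    · rw [Q.gz]; group
  have gq : g * q * g⁻¹ = q := by
    rcases hq with rfl | rfl
    · group
    · rw [Q.gu]; group
  have hr1 : r = 1 := by
    rcases hr with rfl | rfl
    · rfl
    · exfalso
      apply hu1
      have h1 : g * (p * q * (ρ * u * ρ⁻¹)) * g⁻¹ = (g * p * g⁻¹) * (g * q * g⁻¹) * (g * (ρ * u * ρ⁻¹) * g⁻¹) := by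
        group
      rw [h1, gp, gq, gu'] at hg
      have h2 : p * q * (u * (ρ * u * ρ⁻¹)) = p * q * (ρ * u * ρ⁻¹) := hg
      have h3 := mul_left_cancel h2
      have h4 : u * (ρ * u * ρ⁻¹) = 1 * (ρ * u * ρ⁻¹) := by rw [h3, one_mul]
      exact mul_right_cancel h4
  subst hr1
  rw [mul_one] at hN ⊢
  have hp1 : p = 1 := by
    rcases hp with rfl | rfl
    · rfl
    · exfalso
      apply L.z1
      have ρp : ∀ y : G, ρ * (p * y) * ρ⁻¹ = p * (ρ * y * ρ⁻¹) := by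
        intro y
        calc ρ * (p * y) * ρ⁻¹ = (ρ * p) * y * ρ⁻¹ := by group
          _ = _ := by rw [L.Pz ρ Q.ρP]; group
      have ρρp : ∀ y : G, ρ * ρ * (p * y) * ρ⁻¹ * ρ⁻¹ = p * (ρ * ρ * y * ρ⁻¹ * ρ⁻¹) := by
        intro y
        calc ρ * ρ * (p * y) * ρ⁻¹ * ρ⁻¹ = ρ * (ρ * (p * y) * ρ⁻¹) * ρ⁻¹ := by group
          _ = _ := by rw [ρp, ρp]; group
      rw [ρp, ρρp] at hN
      have q1 : ρ * q * ρ⁻¹ ∈ E := Q.ρE' L hqE
      have q2 : ρ * ρ * q * ρ⁻¹ * ρ⁻¹ ∈ E := by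
        have := Q.ρE' L q1
        have e : ρ * (ρ * q * ρ⁻¹) * ρ⁻¹ = ρ * ρ * q * ρ⁻¹ * ρ⁻¹ := by group
        rwa [e] at this
      have hq3 : q * (ρ * q * ρ⁻¹) * (ρ * ρ * q * ρ⁻¹ * ρ⁻¹) = 1 := by
        rcases hq with rfl | rfl
        · group
        · exact Q.ρu
      have e1 : p * q * (p * (ρ * q * ρ⁻¹)) * (p * (ρ * ρ * q * ρ⁻¹ * ρ⁻¹)) =
          p * p * p * (q * (ρ * q * ρ⁻¹) * (ρ * ρ * q * ρ⁻¹ * ρ⁻¹)) := by
        have c1 := L.Eab hpE hqE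
        have c2 := L.Eab hpE q1
        set a' := ρ * q * ρ⁻¹
        set b' := ρ * ρ * q * ρ⁻¹ * ρ⁻¹
        calc p * q * (p * a') * (p * b') = p * q * p * (a' * p) * b' := by group
          _ = p * q * p * (p * a') * b' := by rw [c2]
          _ = p * (q * p) * p * a' * b' := by group
          _ = p * (p * q) * p * a' * b' := by rw [c1]
          _ = p * p * (q * p) * a' * b' := by group
          _ = p * p * (p * q) * a' * b' := by rw [c1]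
          _ = _ := by group
      rw [e1, hq3, mul_one, L.zz, one_mul] at hN
      exact hN
  subst hp1
  rw [one_mul]
  exact hq

variable {m : G}

/-- `m^g` acts on `P₀` as `m` -/
theorem act_g (H : Pos t K) (L : Loc K z P₀ R B E) (Q : Plane K z P₀ R B E k u ρ g j e₀ e₁ g₂ eb j₂ x₂ h f)
    (M : MM t z R E m) (hρ : m * ρ = ρ * m) {x : G} (hx : x ∈ P₀) :
    g * m * g⁻¹ * x * (g * m * g⁻¹)⁻¹ = m * x * m⁻¹ := by
  obtain ⟨c, e, hc, he, hm⟩ := M.diff (M.conj H L Q.gK Q.gz) H L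
  have hcx : ∀ y ∈ K, c * y = y * c := by
    intro y hy
    rcases hc with rfl | rfl
    · group
    · exact (H.comm y hy).symm
  have h1 : g * m * g⁻¹ * ρ = ρ * (g * m * g⁻¹) := by
    have h2 := conj_comm (x := g) hρ
    rw [Q.gρ] at h2
    calc g * m * g⁻¹ * ρ = ρ * (ρ⁻¹ * (g * m * g⁻¹)) * ρ := by group
      _ = ρ * (g * m * g⁻¹ * ρ⁻¹) * ρ := by rw [h2]
      _ = ρ * (g * m * g⁻¹) := by group
  have hρe : ρ * e = e * ρ := by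
    have e1 : e = (m * c)⁻¹ * (g * m * g⁻¹) := by rw [hm]; group
    have h3 : m * c * ρ = ρ * (m * c) := by
      calc m * c * ρ = m * (c * ρ) := by group
        _ = (m * ρ) * c := by rw [hcx ρ (L.PK Q.ρP)]; group
        _ = ρ * (m * c) := by rw [hρ]; group
    have h4 : (m * c)⁻¹ * ρ = ρ * (m * c)⁻¹ := by
      calc (m * c)⁻¹ * ρ = (m * c)⁻¹ * (ρ * (m * c)) * (m * c)⁻¹ := by group
        _ = ρ * (m * c)⁻¹ := by rw [← h3]; group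
    rw [e1]
    calc ρ * ((m * c)⁻¹ * (g * m * g⁻¹)) = (ρ * (m * c)⁻¹) * (g * m * g⁻¹) := by group
      _ = (m * c)⁻¹ * (ρ * (g * m * g⁻¹)) := by rw [← h4]; group
      _ = (m * c)⁻¹ * (g * m * g⁻¹) * ρ := by rw [← h1]; group
  have hex : e * x = x * e := by
    rcases Q.ρE e he hρe with rfl | rfl
    · group
    · exact (L.Pz x hx).symm
  rw [hm]
  calc m * c * e * x * (m * c * e)⁻¹ = m * c * (e * x) * e⁻¹ * c⁻¹ * m⁻¹ := by group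
    _ = m * (c * x) * c⁻¹ * m⁻¹ := by rw [hex]; group
    _ = m * x * m⁻¹ := by rw [hcx x (L.PK hx)]; group

/-- `w ∈ {1, z}` is central in `P₀` -/
theorem _root_.Cfsg.Agent.OddHalf.D8.RuFam.Loc.wc (L : Loc K z P₀ R B E) {w x : G} (hw : w = 1 ∨ w = z)
    (hx : x ∈ P₀) : w * x = x * w := by
  rcases hw with rfl | rfl
  · group
  · exact (L.Pz x hx).symm

theorem _root_.Cfsg.Agent.OddHalf.D8.RuFam.Loc.ww (L : Loc K z P₀ R B E) {w : G} (hw : w = 1 ∨ w = z) :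
    w * w = 1 := by
  rcases hw with rfl | rfl
  · exact mul_one _
  · exact L.zz

/-- conjugation by `ρ` commutes with conjugation by `m` -/
theorem conj_ρ (hρ : m * ρ = ρ * m) (x : G) : m * (ρ * x * ρ⁻¹) * m⁻¹ = ρ * (m * x * m⁻¹) * ρ⁻¹ := by
  calc m * (ρ * x * ρ⁻¹) * m⁻¹ = (m * ρ) * x * (m * ρ)⁻¹ := by group
    _ = (ρ * m) * x * (ρ * m)⁻¹ := by rw [hρ]
    _ = _ := by group

/-- **`[m, e₁] ∈ {1, u}`** -/
theorem zeta (H : Pos t K) (L : Loc K z P₀ R B E) (Q : Plane K z P₀ R B E k u ρ g j e₀ e₁ g₂ eb j₂ x₂ h f)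
    (M : MM t z R E m) (hρ : m * ρ = ρ * m) : ∃ ζ : G, (ζ = 1 ∨ ζ = u) ∧ m * e₁ * m⁻¹ = ζ * e₁ := by
  set ζ := m * e₁ * m⁻¹ * e₁⁻¹ with hζ
  have hζE : ζ ∈ E := M.comm_E H L Q.e₁P
  have hme : m * e₁ * m⁻¹ = ζ * e₁ := by rw [hζ]; group
  refine ⟨ζ, ?_, hme⟩
  have hζP : ζ ∈ P₀ := L.EP hζE
  -- `ζ ∈ Π`
  have hPi : ζ ∈ Pi z u ρ := by
    refine Q.test ζ hζE fun c hc hs => ?_
    obtain ⟨w, hw, hcw⟩ := M.exists_w hc
    set s := e₁ * c * e₁⁻¹ * c⁻¹ with hs'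
    have h1 : m * s * m⁻¹ = s := by rw [M.mE s hs]; group
    have h2 : m * s * m⁻¹ = (m * e₁ * m⁻¹) * (m * c * m⁻¹) * (m * e₁ * m⁻¹)⁻¹ * (m * c * m⁻¹)⁻¹ := by
      rw [hs']; group
    rw [hme, hcw] at h2
    have hwx : w * (e₁⁻¹ * ζ⁻¹) = (e₁⁻¹ * ζ⁻¹) * w := L.wc hw (mul_mem (inv_mem Q.e₁P) (inv_mem hζP))
    have h3 : ζ * e₁ * (c * w) * (ζ * e₁)⁻¹ * (c * w)⁻¹ = s * (ζ * c * ζ⁻¹ * c⁻¹) := by
      calc ζ * e₁ * (c * w) * (ζ * e₁)⁻¹ * (c * w)⁻¹ = ζ * e₁ * c * (w * (e₁⁻¹ * ζ⁻¹)) * w⁻¹ * c⁻¹ := by group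
        _ = ζ * (e₁ * c * e₁⁻¹ * c⁻¹) * c * ζ⁻¹ * c⁻¹ := by rw [hwx]; group
        _ = (ζ * s) * c * ζ⁻¹ * c⁻¹ := by rw [hs']
        _ = s * (ζ * c * ζ⁻¹ * c⁻¹) := by rw [L.Eab hζE hs]; group
    rw [h1, h3] at h2
    have h4 : s * 1 = s * (ζ * c * ζ⁻¹ * c⁻¹) := by rw [mul_one]; exact h2
    have h5 := (mul_left_cancel h4).symm
    rw [← mul_inv_eq_iff_eq_mul]
    exact mul_inv_eq_one.1 h5
  -- `g` fixes `ζ`
  have hg : g * ζ * g⁻¹ = ζ := by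
    have h1 : g * e₁ * g⁻¹ ∈ P₀ := L.nor_cen Q.gK Q.gz e₁ Q.e₁P
    set s := g * e₁ * g⁻¹ * e₁⁻¹ with hs
    have hsE : s ∈ E := Q.ge₁
    have hse : g * e₁ * g⁻¹ = s * e₁ := by rw [hs]; group
    have h2 : g * ζ * g⁻¹ = (g * m * g⁻¹ * (g * e₁ * g⁻¹) * (g * m * g⁻¹)⁻¹) * (g * e₁ * g⁻¹)⁻¹ := by
      rw [hζ]; group
    rw [h2, Q.act_g H L M hρ h1, hse]
    calc m * (s * e₁) * m⁻¹ * (s * e₁)⁻¹ = (m * s) * e₁ * m⁻¹ * e₁⁻¹ * s⁻¹ := by group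
      _ = s * ζ * s⁻¹ := by rw [M.mE s hsE, hζ]; group
      _ = ζ := by rw [L.Eab hsE hζE]; group
  -- the norm of `ζ`
  have hN : ζ * (ρ * ζ * ρ⁻¹) * (ρ * ρ * ζ * ρ⁻¹ * ρ⁻¹) = 1 := by
    have h1 := M.mE _ Q.N₁
    set N := e₁ * (ρ * e₁ * ρ⁻¹) * (ρ * ρ * e₁ * ρ⁻¹ * ρ⁻¹) with hN'
    have h2 : m * N * m⁻¹ = N := by rw [h1]; group
    have hPi1 : ρ * ζ * ρ⁻¹ ∈ Pi z u ρ := Q.Pi_ρ L hPi
    have hPi2 : ρ * (ρ * ζ * ρ⁻¹) * ρ⁻¹ ∈ Pi z u ρ := Q.Pi_ρ L hPi1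
    have k1 : m * (ρ * e₁ * ρ⁻¹) * m⁻¹ = (ρ * ζ * ρ⁻¹) * (ρ * e₁ * ρ⁻¹) := by
      rw [conj_ρ hρ, hme]; group
    have k2 : m * (ρ * (ρ * e₁ * ρ⁻¹) * ρ⁻¹) * m⁻¹ = (ρ * (ρ * ζ * ρ⁻¹) * ρ⁻¹) * (ρ * (ρ * e₁ * ρ⁻¹) * ρ⁻¹) := by
      rw [conj_ρ hρ, k1]; group
    have c1 : e₁ * (ρ * ζ * ρ⁻¹) = (ρ * ζ * ρ⁻¹) * e₁ := Eu_comm L Q.e₁E (Q.Pi_Eu L hPi1)
    have c2 : e₁ * (ρ * (ρ * ζ * ρ⁻¹) * ρ⁻¹) = (ρ * (ρ * ζ * ρ⁻¹) * ρ⁻¹) * e₁ :=
      Eu_comm L Q.e₁E (Q.Pi_Eu L hPi2)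
    have c3 := conj_comm (x := ρ) c1
    have h3 : m * N * m⁻¹ = (m * e₁ * m⁻¹) * (m * (ρ * e₁ * ρ⁻¹) * m⁻¹) *
        (m * (ρ * (ρ * e₁ * ρ⁻¹) * ρ⁻¹) * m⁻¹) := by rw [hN']; group
    rw [hme, k1, k2] at h3
    set a₁ := ρ * ζ * ρ⁻¹
    set a₂ := ρ * a₁ * ρ⁻¹
    set b₁ := ρ * e₁ * ρ⁻¹
    set b₂ := ρ * b₁ * ρ⁻¹
    have h4 : ζ * e₁ * (a₁ * b₁) * (a₂ * b₂) = ζ * a₁ * a₂ * (e₁ * b₁ * b₂) := by
      calc ζ * e₁ * (a₁ * b₁) * (a₂ * b₂) = ζ * (e₁ * a₁) * (b₁ * a₂) * b₂ := by group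
        _ = ζ * (a₁ * e₁) * (a₂ * b₁) * b₂ := by rw [c1, c3]
        _ = ζ * a₁ * (e₁ * a₂) * b₁ * b₂ := by group
        _ = ζ * a₁ * (a₂ * e₁) * b₁ * b₂ := by rw [c2]
        _ = _ := by group
    have h5 : e₁ * b₁ * b₂ = N := by
      show e₁ * b₁ * (ρ * (ρ * e₁ * ρ⁻¹) * ρ⁻¹) = N
      rw [hN']; group
    rw [h4, h5, h2] at h3
    have h6 : 1 * N = ζ * a₁ * a₂ * N := by rw [one_mul]; exact h3
    have h7 := (mul_right_cancel h6).symm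
    have h8 : a₂ = ρ * ρ * ζ * ρ⁻¹ * ρ⁻¹ := by
      show ρ * (ρ * ζ * ρ⁻¹) * ρ⁻¹ = _
      group
    rw [← h8]
    exact h7
  exact Q.Pi_fix L hPi hg hN

/-- conjugation of `g j g⁻¹` by `m` -/
theorem conj_gj (H : Pos t K) (L : Loc K z P₀ R B E)
    (Q : Plane K z P₀ R B E k u ρ g j e₀ e₁ g₂ eb j₂ x₂ h f) (M : MM t z R E m) (hρ : m * ρ = ρ * m) {w : G}
    (hw : w = 1 ∨ w = z) (hj : m * j * m⁻¹ = j * w) : m * (g * j * g⁻¹) * m⁻¹ = g * j * g⁻¹ * w := by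
  have h1 : g * j * g⁻¹ ∈ P₀ := L.nor_cen Q.gK Q.gz j (L.BP₀ Q.jB)
  rw [← Q.act_g H L M hρ h1]
  have gw : g * w * g⁻¹ = w := by
    rcases hw with rfl | rfl
    · group
    · rw [Q.gz]; group
  calc g * m * g⁻¹ * (g * j * g⁻¹) * (g * m * g⁻¹)⁻¹ = g * (m * j * m⁻¹) * g⁻¹ := by group
    _ = g * j * g⁻¹ * (g * w * g⁻¹) := by rw [hj]; group
    _ = _ := by rw [gw]

/-- **`[m, e₀] = 1`** -/
theorem comm_e₀ (H : Pos t K) (L : Loc K z P₀ R B E)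
    (Q : Plane K z P₀ R B E k u ρ g j e₀ e₁ g₂ eb j₂ x₂ h f) (M : MM t z R E m) (hρ : m * ρ = ρ * m) :
    m * e₀ * m⁻¹ = e₀ := by
  obtain ⟨w, hw, h0⟩ := M.exists_w Q.e₀R
  obtain ⟨v, hv, hj⟩ := M.exists_w (L.BR Q.jB)
  have hgj := Q.conj_gj H L M hρ hv hj
  have hx := M.mE _ Q.N₀
  set N := e₀ * (ρ * e₀ * ρ⁻¹) * (ρ * ρ * e₀ * ρ⁻¹ * ρ⁻¹) with hN
  set x := N * (j * (g * j * g⁻¹))⁻¹ with hx'
  have hNx : N = x * (j * (g * j * g⁻¹)) := by rw [hx']; group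
  have hgjP : g * j * g⁻¹ ∈ P₀ := L.nor_cen Q.gK Q.gz j (L.BP₀ Q.jB)
  have h1 : m * N * m⁻¹ = N := by
    have e1 : m * N * m⁻¹ = (m * x * m⁻¹) * (m * j * m⁻¹) * (m * (g * j * g⁻¹) * m⁻¹) := by rw [hNx]; group
    have e2 : m * x * m⁻¹ = x := by rw [hx]; group
    rw [e1, e2, hj, hgj]
    calc x * (j * v) * (g * j * g⁻¹ * v) = x * j * (v * (g * j * g⁻¹)) * v := by group
      _ = x * j * (g * j * g⁻¹) * (v * v) := by rw [L.wc hv hgjP]; group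
      _ = N := by rw [L.ww hv, hNx]; group
  have hρw : ρ * w * ρ⁻¹ = w := by
    rw [← L.wc hw Q.ρP]; group
  have k1 : m * (ρ * e₀ * ρ⁻¹) * m⁻¹ = (ρ * e₀ * ρ⁻¹) * w := by
    rw [conj_ρ hρ, h0]
    calc ρ * (e₀ * w) * ρ⁻¹ = ρ * e₀ * ρ⁻¹ * (ρ * w * ρ⁻¹) := by group
      _ = _ := by rw [hρw]
  have k2 : m * (ρ * (ρ * e₀ * ρ⁻¹) * ρ⁻¹) * m⁻¹ = (ρ * (ρ * e₀ * ρ⁻¹) * ρ⁻¹) * w := by
    rw [conj_ρ hρ, k1]
    calc ρ * ((ρ * e₀ * ρ⁻¹) * w) * ρ⁻¹ = ρ * (ρ * e₀ * ρ⁻¹) * ρ⁻¹ * (ρ * w * ρ⁻¹) := by group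
      _ = _ := by rw [hρw]
  have e₀P : e₀ ∈ P₀ := L.RP Q.e₀R
  have a1 : ρ * e₀ * ρ⁻¹ ∈ P₀ := mul_mem (mul_mem Q.ρP e₀P) (inv_mem Q.ρP)
  have a2 : ρ * (ρ * e₀ * ρ⁻¹) * ρ⁻¹ ∈ P₀ := mul_mem (mul_mem Q.ρP a1) (inv_mem Q.ρP)
  have h2 : m * N * m⁻¹ = N * w := by
    have e1 : m * N * m⁻¹ = (m * e₀ * m⁻¹) * (m * (ρ * e₀ * ρ⁻¹) * m⁻¹) *
        (m * (ρ * (ρ * e₀ * ρ⁻¹) * ρ⁻¹) * m⁻¹) := by rw [hN]; group
    rw [e1, h0, k1, k2]
    have hN2 : N = e₀ * (ρ * e₀ * ρ⁻¹) * (ρ * (ρ * e₀ * ρ⁻¹) * ρ⁻¹) := by rw [hN]; group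
    rw [hN2]
    set p := ρ * e₀ * ρ⁻¹
    set q := ρ * p * ρ⁻¹
    calc e₀ * w * (p * w) * (q * w) = e₀ * (w * p) * (w * q) * w := by group
      _ = e₀ * (p * w) * (q * w) * w := by rw [L.wc hw a1, L.wc hw a2]
      _ = e₀ * p * (w * q) * (w * w) := by group
      _ = e₀ * p * (q * w) * (w * w) := by rw [L.wc hw a2]
      _ = e₀ * p * q * w := by rw [L.ww hw]; group
  rw [h1] at h2
  have h3 : N * 1 = N * w := by rw [mul_one]; exact h2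
  rw [h0, ← mul_left_cancel h3, mul_one]

/-- **case `[m, e₁] = 1`**: `m` centralises `B` -/
theorem comm_B (H : Pos t K) (L : Loc K z P₀ R B E)
    (Q : Plane K z P₀ R B E k u ρ g j e₀ e₁ g₂ eb j₂ x₂ h f) (M : MM t z R E m) (hρ : m * ρ = ρ * m)
    (h1 : m * e₁ * m⁻¹ = e₁) : ∀ b ∈ B, m * b = b * m := by
  have h0 := Q.comm_e₀ H L M hρ
  obtain ⟨w, hw, hg₂⟩ := M.exists_w Q.g₂R
  have cm : ∀ {x : G}, m * x * m⁻¹ = x → x * m = m * x := by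
    intro x hx
    rw [← mul_inv_eq_iff_eq_mul.1 (by rw [hx] : m * x * m⁻¹ = x)]
  have e₀P : e₀ ∈ P₀ := L.RP Q.e₀R
  have kρ : ∀ {x : G}, m * x * m⁻¹ = x → m * (ρ * x * ρ⁻¹) * m⁻¹ = ρ * x * ρ⁻¹ := by
    intro x hx
    rw [conj_ρ hρ, hx]
  have kg : ∀ {x : G}, x ∈ P₀ → m * x * m⁻¹ = x → m * (g₂ * x * g₂⁻¹) * m⁻¹ = g₂ * x * g₂⁻¹ := by
    intro x hxP hx
    calc m * (g₂ * x * g₂⁻¹) * m⁻¹ = (m * g₂ * m⁻¹) * (m * x * m⁻¹) * (m * g₂ * m⁻¹)⁻¹ := by group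
      _ = g₂ * (w * x) * w⁻¹ * g₂⁻¹ := by rw [hg₂, hx]; group
      _ = g₂ * x * g₂⁻¹ := by rw [L.wc hw hxP]; group
  have ρP : ∀ {x : G}, x ∈ P₀ → ρ * x * ρ⁻¹ ∈ P₀ := fun hx => mul_mem (mul_mem Q.ρP hx) (inv_mem Q.ρP)
  have hj : j ∈ centralizer ({m} : Set G) := by
    refine (closure_le _).2 ?_ Q.jgen
    rintro x (hx | hx)
    · exact mem_centralizer_singleton_iff.2 (M.mE x hx).symm
    · simp only [Set.mem_insert_iff, Set.mem_singleton_iff] at hx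
      refine mem_centralizer_singleton_iff.2 (cm ?_)
      rcases hx with rfl | rfl | rfl | rfl | rfl | rfl | rfl | rfl
      · exact h0
      · exact h1
      · exact kρ h0
      · exact kρ h1
      · have := kρ (kρ h0)
        have e : ρ * (ρ * e₀ * ρ⁻¹) * ρ⁻¹ = ρ * ρ * e₀ * ρ⁻¹ * ρ⁻¹ := by group
        rwa [e] at this
      · have := kρ (kρ h1)
        have e : ρ * (ρ * e₁ * ρ⁻¹) * ρ⁻¹ = ρ * ρ * e₁ * ρ⁻¹ * ρ⁻¹ := by group
        rwa [e] at this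
      · exact kg (ρP e₀P) (kρ h0)
      · exact kg (ρP Q.e₁P) (kρ h1)
  have hj' := mem_centralizer_singleton_iff.1 hj
  have hj1 : m * j * m⁻¹ = j * 1 := by rw [← hj', mul_one]; group
  have hj2 := Q.conj_gj H L M hρ (Or.inl rfl) hj1
  rw [mul_one] at hj2
  have hj3 := cm hj2
  intro b hb
  have fin : ∀ x : G, x * m = m * x → x⁻¹ * b ∈ E → m * b = b * m := by
    intro x hx hxb
    have e1 : b = x * (x⁻¹ * b) := by group
    have e2 := M.mE _ hxb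
    calc m * b = m * x * (x⁻¹ * b) := by group
      _ = x * (m * (x⁻¹ * b)) := by rw [← hx]; group
      _ = b * m := by rw [e2]; group
  rcases Q.Bj b hb with h4 | h4 | h4 | h4
  · exact M.mE b h4
  · exact fin j hj' h4
  · exact fin _ hj3 h4
  · refine fin _ ?_ h4
    calc j * (g * j * g⁻¹) * m = j * ((g * j * g⁻¹) * m) := by group
      _ = (j * m) * (g * j * g⁻¹) := by rw [hj3]; group
      _ = m * (j * (g * j * g⁻¹)) := by rw [hj']; group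

end Plane

end Cfsg.Agent.OddHalf.D8.RuFam
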