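import Cfsg.Agent.OddHalf.D9.Ru.XLevel
import Cfsg.Agent.OddHalf.D9.Ru.XR

/-!
# Centralisers in `RuOrder.H` by fixed points and adjacencies

`x` commutes with the elements given by the words `ws`; `x p` is fixed by the elements fixing `p` (`mem_fixAll`), and the
adjacencies between `x p` and the images of `x r` are those between `p` and the images of `r` (`testBit_cut`).
-/

set_option autoImplicit false
set_option Elab.async false
set_option maxRecDepth 100000
set_option exponentiation.threshold 5000

namespace Cfsg.Agent.OddHalf.D8.RuFam.TwCut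

open Subgroup Cfsg.Agent.Lib.BitNet Cfsg.Agent.Lib.BitNetSimple Cfsg.Agent.SporadicB Cfsg.Agent.SporadicB.RuData
open Cfsg.Agent.RuD.Letters Cfsg.Agent.RuD.Model Cfsg.Agent.SporRec.TCUpperCert Cfsg.Agent.OddHalf.D9.Ru.XLevel
open Cfsg.Agent.OddHalf.Table

/-- the networks of a word -/
noncomputable def nets (w : List ℕ) : List (List (ℕ × ℕ)) :=
  List.rec [] (fun a _ ih => nthL NL a :: ih) w

theorem appC_nets (w : List ℕ) (i : ℕ) : appC (nets w) i = evalK w i := by
  induction w with
  | nil => rfl
  | cons a w ih =>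
    change app (nthL NL a) (appC (nets w) i) = forceN (evalK w i) (appK (nthL NL a))
    rw [forceN_eq, appK_eq, ih]

theorem valid_nets (w : List ℕ) : ∀ n ∈ nets w, Valid n := by
  induction w with
  | nil => intro n hn; exact absurd hn List.not_mem_nil
  | cons a w ih =>
    intro n hn
    have hn' : n ∈ nthL NL a :: nets w := hn
    rcases List.mem_cons.1 hn' with rfl | h
    · rw [nthL_eq]; exact (okNet_letter a).valid
    · exact ih n h

/-- the points of `M` fixed by the networks -/
noncomputable def cutF (ns : List (List (ℕ × ℕ))) (M : ℕ) (k : ℕ) : ℕ :=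
  Nat.rec M (fun j ih => force ih fun M' => force (idxMask 12 j) fun P =>
    Nat.xor M' (Nat.land M' (Nat.xor P (img ns P)))) k

theorem testBit_cutF {ns : List (List (ℕ × ℕ))} (hv : ∀ n ∈ ns, Valid n) {M : ℕ} {p : Fin 4060}
    (hM : M.testBit p = true) (h : appC ns p = p) : ∀ k, (cutF ns M k).testBit p = true
  | 0 => hM
  | k + 1 => by
    have e : cutF ns M (k + 1) = force (cutF ns M k) (fun M' => force (idxMask 12 k) fun P =>
      Nat.xor M' (Nat.land M' (Nat.xor P (img ns P)))) := rfl
    rw [e, force_eq, force_eq]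
    change (cutF ns M k ^^^ (cutF ns M k &&& (idxMask 12 k ^^^ img ns (idxMask 12 k)))).testBit p = true
    have h1 : (img ns (idxMask 12 k)).testBit p = (idxMask 12 k).testBit p := by
      conv_lhs => rw [← h]
      exact testBit_img _ _ _ hv
    rw [Nat.testBit_xor, Nat.testBit_and, Nat.testBit_xor, h1, testBit_cutF hv hM h k, Bool.xor_self]
    rfl

/-- the points fixed by all the words -/
noncomputable def fixAll (ws : List (List ℕ)) : ℕ :=
  List.rec RuCent.U (fun w _ ih => force ih fun M => cutF (nets w) M 12) ws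

theorem testBit_fixAll {q : Fin 4060} : ∀ {ws : List (List ℕ)}, (∀ w ∈ ws, evalK w q = q) →
    (fixAll ws).testBit q = true
  | [], _ => RuCent.testBit_U q
  | w :: ws, h => by
    have e : fixAll (w :: ws) = force (fixAll ws) (fun M => cutF (nets w) M 12) := rfl
    rw [e, force_eq]
    refine testBit_cutF (valid_nets w) (testBit_fixAll fun w' h' => h w' (List.mem_cons_of_mem _ h')) ?_ 12
    rw [appC_nets]
    exact h w List.mem_cons_self

/-- `x` commutes with the element given by the word `w` -/
def Cm (x : RuOrder.H) (w : List ℕ) : Prop := x * wprod ml w = wprod ml w * x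

theorem Cm.apply {x : RuOrder.H} {w : List ℕ} (h : Cm x w) (i : Fin 4060) :
    (x : Equiv.Perm (Fin 4060)) (((wprod ml w : RuOrder.H) : Equiv.Perm (Fin 4060)) i) =
      ((wprod ml w : RuOrder.H) : Equiv.Perm (Fin 4060)) ((x : Equiv.Perm (Fin 4060)) i) := by
  have h2 : (x * wprod ml w : RuOrder.H).1 i = (wprod ml w * x : RuOrder.H).1 i := by
    have h' : x * wprod ml w = wprod ml w * x := h
    rw [h']
  exact h2

theorem evalK_of_fix {x : RuOrder.H} {w : List ℕ} (h : Cm x w) {p : Fin 4060} (hp : evalK w p = p) :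
    evalK w ((x : Equiv.Perm (Fin 4060)) p) = (x : Equiv.Perm (Fin 4060)) p := by
  rw [← evalK_eq, ← h.apply]
  congr 2
  apply Fin.ext
  rw [evalK_eq, hp]

/-- the images of `p` under elements commuting with `ws` fixing `p` -/
theorem testBit_dom {x : RuOrder.H} {ws : List (List ℕ)} (hc : ∀ w ∈ ws, Cm x w) {p : Fin 4060}
    (hp : ∀ w ∈ ws, evalK w p = p) : (fixAll ws).testBit ((x : Equiv.Perm (Fin 4060)) p) = true :=
  testBit_fixAll fun w hw => evalK_of_fix (hc w hw) (hp w hw)

/-- the points with the same adjacencies to the images of `s` as `p` to the images of `r` -/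
noncomputable def cut (p r s : ℕ) (ws : List (List ℕ)) (M : ℕ) : ℕ :=
  List.rec M (fun w _ ih => force ih fun M' => force (evalK w r) fun r' => force (evalK w s) fun s' =>
    bif tb (row r') p then Nat.land M' (row s') else Nat.xor M' (Nat.land M' (row s'))) ws

theorem testBit_cut {x : RuOrder.H} {p r : Fin 4060} {M : ℕ}
    (hM : M.testBit ((x : Equiv.Perm (Fin 4060)) p) = true) : ∀ {ws : List (List ℕ)}, (∀ w ∈ ws, Cm x w) →
    (cut p r ((x : Equiv.Perm (Fin 4060)) r) ws M).testBit ((x : Equiv.Perm (Fin 4060)) p) = true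
  | [], _ => hM
  | w :: ws, hc => by
    have ih := testBit_cut (r := r) hM (ws := ws) fun w' h' => hc w' (List.mem_cons_of_mem _ h')
    have h0 := hc w List.mem_cons_self
    have e : cut p r ((x : Equiv.Perm (Fin 4060)) r) (w :: ws) M =
      force (cut p r ((x : Equiv.Perm (Fin 4060)) r) ws M) (fun M' => force (evalK w r) fun r' =>
        force (evalK w ((x : Equiv.Perm (Fin 4060)) r)) fun s' =>
          bif tb (row r') p then Nat.land M' (row s') else Nat.xor M' (Nat.land M' (row s'))) := rfl
    rw [e, force_eq, force_eq, force_eq]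
    have h3 : (row (evalK w ((x : Equiv.Perm (Fin 4060)) r))).testBit ((x : Equiv.Perm (Fin 4060)) p) =
        (row (evalK w r)).testBit p := by
      rw [← evalK_eq, ← evalK_eq, ← h0.apply]
      exact x.2 _ _
    rw [tb_eq]
    cases h4 : (row (evalK w r)).testBit p
    · rw [cond_false]
      change Nat.testBit (_ ^^^ (_ &&& _)) _ = true
      rw [Nat.testBit_xor, Nat.testBit_and, h3, h4, ih]
      rfl
    · rw [cond_true]
      change Nat.testBit (_ &&& _) _ = true
      rw [Nat.testBit_and, h3, h4, ih]
      rfl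

end Cfsg.Agent.OddHalf.D8.RuFam.TwCut
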