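import Cfsg.Agent.OddHalf.D8.RuFam.Facts
import Cfsg.Agent.OddHalf.D8.RuFam.TwCut

/-!
# K = Ru, packet TW: the line `z, v, z v` of type 240

`C(P₀ ∩ P₀^{k₂} ∩ P₀^{k₃}) = ⟨z, v, F z F⁻¹⟩` (order 8): an element `x` of it permutes the fixed points of stabilisers, and
it is determined by the images of the points `981, 902, 2075, 2050`.
-/

set_option autoImplicit false
set_option Elab.async false
set_option maxRecDepth 100000
set_option exponentiation.threshold 5000

namespace Cfsg.Agent.OddHalf.D8.RuFam.Tw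

open Subgroup Cfsg.Agent.Lib.BitNet Cfsg.Agent.Lib.BitNetSimple Cfsg.Agent.SporadicB Cfsg.Agent.SporadicB.RuData
open Cfsg.Agent.RuD.Letters Cfsg.Agent.RuD.Model Cfsg.Agent.SporRec.TCUpperCert Cfsg.Agent.SporRec.R3.Kernel
open Cfsg.Agent.OddHalf.D9.Ru Cfsg.Agent.OddHalf.D9.Ru.XDef Cfsg.Agent.OddHalf.D9.Ru.XChk
open Cfsg.Agent.OddHalf.D9.Ru.XData
open Cfsg.Agent.OddHalf.Table Cfsg.Agent.OddHalf.D8.RuFam.TwCut

/-! ### words -/

/-- a word in `T, s₁, D, Y, s₁⁻¹, D⁻¹` as a word in the letters -/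
def ew (w : List ℕ) : List ℕ := w.flatMap ex

def k2w : List ℕ := [3, 5, 7]
def k3w : List ℕ := [3, 0, 5, 7]
def k3i : List ℕ := [3, 5, 0, 7]
def hw : List ℕ := [3, 5, 3, 1, 7, 0, 5, 4, 3, 4, 3, 1, 7, 8]
def f2w : List ℕ := hw ++ ew [5, 4, 3, 0, 1, 2, 3, 1]
def gw4 : List ℕ := [7, 7, 5, 3]

noncomputable def k₂ : RuOrder.H := wprod ml k2w
noncomputable def k₃ : RuOrder.H := wprod ml k3w
noncomputable def h : RuOrder.H := wprod ml hw
noncomputable def f₂ : RuOrder.H := wprod ml f2w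
noncomputable def v : RuOrder.H := k₂ * (S * S) * k₂⁻¹

/-- elements `x` of `F₁ = P₀ ∩ P₀^{k₂} ∩ P₀^{k₃}`: words of `x`, `k₂⁻¹ x k₂`, `k₃⁻¹ x k₃` -/
def fw : List (List ℕ × List ℕ × List ℕ) := [
  ([3, 1, 3, 1, 3, 1], [2, 4, 3, 4, 5, 0, 3, 1, 5, 0, 3, 1, 2], [2, 4, 3, 4, 5, 0, 3, 1, 5, 0, 3, 1, 2]),
  ([2, 0, 1, 3, 2, 0, 1, 3], [2, 0, 3, 4, 0, 5, 0, 1, 3, 1, 2, 1], [3, 4, 0, 3, 1, 2, 4, 0, 5, 1]),
  ([2, 4, 0, 5, 4, 3, 0, 1, 3], [3, 0, 2, 4, 2, 4, 3, 1, 5], [2, 4, 3, 1, 5, 1, 5, 0, 3]),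
  ([3, 4, 2, 1, 2, 1, 3, 0, 5], [5, 4, 2, 4, 5, 1, 2], [2, 0, 1, 2, 1, 3, 1, 1, 3, 2, 1]),
  ([2, 0, 3, 0, 1, 5, 4, 0, 3, 4, 2, 0], [2, 0, 1, 3, 2, 4, 0, 3, 0, 1], [2, 0, 1, 3, 2, 0, 1, 3, 1, 1]),
  ([3, 1, 5, 0, 1, 3, 4, 0, 5, 0, 3, 0], [3, 4, 3, 4, 3, 1], [3, 0, 5, 4, 0, 3, 0, 1, 5, 1, 3, 1]),
  ([5, 1, 3, 0, 1, 2, 4, 3, 0, 2, 3, 0], [2, 0, 1, 3, 2, 0, 1, 3, 1, 1], [2, 0, 1, 3, 2, 4, 0, 3, 0, 1])]

/-- the word of the `i`-th element -/
def fx (i : ℕ) : List ℕ := ew (fw.getD i ([], [], [])).1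

/-- elements of `F₁` fixing the four points -/
def s0 : List (List ℕ) := [fx 0, fx 6]
def s1 : List (List ℕ) := [fx 0, fx 4]
def s2 : List (List ℕ) := [fx 5, fx 6]
def s3 : List (List ℕ) := [fx 0, fx 1]

/-- elements of `F₁` for the adjacencies -/
def sw4 : List (List ℕ) := [fx 4, fx 2, fx 3]

/-- possible images of `981, 902, 2075, 2050` -/
def tab : List (ℕ × List ℕ × List ℕ × List ℕ) := [
  (324, [2775], [], [1091]), (840, [273], [1088, 2075], [2297]), (981, [902], [1088, 2075], [2050]),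
  (1536, [1325], [], [2045]), (2134, [2049], [944, 3512], [2264]), (2722, [], [], []), (3104, [], [], []),
  (3135, [], [], []), (3255, [349], [944, 3512], [301]), (3671, [905], [], [1889]), (3946, [2014], [], [873]),
  (3963, [], [], [])]

/-- the centraliser -/
def cw : List (List ℕ) := [[], [1, 1], [3, 5, 7, 1, 1, 3, 5, 7], [1, 1, 3, 5, 7, 1, 1, 3, 5, 7], [3, 1, 1, 7],
  [3, 1, 1, 7, 1, 1], [3, 1, 1, 7, 3, 5, 7, 1, 1, 3, 5, 7], [3, 1, 1, 7, 1, 1, 3, 5, 7, 1, 1, 3, 5, 7]]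

/-! ### checks -/

noncomputable def an (a b : Bool) : Bool := Bool.rec false b a

theorem an_iff {a b : Bool} : an a b = true ↔ a = true ∧ b = true := by cases a <;> cases b <;> decide

theorem chk_fw : allL (fun e : List ℕ × List ℕ × List ℕ =>
    an (eqv (ew e.1 ++ k2w) (k2w ++ ew e.2.1)) (eqv (ew e.1 ++ k3w) (k3w ++ ew e.2.2))) fw = true := by
  decide +kernel

theorem fix0 : allL (fun w => Nat.beq (evalK w 981) 981) s0 = true := by decide +kernel
theorem fix1 : allL (fun w => Nat.beq (evalK w 902) 902) s1 = true := by decide +kernel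
theorem fix2 : allL (fun w => Nat.beq (evalK w 2075) 2075) s2 = true := by decide +kernel
theorem fix3 : allL (fun w => Nat.beq (evalK w 2050) 2050) s3 = true := by decide +kernel

theorem pts : allL (fun e : ℕ × ℕ => Nat.beq (evalK gw4 e.1) e.2) [(0, 981), (29, 902), (580, 2075), (577, 2050)] =
    true := by decide +kernel

theorem dom0 : Nat.beq (fixAll s0) (RuCent.mask (List.map Prod.fst tab)) = true := by decide +kernel

theorem chkT : force (fixAll s1) (fun M1 => force (fixAll s2) fun M2 => force (fixAll s3) fun M3 =>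
    allL (fun e : ℕ × List ℕ × List ℕ × List ℕ =>
      an (Nat.beq (cut 902 981 e.1 sw4 M1) (RuCent.mask e.2.1))
        (an (Nat.beq (cut 2075 981 e.1 sw4 M2) (RuCent.mask e.2.2.1))
        (Nat.beq (cut 2050 981 e.1 sw4 M3) (RuCent.mask e.2.2.2)))) tab) = true := by decide +kernel

/-- some element satisfies `p` -/
noncomputable def anyB {β : Type} (p : β → Bool) (l : List β) : Bool :=
  List.rec false (fun a _ ih => Bool.rec ih true (p a)) l

theorem anyB_iff {β : Type} {p : β → Bool} {l : List β} (h : anyB p l = true) : ∃ a ∈ l, p a = true := by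
  induction l with
  | nil =>
    have h' : (false : Bool) = true := h
    exact absurd h' (by decide)
  | cons a l ih =>
    have e : anyB p (a :: l) = Bool.rec (anyB p l) true (p a) := rfl
    rw [e] at h
    cases h' : p a
    · rw [h'] at h
      obtain ⟨b, hb, h2⟩ := ih h
      exact ⟨b, List.mem_cons_of_mem _ hb, h2⟩
    · exact ⟨a, List.mem_cons_self, h'⟩

theorem chkC : allL (fun e : ℕ × List ℕ × List ℕ × List ℕ => allL (fun q1 => allL (fun q2 => allL (fun q3 =>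
    anyB (fun c => an (an (Nat.beq (evalK c 981) e.1) (Nat.beq (evalK c 902) q1))
      (an (Nat.beq (evalK c 2075) q2) (Nat.beq (evalK c 2050) q3))) cw) e.2.2.2) e.2.2.1) e.2.1) tab = true := by
  decide +kernel

theorem chk_cf : allL (fun c => eqv (c ++ f2w) (f2w ++ c)) cw = true := by decide +kernel

/-! ### the centraliser -/

theorem beq_eq {a b : ℕ} (h : Nat.beq a b = true) : a = b := Nat.eq_of_beq_eq_true h

theorem centraliser {x : RuOrder.H} (hc : ∀ i < 7, Cm x (fx i)) : ∃ c ∈ cw, x = wprod ml c := by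
  have c0 : ∀ w ∈ s0, Cm x w := by
    intro w hw
    simp only [s0, List.mem_cons, List.not_mem_nil, or_false] at hw
    rcases hw with rfl | rfl
    exacts [hc 0 (by norm_num), hc 6 (by norm_num)]
  have c1 : ∀ w ∈ s1, Cm x w := by
    intro w hw
    simp only [s1, List.mem_cons, List.not_mem_nil, or_false] at hw
    rcases hw with rfl | rfl
    exacts [hc 0 (by norm_num), hc 4 (by norm_num)]
  have c2 : ∀ w ∈ s2, Cm x w := by
    intro w hw
    simp only [s2, List.mem_cons, List.not_mem_nil, or_false] at hw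
    rcases hw with rfl | rfl
    exacts [hc 5 (by norm_num), hc 6 (by norm_num)]
  have c3 : ∀ w ∈ s3, Cm x w := by
    intro w hw
    simp only [s3, List.mem_cons, List.not_mem_nil, or_false] at hw
    rcases hw with rfl | rfl
    exacts [hc 0 (by norm_num), hc 1 (by norm_num)]
  have c4 : ∀ w ∈ sw4, Cm x w := by
    intro w hw
    simp only [sw4, List.mem_cons, List.not_mem_nil, or_false] at hw
    rcases hw with rfl | rfl | rfl
    exacts [hc 4 (by norm_num), hc 2 (by norm_num), hc 3 (by norm_num)]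
  have f0 := (allL_iff _ _).1 fix0
  have f1 := (allL_iff _ _).1 fix1
  have f2 := (allL_iff _ _).1 fix2
  have f3 := (allL_iff _ _).1 fix3
  have d0 : (fixAll s0).testBit ((x : Equiv.Perm (Fin 4060)) ⟨981, by norm_num⟩) = true :=
    testBit_dom c0 fun w hw => beq_eq (f0 w hw)
  have d1 : (fixAll s1).testBit ((x : Equiv.Perm (Fin 4060)) ⟨902, by norm_num⟩) = true :=
    testBit_dom c1 fun w hw => beq_eq (f1 w hw)
  have d2 : (fixAll s2).testBit ((x : Equiv.Perm (Fin 4060)) ⟨2075, by norm_num⟩) = true :=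
    testBit_dom c2 fun w hw => beq_eq (f2 w hw)
  have d3 : (fixAll s3).testBit ((x : Equiv.Perm (Fin 4060)) ⟨2050, by norm_num⟩) = true :=
    testBit_dom c3 fun w hw => beq_eq (f3 w hw)
  rw [beq_eq dom0] at d0
  obtain ⟨e, he, e0⟩ := List.mem_map.1 (RuCent.mem_of_testBit_mask _ d0)
  have hT := chkT
  rw [force_eq, force_eq, force_eq] at hT
  have hT' := (allL_iff _ _).1 hT e he
  rw [an_iff, an_iff] at hT'
  obtain ⟨t1, t2, t3⟩ := hT'
  rw [e0] at t1 t2 t3
  have q1 := testBit_cut (r := ⟨981, by norm_num⟩) d1 c4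
  have q2 := testBit_cut (r := ⟨981, by norm_num⟩) d2 c4
  have q3 := testBit_cut (r := ⟨981, by norm_num⟩) d3 c4
  have t1' : cut 902 981 ((x : Equiv.Perm (Fin 4060)) ⟨981, by norm_num⟩ : ℕ) sw4 (fixAll s1) = RuCent.mask e.2.1 :=
    beq_eq t1
  have t2' : cut 2075 981 ((x : Equiv.Perm (Fin 4060)) ⟨981, by norm_num⟩ : ℕ) sw4 (fixAll s2) =
    RuCent.mask e.2.2.1 := beq_eq t2
  have t3' : cut 2050 981 ((x : Equiv.Perm (Fin 4060)) ⟨981, by norm_num⟩ : ℕ) sw4 (fixAll s3) =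
    RuCent.mask e.2.2.2 := beq_eq t3
  have q1' : (cut 902 981 ((x : Equiv.Perm (Fin 4060)) ⟨981, by norm_num⟩ : ℕ) sw4 (fixAll s1)).testBit
    ((x : Equiv.Perm (Fin 4060)) ⟨902, by norm_num⟩) = true := q1
  have q2' : (cut 2075 981 ((x : Equiv.Perm (Fin 4060)) ⟨981, by norm_num⟩ : ℕ) sw4 (fixAll s2)).testBit
    ((x : Equiv.Perm (Fin 4060)) ⟨2075, by norm_num⟩) = true := q2
  have q3' : (cut 2050 981 ((x : Equiv.Perm (Fin 4060)) ⟨981, by norm_num⟩ : ℕ) sw4 (fixAll s3)).testBit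
    ((x : Equiv.Perm (Fin 4060)) ⟨2050, by norm_num⟩) = true := q3
  rw [t1'] at q1'
  rw [t2'] at q2'
  rw [t3'] at q3'
  have m1 := RuCent.mem_of_testBit_mask _ q1'
  have m2 := RuCent.mem_of_testBit_mask _ q2'
  have m3 := RuCent.mem_of_testBit_mask _ q3'
  have hC := (allL_iff _ _).1 ((allL_iff _ _).1 ((allL_iff _ _).1 ((allL_iff _ _).1 chkC e he) _ m1) _ m2) _ m3
  obtain ⟨c, hc', hC'⟩ := anyB_iff hC
  rw [an_iff, an_iff, an_iff] at hC'
  obtain ⟨⟨g0, g1⟩, g2, g3⟩ := hC'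
  rw [e0] at g0
  refine ⟨c, hc', ?_⟩
  have hp := (allL_iff _ _).1 pts
  have key : ∀ (b p : Fin 4060), evalK gw4 b = p → evalK c p = (x : Equiv.Perm (Fin 4060)) p →
      (((x * wprod ml gw4 : RuOrder.H) : Equiv.Perm (Fin 4060)) b : ℕ) =
        ((wprod ml c * wprod ml gw4 : RuOrder.H) : Equiv.Perm (Fin 4060)) b := by
    intro b p h1 h2
    have h3 : ((wprod ml gw4 : RuOrder.H) : Equiv.Perm (Fin 4060)) b = p := by
      apply Fin.ext
      rw [evalK_eq, h1]
    change ((x : Equiv.Perm (Fin 4060)) (((wprod ml gw4 : RuOrder.H) : Equiv.Perm (Fin 4060)) b) : ℕ) =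
      ((wprod ml c : RuOrder.H) : Equiv.Perm (Fin 4060)) (((wprod ml gw4 : RuOrder.H) : Equiv.Perm (Fin 4060)) b)
    rw [h3, evalK_eq, h2]
  have hx : x * wprod ml gw4 = wprod ml c * wprod ml gw4 := by
    apply eq_of_base
    intro b hb
    simp only [List.mem_cons, List.not_mem_nil, or_false] at hb
    rcases hb with rfl | rfl | rfl | rfl
    · exact key _ ⟨981, by norm_num⟩ (beq_eq (hp (0, 981) (by simp))) (beq_eq g0)
    · exact key _ ⟨902, by norm_num⟩ (beq_eq (hp (29, 902) (by simp))) (beq_eq g1)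
    · exact key _ ⟨2075, by norm_num⟩ (beq_eq (hp (580, 2075) (by simp))) (beq_eq g2)
    · exact key _ ⟨2050, by norm_num⟩ (beq_eq (hp (577, 2050) (by simp))) (beq_eq g3)
  exact mul_right_cancel hx

theorem cent_f {x : RuOrder.H} (hc : ∀ i < 7, Cm x (fx i)) : x * f₂ = f₂ * x := by
  obtain ⟨c, hc', rfl⟩ := centraliser hc
  have h1 := eqv_sound ((allL_iff _ _).1 chk_cf c hc')
  rw [wprod_append, wprod_append] at h1
  exact h1

/-! ### `h ∉ P₀` -/

/-- for every element of `⟨T, D, Y⟩` some generator of `E` is moved differently by `h`, modulo `z` -/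
theorem chk_h : allL (fun i => anyB (fun j =>
    Bool.rec (Bool.rec true false (eqv (hw ++ ew (gg [j]) ++ hw ++ ew (aw.getD i []))
      (ew (aw.getD i []) ++ ew (gg [j]) ++ [1, 1]))) false
    (eqv (hw ++ ew (gg [j]) ++ hw ++ ew (aw.getD i [])) (ew (aw.getD i []) ++ ew (gg [j])))) [6, 7, 8, 9, 10])
    (List.range 60) = true := by decide +kernel

theorem chk_hh : eqv (hw ++ hw) [] = true := by decide +kernel

end Cfsg.Agent.OddHalf.D8.RuFam.Tw
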