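import Cfsg.Agent.OddHalf.D8.RuFam.CentCert

/-!
# ODD half, D8, K = Ru: the field `Twist.cen` (helper464)

`P₀ = XDef.P1`, `k₂ = [3,5,7]`, `k₃ = [3,0,5,7]`, `f₂ = h₀ G[1,4] [0,4,0]`: every element commuting with the six
generators `X` of `P₀ ∩ P₀^{k₂} ∩ P₀^{k₃}` (order 256) is one of eight words, and they commute with `f₂`.
-/

set_option autoImplicit false
set_option maxRecDepth 100000

namespace Cfsg.Agent.OddHalf.D8.RuFam.TwistCen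

open Cfsg.Agent.SporadicB Cfsg.Agent.RuD.Letters Cfsg.Agent.SporRec.TCUpperCert Cfsg.Agent.SporRec.R3.Kernel
open Cfsg.Agent.OddHalf.D9.Ru.XDef Cfsg.Agent.OddHalf.D9.Ru.XChk Cfsg.Agent.OddHalf.D8.RuFam.CentCert

/-- the generators in the letters `T, s₁, D, Y, s₁⁻¹, D⁻¹`, and their conjugates under `k₂⁻¹`, `k₃⁻¹` -/
def tab : List (List ℕ × List ℕ × List ℕ) :=
  [([1], [1], [1]), ([5, 1, 1, 2], [3, 1, 0, 5, 0, 3, 1, 5, 1, 0, 3, 2, 0], [3, 1, 0, 5, 0, 3, 1, 5, 1, 0, 3, 2,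
  0]), ([3, 1, 1, 3, 0], [0, 3, 1, 1, 3], [3, 1, 1, 3, 0]), ([3, 1, 3, 1, 3], [3, 1, 5, 1, 0, 3, 4, 0, 5, 0, 3,
  1, 0], [3, 1, 5, 1, 0, 3, 4, 0, 5, 0, 3, 1, 0]), ([2, 1, 0, 3, 2, 1, 0, 3], [2, 0, 3, 4, 0, 5, 1, 0, 3, 1, 2,
  1], [2, 1, 0, 5, 4, 3, 4, 0, 3, 0]), ([2, 3, 4, 2, 3, 1, 5, 0, 3], [0, 3, 2, 1, 3, 4, 5, 4, 0, 3], [1, 2, 0,
  3, 1, 0, 5, 4, 0, 3, 1, 2, 0])]

/-- the generators in the letters of `ml` -/
def X : List (List ℕ) :=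
  [[3, 1, 7], [8, 3, 1, 7, 3, 1, 7, 4], [5, 3, 1, 7, 3, 1, 7, 5, 0], [5, 3, 1, 7, 5, 3, 1, 7, 5], [4, 3, 1, 7,
  0, 5, 4, 3, 1, 7, 0, 5], [4, 5, 3, 6, 7, 4, 5, 3, 1, 7, 8, 0, 5]]

/-- the eight words -/
def cs : List (List ℕ) :=
  [[], [3, 1, 7, 3, 1, 7], [5, 3, 1, 7, 5, 3, 1, 7, 5, 3, 1, 7], [5, 3, 6, 7, 5, 3, 6, 7, 5, 3, 1, 7], [5, 3, 1,
  7, 8, 3, 1, 7, 0, 5, 3, 6, 7, 0, 8, 0, 5, 0], [5, 0, 4, 3, 1, 7, 0, 5, 3, 6, 7, 0, 4, 3, 6, 7, 5, 0], [5, 3,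
  6, 7, 4, 3, 6, 7, 0, 5, 3, 1, 7, 8, 0, 5, 4, 3, 1, 7], [4, 3, 6, 7, 5, 3, 6, 7, 8, 0, 5, 3, 1, 7, 8, 0, 5, 3,
  1, 7, 4]]

/-- the fixed points of the first involution -/
def L : List ℕ :=
  [18, 58, 105, 115, 123, 142, 169, 221, 263, 292, 358, 401, 417, 436, 545, 591, 601, 645, 794, 803, 804, 809,
  827, 845, 984, 1090, 1116, 1129, 1167, 1175, 1217, 1233, 1240, 1249, 1401, 1545, 1549, 1587, 1641, 1647, 1650,
  1678, 1712, 1725, 1838, 1849, 1853, 1865, 1940, 1972, 2030, 2047, 2085, 2141, 2142, 2182, 2194, 2289, 2331,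
  2338, 2349, 2373, 2411, 2442, 2475, 2478, 2486, 2642, 2722, 2761, 2811, 2837, 2873, 2942, 2961, 2963, 3104,
  3133, 3135, 3183, 3334, 3355, 3412, 3426, 3469, 3507, 3519, 3577, 3885, 3939, 3963, 4039]

theorem chk : chkC X cs (18 : Fin 4060) [1] L [[0], [4], [0, 4], [5]]
    [[0, 4, 0], [0, 5, 0], [], [5, 5, 0, 0], [3, 5, 5, 4], [5, 5, 4, 2, 0], [5, 2], [3, 4, 5, 4, 0], [5, 4, 2], [0, 0, 0]] = true := by decide +kernel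

/-- `f₂` -/
def f2w : List ℕ := [3, 5, 3, 1, 7, 0, 5, 4, 3, 4, 3, 1, 7, 8, 4, 3, 1, 7, 0, 8, 5, 4, 3, 1, 7, 0, 8, 5, 0, 4, 0]

theorem chkf : allL (fun w => eqv (w ++ f2w) (f2w ++ w)) cs = true := by decide +kernel

theorem chkX : tab.map (fun t => t.1.flatMap ex) = X := by decide +kernel

theorem chkt : allL (fun t : List ℕ × List ℕ × List ℕ => eqv (t.1.flatMap ex ++ [3, 5, 7]) ([3, 5, 7] ++ t.2.1.flatMap ex)
    && eqv (t.1.flatMap ex ++ [3, 0, 5, 7]) ([3, 0, 5, 7] ++ t.2.2.flatMap ex)) tab = true := by decide +kernel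

/-- **`Twist.cen`** -/
theorem cen (c : RuOrder.H) (hc : ∀ x ∈ P1, (wprod ml [3, 5, 7] : RuOrder.H)⁻¹ * x * wprod ml [3, 5, 7] ∈ P1 →
    (wprod ml [3, 0, 5, 7] : RuOrder.H)⁻¹ * x * wprod ml [3, 0, 5, 7] ∈ P1 → c * x = x * c) :
    c * wprod ml f2w = wprod ml f2w * c := by
  have hX : ∀ x ∈ X, c * wprod ml x = wprod ml x * c := by
    intro x hx
    rw [← chkX] at hx
    obtain ⟨t, ht, rfl⟩ := List.mem_map.1 hx
    have h := (allL_iff _ _).1 chkt t ht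
    rw [Bool.and_eq_true] at h
    have h1 := eqv_sound h.1
    have h2 := eqv_sound h.2
    rw [wprod_append, wprod_append] at h1 h2
    refine hc (V t.1) (V_mem _) ?_ ?_
    · have e : (wprod ml [3, 5, 7] : RuOrder.H)⁻¹ * V t.1 * wprod ml [3, 5, 7] = V t.2.1 := by
        rw [mul_assoc, inv_mul_eq_iff_eq_mul]
        exact h1
      rw [e]
      exact V_mem _
    · have e : (wprod ml [3, 0, 5, 7] : RuOrder.H)⁻¹ * V t.1 * wprod ml [3, 0, 5, 7] = V t.2.2 := by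
        rw [mul_assoc, inv_mul_eq_iff_eq_mul]
        exact h2
      rw [e]
      exact V_mem _
  obtain ⟨w, hw, rfl⟩ := cent chk c hX
  have h := eqv_sound ((allL_iff _ _).1 chkf w hw)
  rwa [wprod_append, wprod_append] at h

end Cfsg.Agent.OddHalf.D8.RuFam.TwistCen
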