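import Cfsg.Agent.OddHalf.D8.RuFam.BDef
import Cfsg.Agent.OddHalf.D9.Ru.XCover

/-!
# ODD half, D8, K = Ru: reflection of word identities in `RuOrder.H`

Expressions in words of the letters `t, s, w, f, d, y, s⁻¹, f⁻¹, d⁻¹` and `z = S * S`, with products and inverses;
`X.eq_of`: two expressions with the same values at the base points are equal.
-/

set_option autoImplicit false
set_option maxRecDepth 100000

namespace Cfsg.Agent.OddHalf.D8.RuFam.WordX

open Subgroup Cfsg.Agent.SporadicB Cfsg.Agent.RuD.Letters Cfsg.Agent.SporRec.TCUpperCert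
open Cfsg.Agent.SporadicB.RuOrder Cfsg.Agent.SporRec.R3.Kernel
open Cfsg.Agent.OddHalf.D9.Ru Cfsg.Agent.OddHalf.D9.Ru.XDef Cfsg.Agent.OddHalf.D9.Ru.XData
open Cfsg.Agent.OddHalf.D9.Ru.XChk Cfsg.Agent.OddHalf.D8.RuFam.BDef

/-- the inverse letter -/
def iL (a : ℕ) : ℕ := [0, 6, 2, 7, 8, 5, 1, 3, 4].getD a 9

/-- the inverse word -/
def iw (w : List ℕ) : List ℕ := (w.map iL).reverse

theorem chk_iL : ∀ a < 9, eqv [a, iL a] [] = true := by decide +kernel

theorem lv_inv (a : ℕ) : lv ml (iL a) = (lv ml a)⁻¹ := by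
  rcases lt_or_ge a 9 with h | h
  · have h1 := eqv_sound (chk_iL a h)
    rw [wprod_cons, wprod_cons, wprod_nil, mul_one] at h1
    exact (inv_eq_of_mul_eq_one_right h1).symm
  · have e : iL a = 9 := List.getD_eq_default _ _ (by exact h)
    rw [e, lv_of_ge ml a h, lv_of_ge ml 9 (by decide), inv_one]

theorem wprod_iw (w : List ℕ) : wprod ml (iw w) = (wprod ml w : RuOrder.H)⁻¹ := by
  induction w with
  | nil => exact inv_one.symm
  | cons a w ih =>
    have e : iw (a :: w) = iw w ++ [iL a] := by rw [iw, List.map_cons, List.reverse_cons]; rfl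
    rw [e, wprod_append, ih, wprod_cons, wprod_nil, mul_one, wprod_cons, lv_inv, mul_inv_rev]

/-- equal elements have equal values -/
theorem eqv_complete {u v : List ℕ} (h : (wprod ml u : RuOrder.H) = wprod ml v) : eqv u v = true := by
  unfold eqv
  rw [allL_iff]
  intro b hb
  simp only [List.mem_cons, List.not_mem_nil, or_false] at hb
  have key : ∀ b : Fin 4060, Nat.beq (evalK u b) (evalK v b) = true := by
    intro b
    rw [← evalK_eq, ← evalK_eq, h]
    exact Nat.beq_refl _
  rcases hb with rfl | rfl | rfl | rfl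
  · exact key ⟨0, by norm_num⟩
  · exact key ⟨29, by norm_num⟩
  · exact key ⟨580, by norm_num⟩
  · exact key ⟨577, by norm_num⟩

theorem ne_of_eqv {u v : List ℕ} (h : eqv u v = false) : (wprod ml u : RuOrder.H) ≠ wprod ml v := by
  intro e
  rw [eqv_complete e] at h
  exact Bool.noConfusion h

/-- expressions -/
inductive X
  | w (l : List ℕ)
  | zz
  | mul (a b : X)
  | inv (a : X)

/-- the value -/
noncomputable def X.val : X → RuOrder.H
  | .w l => wprod ml l
  | .zz => S * S
  | .mul a b => a.val * b.val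
  | .inv a => (a.val)⁻¹

/-- the word -/
def X.word : X → List ℕ
  | .w l => l
  | .zz => [1, 1]
  | .mul a b => a.word ++ b.word
  | .inv a => iw a.word

theorem X.val_eq : ∀ x : X, x.val = wprod ml x.word
  | .w _ => rfl
  | .zz => by
    show S * S = wprod ml [1, 1]
    rw [wprod_cons, wprod_cons]
    exact (mul_one (S * S)).symm
  | .mul a b => by
    show a.val * b.val = wprod ml (a.word ++ b.word)
    rw [wprod_append, X.val_eq a, X.val_eq b]
  | .inv a => by
    show (a.val)⁻¹ = wprod ml (iw a.word)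
    rw [wprod_iw, X.val_eq a]

theorem X.eq_of {x y : X} (h : eqv x.word y.word = true) : x.val = y.val := by
  rw [X.val_eq, X.val_eq]
  exact eqv_sound h

theorem X.ne_of {x y : X} (h : eqv x.word y.word = false) : x.val ≠ y.val := by
  rw [X.val_eq, X.val_eq]
  exact ne_of_eqv h

/-- the word of a product of the generators of `R` -/
def gW (l : List ℕ) : List ℕ := (gg l).flatMap ex

theorem wprod_gW (l : List ℕ) : wprod ml (gW l) = G l := rfl

theorem X.eq_G {x : X} {l : List ℕ} (h : eqv x.word (gW l) = true) : x.val = G l :=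
  X.eq_of (y := .w (gW l)) h

/-- membership in `E` -/
theorem X.mem_E {x : X} (m : ℕ) (hm : m < 32) (h : eqv x.word (gW (msk m)) = true) : x.val ∈ XR.E := by
  rw [X.eq_G h]
  exact msk_mem hm

/-- membership in `R` -/
theorem X.mem_R {x : X} (l : List ℕ) (hl : inr 0 11 l = true) (h : eqv x.word (gW l) = true) : x.val ∈ XR.R := by
  rw [X.eq_G h]
  exact XR.G_mem_R hl

/-- membership in `B` -/
theorem X.mem_B {x : X} (c m : ℕ) (hc : c < 4) (hm : m < 32) (h : eqv x.word (gW (cs c ++ msk m)) = true) :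
    x.val ∈ B := by
  rw [X.eq_G h]
  exact mem_B_msk.2 ⟨c, hc, m, hm, rfl⟩

/-- membership in `P1` -/
theorem X.mem_P {x : X} (l v : List ℕ) (h : eqv x.word ((gg l ++ v).flatMap ex) = true) : x.val ∈ P1 := by
  rw [X.eq_of (y := .w ((gg l ++ v).flatMap ex)) h]
  exact V_mem _

end Cfsg.Agent.OddHalf.D8.RuFam.WordX
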